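import Mathlib
import Cfsg.Prelude.Def_Sporadic_a

set_option autoImplicit false

namespace Cfsg.Agent.Lib.Helper12.Golay

open Cfsg

/-- Index of a point of the 24-point set: residues `0..22`, the extra point is `23`. -/
def idx : GolayPt → ℕ
  | none => 23
  | some x => ZMod.val x

/-- The point with a given index (indices `≥ 23` give the extra point). -/
def pt (i : ℕ) : GolayPt := if i < 23 then some ((i : ℕ) : ZMod 23) else none

theorem idx_lt (p : GolayPt) : idx p < 24 := by
  revert p; decide

theorem pt_idx (p : GolayPt) : pt (idx p) = p := by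
  revert p; decide

theorem idx_pt_fin : ∀ i : Fin 24, idx (pt i) = i := by decide

theorem idx_pt {i : ℕ} (h : i < 24) : idx (pt i) = i := idx_pt_fin ⟨i, h⟩

theorem idx_injective : Function.Injective idx := by
  intro p q h
  rw [← pt_idx p, ← pt_idx q, h]

/-- The subset of the 24 points with a given bitmask. -/
def fs (m : ℕ) : Finset GolayPt := Finset.univ.filter fun p => m.testBit (idx p) = true

theorem mem_fs {m : ℕ} {p : GolayPt} : p ∈ fs m ↔ m.testBit (idx p) = true := by
  simp [fs]

/-- The bitmask of a subset of the 24 points. -/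
def mask (s : Finset GolayPt) : ℕ := Nat.ofBits fun i : Fin 24 => decide (pt i ∈ s)

theorem testBit_mask_idx (s : Finset GolayPt) (p : GolayPt) :
    (mask s).testBit (idx p) = decide (p ∈ s) := by
  rw [mask, Nat.testBit_ofBits_lt _ _ (idx_lt p)]
  simp only [pt_idx]

theorem testBit_mask_of_lt (s : Finset GolayPt) {i : ℕ} (h : i < 24) :
    (mask s).testBit i = decide (pt i ∈ s) := by
  rw [mask, Nat.testBit_ofBits_lt _ _ h]

theorem testBit_mask_ge (s : Finset GolayPt) {i : ℕ} (h : 24 ≤ i) : (mask s).testBit i = false :=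
  Nat.testBit_ofBits_ge _ _ h

theorem mask_lt (s : Finset GolayPt) : mask s < 2 ^ 24 := Nat.ofBits_lt_two_pow _

theorem fs_mask (s : Finset GolayPt) : fs (mask s) = s := by
  ext p
  rw [mem_fs, testBit_mask_idx]
  simp

theorem testBit_eq_false_of_lt {m i : ℕ} (hm : m < 2 ^ 24) (hi : 24 ≤ i) : m.testBit i = false :=
  Nat.testBit_lt_two_pow (lt_of_lt_of_le hm (Nat.pow_le_pow_right (by norm_num) hi))

theorem mask_fs {m : ℕ} (hm : m < 2 ^ 24) : mask (fs m) = m := by
  apply Nat.eq_of_testBit_eq
  intro i
  by_cases hi : i < 24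
  · rw [testBit_mask_of_lt _ hi]
    have : (pt i ∈ fs m) ↔ m.testBit i = true := by rw [mem_fs, idx_pt hi]
    cases h : m.testBit i <;> simp [this, h]
  · rw [testBit_mask_ge _ (not_lt.mp hi), testBit_eq_false_of_lt hm (not_lt.mp hi)]

theorem mask_injective : Function.Injective mask := by
  intro s t h
  rw [← fs_mask s, ← fs_mask t, h]

theorem fs_inj {m n : ℕ} (hm : m < 2 ^ 24) (hn : n < 2 ^ 24) (h : fs m = fs n) : m = n := by
  rw [← mask_fs hm, ← mask_fs hn, h]

theorem fs_and (m n : ℕ) : fs (m &&& n) = fs m ∩ fs n := by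
  ext p
  simp [mem_fs, Nat.testBit_and]

theorem fs_or (m n : ℕ) : fs (m ||| n) = fs m ∪ fs n := by
  ext p
  simp [mem_fs, Nat.testBit_or]

theorem fs_xor (m n : ℕ) : fs (m ^^^ n) = symmDiff (fs m) (fs n) := by
  ext p
  simp only [mem_fs, Nat.testBit_xor, Finset.mem_symmDiff]
  cases m.testBit (idx p) <;> cases n.testBit (idx p) <;> simp

theorem fs_zero : fs 0 = ∅ := by
  ext p
  simp [mem_fs]

theorem mask_inter (s t : Finset GolayPt) : mask (s ∩ t) = mask s &&& mask t := by
  have h : (mask s &&& mask t) < 2 ^ 24 := lt_of_le_of_lt Nat.and_le_left (mask_lt s)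
  rw [← mask_fs h, fs_and, fs_mask, fs_mask]

theorem mask_union (s t : Finset GolayPt) : mask (s ∪ t) = mask s ||| mask t := by
  have h : (mask s ||| mask t) < 2 ^ 24 := Nat.or_lt_two_pow (mask_lt s) (mask_lt t)
  rw [← mask_fs h, fs_or, fs_mask, fs_mask]

theorem mask_symmDiff (s t : Finset GolayPt) : mask (symmDiff s t) = mask s ^^^ mask t := by
  have h : (mask s ^^^ mask t) < 2 ^ 24 := Nat.xor_lt_two_pow (mask_lt s) (mask_lt t)
  rw [← mask_fs h, fs_xor, fs_mask, fs_mask]

/-- The word over `ZMod 2` with a given bitmask as support. -/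
def wd (m : ℕ) : GolayPt → ZMod 2 := fun p => if m.testBit (idx p) = true then 1 else 0

theorem mem_support₂ (w : GolayPt → ZMod 2) (p : GolayPt) : p ∈ support₂ w ↔ w p ≠ 0 := by
  show p ∈ Finset.univ.filter (fun a => w a ≠ 0) ↔ _
  simp

theorem support₂_wd (m : ℕ) : support₂ (wd m) = fs m := by
  ext p
  rw [mem_support₂, mem_fs]
  simp only [wd]
  cases h : m.testBit (idx p) <;> simp

theorem wd_zero : wd 0 = 0 := by
  funext p
  simp [wd]

theorem zmod2_cases : ∀ a : ZMod 2, a = 0 ∨ a = 1 := by decide

theorem wd_xor (m n : ℕ) : wd (m ^^^ n) = wd m + wd n := by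
  funext p
  simp only [wd, Nat.testBit_xor, Pi.add_apply]
  cases m.testBit (idx p) <;> cases n.testBit (idx p) <;> simp <;> decide

/-- The bitmask of the support of a word. -/
def maskW (w : GolayPt → ZMod 2) : ℕ := mask (support₂ w)

theorem maskW_lt (w : GolayPt → ZMod 2) : maskW w < 2 ^ 24 := mask_lt _

theorem wd_maskW (w : GolayPt → ZMod 2) : wd (maskW w) = w := by
  funext p
  simp only [wd, maskW, testBit_mask_idx, mem_support₂, decide_eq_true_eq]
  rcases zmod2_cases (w p) with h | h <;> simp [h]

theorem maskW_wd {m : ℕ} (hm : m < 2 ^ 24) : maskW (wd m) = m := by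
  rw [maskW, support₂_wd, mask_fs hm]

theorem wd_inj {m n : ℕ} (hm : m < 2 ^ 24) (hn : n < 2 ^ 24) (h : wd m = wd n) : m = n := by
  rw [← maskW_wd hm, ← maskW_wd hn, h]

theorem support₂_eq_iff (w : GolayPt → ZMod 2) (s : Finset GolayPt) :
    support₂ w = s ↔ w = wd (mask s) := by
  constructor
  · rintro rfl
    exact (wd_maskW w).symm
  · rintro rfl
    rw [support₂_wd, fs_mask]

/-- Population count of the low 24 bits. -/
def popcAux : ℕ → ℕ → ℕ
  | 0, _ => 0
  | k + 1, m => m % 2 + popcAux k (m / 2)

/-- Number of set bits among the low 24 bits. -/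
def popc (m : ℕ) : ℕ := popcAux 24 m

theorem popcAux_eq_sum (k m : ℕ) :
    popcAux k m = ∑ i ∈ Finset.range k, if m.testBit i = true then 1 else 0 := by
  induction k generalizing m with
  | zero => simp [popcAux]
  | succ k ih =>
    rw [popcAux, ih, Finset.sum_range_succ', add_comm]
    congr 1
    · apply Finset.sum_congr rfl
      intro i _
      rw [Nat.testBit_succ]
    · rw [Nat.testBit_zero]
      rcases Nat.mod_two_eq_zero_or_one m with h | h <;> simp [h]

theorem sum_idx (f : ℕ → ℕ) : ∑ p : GolayPt, f (idx p) = ∑ i ∈ Finset.range 24, f i := by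
  rw [Fintype.sum_option, Finset.sum_range_succ, add_comm]
  congr 1

theorem card_fs (m : ℕ) : (fs m).card = popc m := by
  rw [popc, popcAux_eq_sum, fs, Finset.card_filter]
  exact sum_idx (fun i => if m.testBit i = true then 1 else 0)

theorem card_eq_popc_mask (s : Finset GolayPt) : s.card = popc (mask s) := by
  rw [← card_fs, fs_mask]

/-- Bounded universal quantifier as a Boolean, evaluated from the top index down. -/
def allBelow : ℕ → (ℕ → Bool) → Bool
  | 0, _ => true
  | k + 1, p => p k && allBelow k p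

theorem allBelow_spec {n : ℕ} {p : ℕ → Bool} (h : allBelow n p = true) : ∀ k < n, p k = true := by
  induction n with
  | zero => intro k hk; omega
  | succ n ih =>
    rw [allBelow, Bool.and_eq_true] at h
    intro k hk
    rcases Nat.lt_succ_iff_lt_or_eq.mp hk with h1 | rfl
    · exact ih h.2 k h1
    · exact h.1

/-- Universal quantifier over a list as a Boolean. -/
def allL {α : Type*} : List α → (α → Bool) → Bool
  | [], _ => true
  | a :: l, p => p a && allL l p

theorem allL_spec {α : Type*} {l : List α} {p : α → Bool} (h : allL l p = true) :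
    ∀ a ∈ l, p a = true := by
  induction l with
  | nil => intro a ha; simp at ha
  | cons b l ih =>
    rw [allL, Bool.and_eq_true] at h
    intro a ha
    rcases List.mem_cons.mp ha with rfl | h1
    · exact h.1
    · exact ih h.2 a h1

end Cfsg.Agent.Lib.Helper12.Golay
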