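import Mathlib
import Cfsg.Prelude.Def_Sporadic_a
import Cfsg.Agent.Lib.Helper12.Golay.Mask

set_option autoImplicit false

namespace Cfsg.Agent.Lib.Helper12.Golay

open Cfsg

/-- A basis of the length-24 code in systematic form (row `i` has bit `i` set and no other bit
among `0..11`), as bitmasks. -/
def rows : List ℕ := [13062145, 4845570, 13938692, 7221256, 10170384, 11952160, 15515712, 2019456,
  4038912, 8077824, 11654144, 14919680]

/-- Bitmasks of the 23 translates of the squares modulo 23, followed by the all-ones word. -/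
def gensList : List ℕ := [340831, 681662, 1363324, 2726648, 5453296, 2517985, 5035970, 1683333,
  3366666, 6733332, 5078057, 1767507, 3535014, 7070028, 5751449, 3114291, 6228582, 4068557,
  8137114, 7885621, 7382635, 6376663, 4364719, 16777215]

/-- XOR of the members of a list selected by the bits `i, i+1, ...` of `u`. -/
def encL : List ℕ → ℕ → ℕ → ℕ
  | [], _, _ => 0
  | r :: rs, i, u => (if u.testBit i = true then r else 0) ^^^ encL rs (i + 1) u

/-- The codeword (as a bitmask) with information bits `u`. -/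
def enc (u : ℕ) : ℕ := encL rows 0 u

/-- Membership test for the code on bitmasks. -/
def isCode (m : ℕ) : Bool := enc (m % 4096) == m

theorem encL_lt (l : List ℕ) (hl : ∀ r ∈ l, r < 2 ^ 24) (i u : ℕ) : encL l i u < 2 ^ 24 := by
  induction l generalizing i with
  | nil => simp [encL]
  | cons r rs ih =>
    rw [encL]
    apply Nat.xor_lt_two_pow
    · split
      · exact hl r (List.mem_cons_self ..)
      · positivity
    · exact ih (fun r' hr' => hl r' (List.mem_cons_of_mem _ hr')) _

theorem rows_lt : ∀ r ∈ rows, r < 2 ^ 24 := by decide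

theorem gensList_lt : ∀ r ∈ gensList, r < 2 ^ 24 := by decide

theorem enc_lt (u : ℕ) : enc u < 2 ^ 24 := encL_lt rows rows_lt 0 u

theorem encL_xor (l : List ℕ) (i u v : ℕ) : encL l i (u ^^^ v) = encL l i u ^^^ encL l i v := by
  induction l generalizing i with
  | nil => simp [encL]
  | cons r rs ih =>
    simp only [encL, ih, Nat.testBit_xor]
    cases u.testBit i <;> cases v.testBit i
    · simp
    · simp only [Bool.false_bne, if_true, Bool.false_eq_true, if_false, Nat.zero_xor]
      ac_rfl
    · simp only [Bool.bne_false, if_true, Bool.false_eq_true, if_false, Nat.zero_xor]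
      ac_rfl
    · simp only [bne_self_eq_false, Bool.false_eq_true, if_false, if_true, Nat.zero_xor]
      have : r ^^^ encL rs (i + 1) u ^^^ (r ^^^ encL rs (i + 1) v) =
          (r ^^^ r) ^^^ (encL rs (i + 1) u ^^^ encL rs (i + 1) v) := by ac_rfl
      rw [this, Nat.xor_self, Nat.zero_xor]

theorem enc_xor (u v : ℕ) : enc (u ^^^ v) = enc u ^^^ enc v := encL_xor rows 0 u v

theorem wd_encL_mem (S : Submodule (ZMod 2) (GolayPt → ZMod 2)) (l : List ℕ)
    (hl : ∀ r ∈ l, wd r ∈ S) (i u : ℕ) : wd (encL l i u) ∈ S := by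
  induction l generalizing i with
  | nil => rw [encL, wd_zero]; exact S.zero_mem
  | cons r rs ih =>
    rw [encL, wd_xor]
    apply S.add_mem
    · split
      · exact hl r (List.mem_cons_self ..)
      · rw [wd_zero]; exact S.zero_mem
    · exact ih (fun r' hr' => hl r' (List.mem_cons_of_mem _ hr')) _

/-- The span of the systematic basis. -/
def rowSpan : Submodule (ZMod 2) (GolayPt → ZMod 2) :=
  Submodule.span (ZMod 2) {w | ∃ r ∈ rows, w = wd r}

theorem qrWord_eq : ∀ t : ZMod 23, ∀ p : GolayPt,
    qrWord t p = wd (gensList.getD (ZMod.val t) 0) p := by decide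

theorem one_eq : (1 : GolayPt → ZMod 2) = wd 16777215 := by
  funext p
  revert p
  decide

theorem gens_enc : ∀ g ∈ gensList, enc (g % 4096) = g := by decide

theorem rows_sel : ∀ j : Fin 12, encL gensList 0 ([8390313, 280, 8389785, 1400, 8390330, 8390551,
    8390093, 2000, 1347, 101, 8390243, 8390181].getD j 0) = rows.getD j 0 := by decide

theorem wd_rows_mem_rowSpan : ∀ r ∈ rows, wd r ∈ rowSpan :=
  fun r hr => Submodule.subset_span ⟨r, hr, rfl⟩

theorem wd_gens_mem_golayCode : ∀ g ∈ gensList, wd g ∈ golayCode := by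
  intro g hg
  obtain ⟨j, hj, rfl⟩ := List.mem_iff_getElem.mp hg
  have hlen : gensList.length = 24 := rfl
  by_cases h23 : j < 23
  · apply Submodule.subset_span
    left
    refine ⟨((j : ℕ) : ZMod 23), ?_⟩
    funext p
    rw [qrWord_eq]
    have hv : ZMod.val ((j : ℕ) : ZMod 23) = j := ZMod.val_natCast_of_lt h23
    rw [hv, List.getD_eq_getElem _ _ hj]
  · have hj23 : j = 23 := by omega
    subst hj23
    apply Submodule.subset_span
    right
    rw [Set.mem_singleton_iff]
    exact one_eq.symm

theorem golayCode_eq_rowSpan : golayCode = rowSpan := by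
  apply le_antisymm
  · apply Submodule.span_le.mpr
    rintro w (⟨t, rfl⟩ | hw)
    · have h1 : qrWord t = wd (gensList.getD (ZMod.val t) 0) := funext (qrWord_eq t)
      have hlt : ZMod.val t < gensList.length := lt_trans (ZMod.val_lt t) (by decide)
      have hmem : gensList.getD (ZMod.val t) 0 ∈ gensList := by
        rw [List.getD_eq_getElem _ _ hlt]
        exact List.getElem_mem hlt
      rw [h1, ← gens_enc _ hmem]
      exact wd_encL_mem rowSpan rows wd_rows_mem_rowSpan 0 _
    · rw [Set.mem_singleton_iff] at hw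
      rw [hw, one_eq, ← gens_enc 16777215 (by decide)]
      exact wd_encL_mem rowSpan rows wd_rows_mem_rowSpan 0 _
  · apply Submodule.span_le.mpr
    rintro w ⟨r, hr, rfl⟩
    obtain ⟨j, hj, rfl⟩ := List.mem_iff_getElem.mp hr
    have hlen : rows.length = 12 := rfl
    have := rows_sel ⟨j, by omega⟩
    simp only [List.getD_eq_getElem rows 0 hj] at this
    rw [← this]
    exact wd_encL_mem golayCode gensList wd_gens_mem_golayCode 0 _

theorem enc_mod_check : allBelow 4096 (fun u => enc u % 4096 == u) = true := by decide +kernel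

theorem enc_mod {u : ℕ} (hu : u < 4096) : enc u % 4096 = u := by
  have := allBelow_spec enc_mod_check u hu
  simpa using this

theorem enc_pow : ∀ j : Fin 12, enc (2 ^ (j : ℕ)) = rows.getD j 0 := by decide

theorem isCode_enc {u : ℕ} (hu : u < 4096) : isCode (enc u) = true := by
  rw [isCode, enc_mod hu]
  simp

theorem isCode_iff {m : ℕ} : isCode m = true ↔ ∃ u < 4096, enc u = m := by
  constructor
  · intro h
    refine ⟨m % 4096, Nat.mod_lt _ (by norm_num), ?_⟩
    simpa [isCode] using h
  · rintro ⟨u, hu, rfl⟩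
    exact isCode_enc hu

theorem mem_rowSpan_iff (w : GolayPt → ZMod 2) : w ∈ rowSpan ↔ ∃ u < 4096, w = wd (enc u) := by
  constructor
  · intro hw
    induction hw using Submodule.span_induction with
    | mem x hx =>
      obtain ⟨r, hr, rfl⟩ := hx
      obtain ⟨j, hj, rfl⟩ := List.mem_iff_getElem.mp hr
      have hlen : rows.length = 12 := rfl
      refine ⟨2 ^ j, ?_, ?_⟩
      · calc 2 ^ j < 2 ^ 12 := Nat.pow_lt_pow_right (by norm_num) (by omega)
          _ = 4096 := by norm_num
      · have := enc_pow ⟨j, by omega⟩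
        simp only [List.getD_eq_getElem rows 0 hj] at this
        rw [this]
    | zero => exact ⟨0, by norm_num, by rw [show enc 0 = 0 from by decide, wd_zero]⟩
    | add x y _ _ hx hy =>
      obtain ⟨u, hu, rfl⟩ := hx
      obtain ⟨v, hv, rfl⟩ := hy
      refine ⟨u ^^^ v, ?_, ?_⟩
      · exact Nat.xor_lt_two_pow (n := 12) hu hv
      · rw [enc_xor, wd_xor]
    | smul a x _ hx =>
      rcases zmod2_cases a with rfl | rfl
      · exact ⟨0, by norm_num, by rw [zero_smul, show enc 0 = 0 from by decide, wd_zero]⟩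
      · rw [one_smul]; exact hx
  · rintro ⟨u, _, rfl⟩
    exact wd_encL_mem rowSpan rows wd_rows_mem_rowSpan 0 u

/-- Membership of a word in the length-24 code, in terms of bitmasks. -/
theorem wd_mem_golayCode_iff {m : ℕ} (hm : m < 2 ^ 24) : wd m ∈ golayCode ↔ isCode m = true := by
  rw [golayCode_eq_rowSpan, mem_rowSpan_iff, isCode_iff]
  constructor
  · rintro ⟨u, hu, h⟩
    exact ⟨u, hu, (wd_inj hm (enc_lt u) h).symm⟩
  · rintro ⟨u, hu, rfl⟩
    exact ⟨u, hu, rfl⟩

theorem mem_golayCode_iff (w : GolayPt → ZMod 2) : w ∈ golayCode ↔ isCode (maskW w) = true := by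
  rw [← wd_mem_golayCode_iff (maskW_lt w), wd_maskW]

theorem mem_supports_golayCode_iff (s : Finset GolayPt) :
    s ∈ supports (golayCode : Set (GolayPt → ZMod 2)) ↔ isCode (mask s) = true := by
  rw [← wd_mem_golayCode_iff (mask_lt s)]
  constructor
  · rintro ⟨w, hw, rfl⟩
    have : wd (mask (support₂ w)) = w := wd_maskW w
    rw [this]
    exact hw
  · intro h
    exact ⟨wd (mask s), h, by rw [support₂_wd, fs_mask]⟩

theorem mem_wordsOfWeight_iff (s : Finset GolayPt) (n : ℕ) :
    s ∈ wordsOfWeight (golayCode : Set (GolayPt → ZMod 2)) n ↔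
      isCode (mask s) = true ∧ popc (mask s) = n := by
  show (s ∈ supports (golayCode : Set (GolayPt → ZMod 2)) ∧ s.card = n) ↔ _
  rw [mem_supports_golayCode_iff, card_eq_popc_mask]

theorem mem_octads_iff (s : Finset GolayPt) :
    s ∈ octads ↔ isCode (mask s) = true ∧ popc (mask s) = 8 := mem_wordsOfWeight_iff s 8

theorem mem_dodecads_iff (s : Finset GolayPt) :
    s ∈ dodecads ↔ isCode (mask s) = true ∧ popc (mask s) = 12 := mem_wordsOfWeight_iff s 12

theorem fs_mem_octads_iff {m : ℕ} (hm : m < 2 ^ 24) :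
    fs m ∈ octads ↔ isCode m = true ∧ popc m = 8 := by
  rw [mem_octads_iff, mask_fs hm]

theorem fs_mem_dodecads_iff {m : ℕ} (hm : m < 2 ^ 24) :
    fs m ∈ dodecads ↔ isCode m = true ∧ popc m = 12 := by
  rw [mem_dodecads_iff, mask_fs hm]

end Cfsg.Agent.Lib.Helper12.Golay
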