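import Mathlib
import Cfsg.Prelude.Def_Sporadic_a
import Cfsg.Agent.Lib.Helper12.Golay.Code

set_option autoImplicit false

namespace Cfsg.Agent.Lib.Helper12.Golay

open Cfsg
open scoped Pointwise

/-- The natural number with given list of bits (least significant first). -/
def ofBitsL : List Bool → ℕ
  | [] => 0
  | b :: l => (if b = true then 1 else 0) + 2 * ofBitsL l

theorem testBit_ofBitsL (l : List Bool) (j : ℕ) : (ofBitsL l).testBit j = l.getD j false := by
  induction l generalizing j with
  | nil => simp [ofBitsL]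
  | cons b l ih =>
    cases j with
    | zero =>
      rw [ofBitsL, Nat.testBit_zero]
      cases b <;> simp [Nat.add_mod]
    | succ j =>
      rw [ofBitsL, Nat.testBit_succ]
      have : ((if b = true then 1 else 0) + 2 * ofBitsL l) / 2 = ofBitsL l := by
        cases b
        · simp
        · simp only [if_true]; omega
      rw [this, ih]
      simp

/-- Action on bitmasks of the permutation whose inverse has table `Tinv`:
bit `j` of the result is bit `Tinv[j]` of the argument. -/
def actT (Tinv : List ℕ) (m : ℕ) : ℕ := ofBitsL (Tinv.map fun i => m.testBit i)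

theorem testBit_actT (Tinv : List ℕ) (m j : ℕ) :
    (actT Tinv m).testBit j = if h : j < Tinv.length then m.testBit Tinv[j] else false := by
  rw [actT, testBit_ofBitsL]
  split
  · rename_i h
    rw [List.getD_eq_getElem _ _ (by simpa using h)]
    simp
  · rename_i h
    rw [List.getD_eq_default _ _ (by simpa using h)]

theorem mem_smul_finset_iff' (σ : Equiv.Perm GolayPt) (s : Finset GolayPt) (p : GolayPt) :
    p ∈ σ • s ↔ σ.symm p ∈ s := by
  rw [← Finset.inv_smul_mem_iff]
  rfl

/-- `Tinv` is the table of the inverse of `σ`: `σ (pt Tinv[j]) = pt j` for `j < 24`. -/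
def IsInvTable (σ : Equiv.Perm GolayPt) (Tinv : List ℕ) : Prop :=
  Tinv.length = 24 ∧ ∀ j : Fin 24, σ (pt (Tinv.getD j 0)) = pt j

theorem IsInvTable.symm_pt {σ : Equiv.Perm GolayPt} {Tinv : List ℕ} (h : IsInvTable σ Tinv)
    {j : ℕ} (hj : j < 24) : σ.symm (pt j) = pt (Tinv.getD j 0) := by
  rw [Equiv.symm_apply_eq]
  exact (h.2 ⟨j, hj⟩).symm

theorem IsInvTable.lt {σ : Equiv.Perm GolayPt} {Tinv : List ℕ} (h : IsInvTable σ Tinv)
    (hlt : ∀ i ∈ Tinv, i < 24) {j : ℕ} (hj : j < 24) : Tinv.getD j 0 < 24 := by
  rw [List.getD_eq_getElem _ _ (by rw [h.1]; exact hj)]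
  exact hlt _ (List.getElem_mem _)

theorem mask_smul {σ : Equiv.Perm GolayPt} {Tinv : List ℕ} (h : IsInvTable σ Tinv)
    (hlt : ∀ i ∈ Tinv, i < 24) (s : Finset GolayPt) : mask (σ • s) = actT Tinv (mask s) := by
  apply Nat.eq_of_testBit_eq
  intro j
  rw [testBit_actT]
  have hlen : Tinv.length = 24 := h.1
  by_cases hj : j < 24
  · have hj' : j < Tinv.length := by rw [hlen]; exact hj
    rw [testBit_mask_of_lt _ hj, dif_pos hj']
    have hlt' := h.lt hlt hj
    rw [List.getD_eq_getElem _ _ hj'] at hlt'
    rw [testBit_mask_of_lt _ hlt']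
    have hiff : pt j ∈ σ • s ↔ pt Tinv[j] ∈ s := by
      rw [mem_smul_finset_iff', h.symm_pt hj, List.getD_eq_getElem _ _ hj']
    exact decide_eq_decide.mpr hiff
  · have hj' : ¬ j < Tinv.length := by rw [hlen]; exact hj
    rw [testBit_mask_ge _ (not_lt.mp hj), dif_neg hj']

theorem smul_fs {σ : Equiv.Perm GolayPt} {Tinv : List ℕ} (h : IsInvTable σ Tinv)
    (hlt : ∀ i ∈ Tinv, i < 24) {m : ℕ} (hm : m < 2 ^ 24) : σ • fs m = fs (actT Tinv m) := by
  rw [← fs_mask (σ • fs m), mask_smul h hlt, mask_fs hm]

/-- The linear map on words induced by a permutation of the points. -/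
noncomputable def permWord (σ : Equiv.Perm GolayPt) : (GolayPt → ZMod 2) →ₗ[ZMod 2] (GolayPt → ZMod 2) :=
  LinearMap.funLeft (ZMod 2) (ZMod 2) σ.symm

theorem permWord_apply (σ : Equiv.Perm GolayPt) (w : GolayPt → ZMod 2) (p : GolayPt) :
    permWord σ w p = w (σ.symm p) := rfl

theorem support₂_permWord (σ : Equiv.Perm GolayPt) (w : GolayPt → ZMod 2) :
    support₂ (permWord σ w) = σ • support₂ w := by
  ext p
  rw [mem_support₂, mem_smul_finset_iff', mem_support₂, permWord_apply]

/-- If a permutation maps the supports of the 12 basis words to supports of codewords, it maps the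
support of every codeword to the support of a codeword. -/
theorem smul_mem_supports_of_rows (σ : Equiv.Perm GolayPt)
    (h : ∀ r ∈ rows, isCode (mask (σ • fs r)) = true) (s : Finset GolayPt)
    (hs : s ∈ supports (golayCode : Set (GolayPt → ZMod 2))) :
    σ • s ∈ supports (golayCode : Set (GolayPt → ZMod 2)) := by
  obtain ⟨w, hw, rfl⟩ := hs
  have hmap : golayCode.map (permWord σ) ≤ golayCode := by
    conv_lhs => rw [golayCode_eq_rowSpan]
    rw [rowSpan, Submodule.map_span_le]
    rintro x ⟨r, hr, rfl⟩
    have h1 := h r hr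
    rw [← mem_supports_golayCode_iff] at h1
    obtain ⟨w', hw', hsupp⟩ := h1
    have : permWord σ (wd r) = w' := by
      have h2 : support₂ (permWord σ (wd r)) = σ • fs r := by rw [support₂_permWord, support₂_wd]
      rw [← wd_maskW (permWord σ (wd r)), ← wd_maskW w', maskW, maskW, h2, hsupp]
    rw [this]
    exact hw'
  refine ⟨permWord σ w, hmap ⟨w, hw, rfl⟩, support₂_permWord σ w⟩

/-- Membership criterion for the group of the length-24 code. -/
theorem mem_M24_of_rows (σ : Equiv.Perm GolayPt)
    (h : ∀ r ∈ rows, isCode (mask (σ • fs r)) = true) : σ ∈ M24 := by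
  show σ • supports (golayCode : Set (GolayPt → ZMod 2)) = supports (golayCode : Set (GolayPt → ZMod 2))
  have hsub : σ • supports (golayCode : Set (GolayPt → ZMod 2)) ⊆
      supports (golayCode : Set (GolayPt → ZMod 2)) := by
    rintro _ ⟨s, hs, rfl⟩
    exact smul_mem_supports_of_rows σ h s hs
  have hfin : (supports (golayCode : Set (GolayPt → ZMod 2))).Finite := Set.toFinite _
  apply Set.eq_of_subset_of_ncard_le hsub _ hfin
  have : (σ • supports (golayCode : Set (GolayPt → ZMod 2))) =
      (fun s : Finset GolayPt => σ • s) '' supports (golayCode : Set (GolayPt → ZMod 2)) := rfl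
  rw [this, Set.ncard_image_of_injective _ (MulAction.injective σ)]

theorem mem_M24_of_table {σ : Equiv.Perm GolayPt} {Tinv : List ℕ} (h : IsInvTable σ Tinv)
    (hlt : ∀ i ∈ Tinv, i < 24) (hc : ∀ r ∈ rows, isCode (actT Tinv r) = true) : σ ∈ M24 := by
  apply mem_M24_of_rows
  intro r hr
  rw [mask_smul h hlt, mask_fs (rows_lt r hr)]
  exact hc r hr

theorem smul_mem_supports_of_mem_M24 {σ : Equiv.Perm GolayPt} (hσ : σ ∈ M24) {s : Finset GolayPt}
    (hs : s ∈ supports (golayCode : Set (GolayPt → ZMod 2))) :
    σ • s ∈ supports (golayCode : Set (GolayPt → ZMod 2)) := by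
  have h : σ • supports (golayCode : Set (GolayPt → ZMod 2)) = supports (golayCode : Set (GolayPt → ZMod 2)) := hσ
  rw [← h]
  exact ⟨s, hs, rfl⟩

theorem card_smul_finset (σ : Equiv.Perm GolayPt) (s : Finset GolayPt) : (σ • s).card = s.card :=
  Finset.card_image_of_injective _ (MulAction.injective σ)

theorem smul_mem_octads {σ : Equiv.Perm GolayPt} (hσ : σ ∈ M24) {s : Finset GolayPt}
    (hs : s ∈ octads) : σ • s ∈ octads :=
  ⟨smul_mem_supports_of_mem_M24 hσ hs.1, by rw [card_smul_finset]; exact hs.2⟩

theorem smul_mem_dodecads {σ : Equiv.Perm GolayPt} (hσ : σ ∈ M24) {s : Finset GolayPt}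
    (hs : s ∈ dodecads) : σ • s ∈ dodecads :=
  ⟨smul_mem_supports_of_mem_M24 hσ hs.1, by rw [card_smul_finset]; exact hs.2⟩

/-! ### Permutations given by tables -/

/-- The function on the 24 points with value table `T`. -/
def tblFun (T : List ℕ) (p : GolayPt) : GolayPt := pt (T.getD (idx p) 0)

/-- `T` lists each of `0..23` exactly once. -/
def ValidT (T : List ℕ) : Prop := T.length = 24 ∧ (∀ i ∈ T, i < 24) ∧ T.Nodup

instance (T : List ℕ) : Decidable (ValidT T) := by
  unfold ValidT
  infer_instance

theorem pt_injOn {i j : ℕ} (hi : i < 24) (hj : j < 24) (h : pt i = pt j) : i = j := by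
  rw [← idx_pt hi, ← idx_pt hj, h]

theorem tblFun_injective {T : List ℕ} (h : ValidT T) : Function.Injective (tblFun T) := by
  intro p q hpq
  have hp : idx p < T.length := by rw [h.1]; exact idx_lt p
  have hq : idx q < T.length := by rw [h.1]; exact idx_lt q
  have h1 : T.getD (idx p) 0 = T.getD (idx q) 0 := by
    apply pt_injOn _ _ hpq
    · rw [List.getD_eq_getElem _ _ hp]; exact h.2.1 _ (List.getElem_mem _)
    · rw [List.getD_eq_getElem _ _ hq]; exact h.2.1 _ (List.getElem_mem _)
  rw [List.getD_eq_getElem _ _ hp, List.getD_eq_getElem _ _ hq] at h1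
  exact idx_injective ((List.Nodup.getElem_inj_iff h.2.2).mp h1)

theorem tblFun_bijective {T : List ℕ} (h : ValidT T) : Function.Bijective (tblFun T) :=
  (Finite.injective_iff_bijective).mp (tblFun_injective h)

/-- The permutation of the 24 points whose INVERSE has value table `T`
(the identity if the table is not valid). -/
noncomputable def permT (T : List ℕ) : Equiv.Perm GolayPt :=
  if h : ValidT T then (Equiv.ofBijective (tblFun T) (tblFun_bijective h)).symm else 1

theorem permT_symm_apply {T : List ℕ} (h : ValidT T) (p : GolayPt) :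
    (permT T).symm p = tblFun T p := by
  rw [permT, dif_pos h]
  rfl

theorem isInvTable_permT {T : List ℕ} (h : ValidT T) : IsInvTable (permT T) T := by
  refine ⟨h.1, fun j => ?_⟩
  rw [← Equiv.eq_symm_apply, permT_symm_apply h, tblFun, idx_pt j.2]

theorem permT_apply_eq_iff {T : List ℕ} (h : ValidT T) (p q : GolayPt) :
    permT T p = q ↔ T.getD (idx q) 0 = idx p := by
  rw [← Equiv.eq_symm_apply, permT_symm_apply h, tblFun]
  have hq : idx q < T.length := by rw [h.1]; exact idx_lt q
  have hlt : T.getD (idx q) 0 < 24 := by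
    rw [List.getD_eq_getElem _ _ hq]; exact h.2.1 _ (List.getElem_mem _)
  constructor
  · intro hp
    rw [hp, idx_pt hlt]
  · intro hp
    rw [hp, pt_idx]

/-- Boolean test: the table is valid and the permutation maps the 12 basis words into the code. -/
def okT (T : List ℕ) : Bool := decide (ValidT T) && allL rows fun r => isCode (actT T r)

theorem okT_valid {T : List ℕ} (h : okT T = true) : ValidT T := by
  rw [okT, Bool.and_eq_true] at h
  exact of_decide_eq_true h.1

theorem permT_mem_M24 {T : List ℕ} (h : okT T = true) : permT T ∈ M24 := by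
  have hv := okT_valid h
  rw [okT, Bool.and_eq_true] at h
  exact mem_M24_of_table (isInvTable_permT hv) hv.2.1 (allL_spec h.2)

theorem permT_smul_fs {T : List ℕ} (h : ValidT T) {m : ℕ} (hm : m < 2 ^ 24) :
    permT T • fs m = fs (actT T m) :=
  smul_fs (isInvTable_permT h) h.2.1 hm

theorem ofBitsL_lt (l : List Bool) : ofBitsL l < 2 ^ l.length := by
  induction l with
  | nil => simp [ofBitsL]
  | cons b l ih =>
    rw [ofBitsL, List.length_cons, pow_succ]
    cases b <;> simp <;> omega

theorem actT_lt {T : List ℕ} (h : T.length = 24) (m : ℕ) : actT T m < 2 ^ 24 := by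
  have := ofBitsL_lt (T.map fun i => m.testBit i)
  rw [List.length_map, h] at this
  exact this

/-! ### The generators from the Prelude -/

/-- Inverse table of `x ↦ x + 1`. -/
def transT : List ℕ := [22,0,1,2,3,4,5,6,7,8,9,10,11,12,13,14,15,16,17,18,19,20,21,23]
/-- Inverse table of `x ↦ -1/x`. -/
def projInvT : List ℕ := [23,22,11,15,17,9,19,13,20,5,16,2,21,7,18,3,10,4,14,6,8,12,1,0]
/-- Inverse table of the cube twist. -/
def cubeTwistT : List ℕ := [0,6,4,3,18,7,2,10,12,13,20,17,9,16,22,15,8,14,1,11,21,5,19,23]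
/-- Inverse table of `x ↦ 2 x`. -/
def mul2T : List ℕ := [0,12,1,13,2,14,3,15,4,16,5,17,6,18,7,19,8,20,9,21,10,22,11,23]

theorem isInvTable_trans :
    IsInvTable (Equiv.optionCongr (Equiv.addRight (1 : ZMod 23))) transT := ⟨rfl, by decide⟩

theorem isInvTable_projInv : IsInvTable projInv projInvT := ⟨rfl, by decide⟩

theorem isInvTable_cubeTwist : IsInvTable cubeTwist cubeTwistT := by
  refine ⟨rfl, ?_⟩
  show ∀ j : Fin 24, cubeTwistFun (pt (cubeTwistT.getD j 0)) = pt j
  decide

theorem IsInvTable.eq_permT {σ : Equiv.Perm GolayPt} {T : List ℕ} (h : IsInvTable σ T)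
    (hv : ValidT T) : σ = permT T := by
  apply Equiv.ext
  intro p
  symm
  rw [permT_apply_eq_iff hv]
  have h1 := h.symm_pt (idx_lt (σ p))
  rw [pt_idx, Equiv.symm_apply_apply] at h1
  have hq : idx (σ p) < T.length := by rw [hv.1]; exact idx_lt _
  have hlt : T.getD (idx (σ p)) 0 < 24 := by
    rw [List.getD_eq_getElem _ _ hq]; exact hv.2.1 _ (List.getElem_mem _)
  exact congrArg idx h1 |>.trans (idx_pt hlt) |>.symm

theorem trans_eq_permT : Equiv.optionCongr (Equiv.addRight (1 : ZMod 23)) = permT transT :=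
  isInvTable_trans.eq_permT (by decide)

theorem projInv_eq_permT : projInv = permT projInvT := isInvTable_projInv.eq_permT (by decide)

theorem cubeTwist_eq_permT : cubeTwist = permT cubeTwistT :=
  isInvTable_cubeTwist.eq_permT (by decide)

theorem trans_mem_M24 : Equiv.optionCongr (Equiv.addRight (1 : ZMod 23)) ∈ M24 :=
  mem_M24_of_table isInvTable_trans (by decide) (by decide)

theorem projInv_mem_M24 : projInv ∈ M24 := mem_M24_of_table isInvTable_projInv (by decide) (by decide)

theorem cubeTwist_mem_M24 : cubeTwist ∈ M24 :=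
  mem_M24_of_table isInvTable_cubeTwist (by decide) (by decide)

theorem mul2_mem_M24 : permT mul2T ∈ M24 := permT_mem_M24 (by decide)

end Cfsg.Agent.Lib.Helper12.Golay
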