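import Mathlib
import Cfsg.Prelude.Def_Sporadic_a
import Cfsg.Agent.Lib.Helper12.Golay.Perm

set_option autoImplicit false

namespace Cfsg.Agent.Lib.Helper12.Golay

open Cfsg
open scoped Pointwise

/-- Stack machine producing orbit lists.  Instruction `0` pops the stack; instruction `k + 1`
applies `act k` to the top of the stack, pushes the result and records it in the accumulator. -/
def runOrb {α : Type*} (act : ℕ → α → Option α) : List ℕ → List α → List α → List α
  | [], _, acc => acc
  | _ :: _, [], acc => acc
  | 0 :: is, _ :: st, acc => runOrb act is st acc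
  | (k + 1) :: is, s :: st, acc =>
    match act k s with
    | some m => runOrb act is (m :: s :: st) (m :: acc)
    | none => acc

theorem runOrb_inv {α : Type*} (act : ℕ → α → Option α) (P : α → Prop)
    (hP : ∀ k a b, act k a = some b → P a → P b) :
    ∀ (is : List ℕ) (st acc : List α), (∀ a ∈ st, P a) → (∀ a ∈ acc, P a) →
      ∀ a ∈ runOrb act is st acc, P a := by
  intro is
  induction is with
  | nil => intro st acc _ hacc; simpa [runOrb] using hacc
  | cons i is ih =>
    intro st acc hst hacc
    cases st with
    | nil => simpa [runOrb] using hacc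
    | cons s st =>
      cases i with
      | zero =>
        rw [runOrb]
        exact ih st acc (fun a ha => hst a (List.mem_cons_of_mem _ ha)) hacc
      | succ k =>
        rw [runOrb]
        cases hk : act k s with
        | none => exact hacc
        | some m =>
          have hm : P m := hP k s m hk (hst s (List.mem_cons_self ..))
          apply ih
          · intro a ha
            rcases List.mem_cons.mp ha with rfl | ha'
            · exact hm
            · exact hst a ha'
          · intro a ha
            rcases List.mem_cons.mp ha with rfl | ha'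
            · exact hm
            · exact hacc a ha'

/-- The action of the `k`-th table of a list on bitmasks. -/
def actG (gens : List (List ℕ)) (k : ℕ) (m : ℕ) : Option ℕ :=
  match gens[k]? with
  | some T => some (actT T m)
  | none => none

/-- The list of bitmasks reached from `m₀` by the instruction list `is`. -/
def orbL (gens : List (List ℕ)) (is : List ℕ) (m₀ : ℕ) : List ℕ :=
  runOrb (actG gens) is [m₀] [m₀]

/-- Every bitmask produced by the stack machine is the image of the starting set under an element
of any subgroup containing the generators. -/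
theorem orbL_spec (H : Subgroup (Equiv.Perm GolayPt)) (gens : List (List ℕ))
    (hg : ∀ T ∈ gens, ValidT T ∧ permT T ∈ H) (is : List ℕ) (m₀ : ℕ) (hm₀ : m₀ < 2 ^ 24) :
    ∀ m ∈ orbL gens is m₀, m < 2 ^ 24 ∧ ∃ g ∈ H, g • fs m₀ = fs m := by
  have h0 : m₀ < 2 ^ 24 ∧ ∃ g ∈ H, g • fs m₀ = fs m₀ := ⟨hm₀, 1, H.one_mem, one_smul _ _⟩
  apply runOrb_inv (actG gens) (fun m => m < 2 ^ 24 ∧ ∃ g ∈ H, g • fs m₀ = fs m)
  · intro k a b hk ha
    rw [actG] at hk
    cases hT : gens[k]? with
    | none => rw [hT] at hk; cases hk
    | some T =>
      rw [hT] at hk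
      have hb : actT T a = b := by simpa using hk
      have hTmem : T ∈ gens := List.mem_of_getElem? hT
      obtain ⟨hv, hH⟩ := hg T hTmem
      obtain ⟨ha1, g, hgH, hga⟩ := ha
      refine ⟨?_, permT T * g, H.mul_mem hH hgH, ?_⟩
      · rw [← hb]; exact actT_lt hv.1 a
      · rw [mul_smul, hga, permT_smul_fs hv ha1, hb]
  · intro a ha
    rw [List.mem_singleton] at ha
    rw [ha]; exact h0
  · intro a ha
    rw [List.mem_singleton] at ha
    rw [ha]; exact h0

/-- Membership in a list of natural numbers as a Boolean. -/
def memL (a : ℕ) : List ℕ → Bool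
  | [] => false
  | b :: l => Nat.beq a b || memL a l

theorem natBeq_iff {a b : ℕ} : Nat.beq a b = true ↔ a = b :=
  ⟨Nat.eq_of_beq_eq_true, fun h => h ▸ Nat.beq_refl a⟩

theorem memL_iff {a : ℕ} {l : List ℕ} : memL a l = true ↔ a ∈ l := by
  induction l with
  | nil => simp [memL]
  | cons b l ih =>
    rw [memL, Bool.or_eq_true, ih, List.mem_cons, natBeq_iff]

/-- Number of `k < n` satisfying a Boolean predicate. -/
def countBelow : ℕ → (ℕ → Bool) → ℕ
  | 0, _ => 0
  | k + 1, p => (if p k = true then 1 else 0) + countBelow k p

theorem countBelow_eq_card (n : ℕ) (p : ℕ → Bool) :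
    countBelow n p = ((Finset.range n).filter fun k => p k = true).card := by
  induction n with
  | zero => simp [countBelow]
  | succ n ih =>
    rw [countBelow, ih, Finset.range_add_one, Finset.filter_insert]
    split
    · rw [Finset.card_insert_of_notMem (by simp)]
      omega
    · omega

/-- Counting members of a given weight of the length-24 code that satisfy a condition which
can be tested on bitmasks. -/
theorem ncard_wordsOfWeight (w : ℕ) (C : Finset GolayPt → Prop) (C' : ℕ → Bool)
    (h : ∀ m < 2 ^ 24, C (fs m) ↔ C' m = true) :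
    {s : Finset GolayPt | s ∈ wordsOfWeight (golayCode : Set (GolayPt → ZMod 2)) w ∧ C s}.ncard =
      countBelow 4096 (fun u => Nat.beq (popc (enc u)) w && C' (enc u)) := by
  rw [countBelow_eq_card, ← Set.ncard_coe_finset]
  symm
  apply Set.ncard_congr (fun u _ => fs (enc u))
  · intro u hu
    simp only [Finset.coe_filter, Finset.mem_range, Set.mem_ofPred_eq, Bool.and_eq_true,
      natBeq_iff] at hu
    obtain ⟨hu1, hw, hc⟩ := hu
    refine ⟨?_, (h _ (enc_lt u)).mpr hc⟩
    rw [mem_wordsOfWeight_iff, mask_fs (enc_lt u)]
    exact ⟨isCode_enc hu1, hw⟩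
  · intro u v hu hv huv
    simp only [Finset.coe_filter, Finset.mem_range, Set.mem_ofPred_eq] at hu hv
    have := fs_inj (enc_lt u) (enc_lt v) huv
    rw [← enc_mod hu.1, ← enc_mod hv.1, this]
  · intro s hs
    obtain ⟨hs1, hs2⟩ := hs
    rw [mem_wordsOfWeight_iff] at hs1
    obtain ⟨u, hu, hue⟩ := isCode_iff.mp hs1.1
    refine ⟨u, ?_, ?_⟩
    · simp only [Finset.coe_filter, Finset.mem_range, Set.mem_ofPred_eq, Bool.and_eq_true,
        natBeq_iff]
      refine ⟨hu, ?_, ?_⟩
      · rw [hue]; exact hs1.2
      · rw [← h _ (enc_lt u), hue, fs_mask]; exact hs2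
    · rw [hue, fs_mask]

end Cfsg.Agent.Lib.Helper12.Golay
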