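import Mathlib
import Cfsg.Prelude.Def_Sporadic_a
import Cfsg.Agent.Lib.Helper12.Golay.Orbit

set_option autoImplicit false

namespace Cfsg.Agent.Lib.Helper12.Golay

open Cfsg
open scoped Pointwise

/-! ### Kernel-friendly versions of the basic computations

The definitions here use the binary operations of `Nat` directly, which the kernel evaluates on
literals without unfolding any instance. -/

/-- Bounded universal quantifier as a Boolean. -/
def allK (n : ℕ) (p : ℕ → Bool) : Bool :=
  @Nat.rec (fun _ => Bool) true (fun k ih => p k && ih) n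

theorem allK_zero (p : ℕ → Bool) : allK 0 p = true := rfl
theorem allK_succ (n : ℕ) (p : ℕ → Bool) : allK (n + 1) p = (p n && allK n p) := rfl

theorem allK_spec {n : ℕ} {p : ℕ → Bool} (h : allK n p = true) : ∀ k < n, p k = true := by
  induction n with
  | zero => intro k hk; omega
  | succ n ih =>
    rw [allK_succ, Bool.and_eq_true] at h
    intro k hk
    rcases Nat.lt_succ_iff_lt_or_eq.mp hk with h1 | rfl
    · exact ih h.2 k h1
    · exact h.1

/-- Field `i` (24 bits wide) of a packed table. -/
def fld (t i : ℕ) : ℕ := Nat.land (Nat.shiftRight t (Nat.mul 24 i)) 16777215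

/-- Packed table of the number of set bits of each byte (4 bits per entry). -/
def popTbl : ℕ := 95125173855764218123276304889944061997689682402263585766959741291920687686033329201817409157123347502415384089435969498586180241031507595463600295898153685276653211633572815512294064538494957912327413386667662218713394765509704508661031522276467630197481635010039778342554499416459730172574551513689147646224

/-- Number of set bits of a byte, by table lookup. -/
def pop8 (b : ℕ) : ℕ := Nat.land (Nat.shiftRight popTbl (Nat.mul 4 b)) 15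

/-- Number of set bits among the low 24 bits (for arguments below `2 ^ 24`). -/
def popcF (m : ℕ) : ℕ :=
  Nat.add (Nat.add (pop8 (Nat.land m 255)) (pop8 (Nat.land (Nat.shiftRight m 8) 255)))
    (pop8 (Nat.shiftRight m 16))

theorem popcAux_add (a b m : ℕ) : popcAux (a + b) m = popcAux a m + popcAux b (m / 2 ^ a) := by
  induction a generalizing m with
  | zero => simp [popcAux]
  | succ a ih =>
    rw [show a + 1 + b = (a + b) + 1 by omega, popcAux, popcAux, ih, Nat.div_div_eq_div_mul,
      pow_succ, mul_comm 2]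
    omega

theorem popcAux_mod (k m : ℕ) : popcAux k (m % 2 ^ k) = popcAux k m := by
  induction k generalizing m with
  | zero => simp [popcAux]
  | succ k ih =>
    rw [popcAux, popcAux, ← ih (m / 2)]
    congr 1
    · rw [pow_succ, Nat.mod_mul_left_mod]
    · congr 1
      rw [pow_succ, mul_comm, Nat.mod_mul_right_div_self]

theorem pop8_eq : ∀ b : Fin 256, pop8 b = popcAux 8 b := by decide +kernel

theorem popcF_eq {m : ℕ} (hm : m < 2 ^ 24) : popcF m = popc m := by
  have h1 : Nat.land m 255 = m % 2 ^ 8 := Nat.and_two_pow_sub_one_eq_mod m 8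
  have h2 : Nat.shiftRight m 8 = m / 2 ^ 8 := Nat.shiftRight_eq_div_pow m 8
  have h3 : Nat.shiftRight m 16 = m / 2 ^ 16 := Nat.shiftRight_eq_div_pow m 16
  have h4 : Nat.land (m / 2 ^ 8) 255 = (m / 2 ^ 8) % 2 ^ 8 := Nat.and_two_pow_sub_one_eq_mod _ 8
  have h5 : m / 2 ^ 16 < 256 := by
    rw [Nat.div_lt_iff_lt_mul (by norm_num)]
    calc m < 2 ^ 24 := hm
      _ = 256 * 2 ^ 16 := by norm_num
  have e1 := pop8_eq ⟨m % 2 ^ 8, Nat.mod_lt _ (by norm_num)⟩
  have e2 := pop8_eq ⟨(m / 2 ^ 8) % 2 ^ 8, Nat.mod_lt _ (by norm_num)⟩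
  have e3 := pop8_eq ⟨m / 2 ^ 16, h5⟩
  simp only at e1 e2 e3
  rw [popcAux_mod] at e1 e2
  have h6 : popc m = popcAux 8 m + (popcAux 8 (m / 2 ^ 8) + popcAux 8 (m / 2 ^ 16)) := by
    rw [popc, show 24 = 8 + (8 + 8) by norm_num, popcAux_add, popcAux_add, Nat.div_div_eq_div_mul,
      ← pow_add]
  rw [popcF, h1, h2, h3, h4, e1, e2, e3, h6]
  simp only [Nat.add_eq]
  omega

/-- Packed tables of the codewords with information bits in one of the three nibbles. -/
def encT0 : ℕ := 8022809230915759332262008551417910556706467469549434488445797555405905193015310901685018359721720842706792354938880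
/-- See `encT0`. -/
def encT1 : ℕ := 34361884134913195619000685081225860704308254691419764734167704384270879810107077918086750610179317838429122723840000
/-- See `encT0`. -/
def encT2 : ℕ := 3173877189738205771042859152735949085199766642506817334141401598829026353193368422681760703267833147374346761666560

/-- The codeword with information bits `u`, by table lookup (for `u < 4096`). -/
def encF (u : ℕ) : ℕ :=
  Nat.xor (Nat.xor (fld encT0 (Nat.land u 15)) (fld encT1 (Nat.land (Nat.shiftRight u 4) 15)))
    (fld encT2 (Nat.shiftRight u 8))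

theorem encT_eq : ∀ a : Fin 16, fld encT0 a = enc a ∧ fld encT1 a = enc (16 * a) ∧
    fld encT2 a = enc (256 * a) := by decide +kernel

theorem nibbles_eq : allK 4096 (fun u => Nat.beq u (Nat.xor (Nat.xor (Nat.land u 15)
    (Nat.mul 16 (Nat.land (Nat.shiftRight u 4) 15))) (Nat.mul 256 (Nat.shiftRight u 8)))) = true := by
  decide +kernel

theorem encF_eq {u : ℕ} (hu : u < 4096) : encF u = enc u := by
  have h := natBeq_iff.mp (allK_spec nibbles_eq u hu)
  have ha : Nat.land u 15 < 16 := by
    have : Nat.land u 15 = u % 2 ^ 4 := Nat.and_two_pow_sub_one_eq_mod u 4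
    rw [this]; exact Nat.mod_lt _ (by norm_num)
  have hb : Nat.land (Nat.shiftRight u 4) 15 < 16 := by
    have : Nat.land (Nat.shiftRight u 4) 15 = (Nat.shiftRight u 4) % 2 ^ 4 :=
      Nat.and_two_pow_sub_one_eq_mod _ 4
    rw [this]; exact Nat.mod_lt _ (by norm_num)
  have hc : Nat.shiftRight u 8 < 16 := by
    have : Nat.shiftRight u 8 = u / 2 ^ 8 := Nat.shiftRight_eq_div_pow u 8
    rw [this, Nat.div_lt_iff_lt_mul (by norm_num)]
    calc u < 4096 := hu
      _ = 16 * 2 ^ 8 := by norm_num
  have e0 := (encT_eq ⟨_, ha⟩).1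
  have e1 := (encT_eq ⟨_, hb⟩).2.1
  have e2 := (encT_eq ⟨_, hc⟩).2.2
  simp only at e0 e1 e2
  rw [encF, e0, e1, e2]
  conv_rhs => rw [h]
  show _ = enc (_ ^^^ _ ^^^ _)
  rw [enc_xor, enc_xor]
  rfl

/-- Membership test for the code on bitmasks below `2 ^ 24`. -/
def isCodeF (m : ℕ) : Bool := Nat.beq (encF (Nat.land m 4095)) m

theorem isCodeF_eq (m : ℕ) : isCodeF m = isCode m := by
  have h1 : Nat.land m 4095 = m % 4096 := Nat.and_two_pow_sub_one_eq_mod m 12
  rw [isCodeF, isCode, h1, encF_eq (Nat.mod_lt _ (by norm_num))]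
  exact Bool.eq_iff_iff.mpr (by rw [natBeq_iff, beq_iff_eq])

/-- Kernel-friendly version of `actT`. -/
def actK (T : List ℕ) (m : ℕ) : ℕ :=
  @List.rec ℕ (fun _ => ℕ) 0
    (fun i _ ih => Nat.add (Nat.land (Nat.shiftRight m i) 1) (Nat.mul 2 ih)) T

theorem actK_nil (m : ℕ) : actK [] m = 0 := rfl
theorem actK_cons (i : ℕ) (T : List ℕ) (m : ℕ) :
    actK (i :: T) m = Nat.add (Nat.land (Nat.shiftRight m i) 1) (Nat.mul 2 (actK T m)) := rfl

theorem actK_eq (T : List ℕ) (m : ℕ) : actK T m = actT T m := by
  rw [actT]
  induction T with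
  | nil => rfl
  | cons i T ih =>
    rw [actK_cons, ih, List.map_cons, ofBitsL]
    congr 1
    have h1 : Nat.land (Nat.shiftRight m i) 1 = (m >>> i) % 2 ^ 1 :=
      Nat.and_two_pow_sub_one_eq_mod _ 1
    rw [h1, Nat.testBit]
    rcases Nat.mod_two_eq_zero_or_one (m >>> i) with h | h
    · simp [h]
    · simp [h]

/-- Kernel-friendly version of `okT`. -/
def okK (T : List ℕ) : Bool := decide (ValidT T) && allL rows fun r => isCodeF (actK T r)

theorem okK_eq (T : List ℕ) : okK T = okT T := by
  rw [okK, okT]
  congr 1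
  congr 1
  funext r
  rw [isCodeF_eq, actK_eq]

theorem okK_valid {T : List ℕ} (h : okK T = true) : ValidT T := okT_valid (okK_eq T ▸ h)

theorem permT_mem_M24' {T : List ℕ} (h : okK T = true) : permT T ∈ M24 :=
  permT_mem_M24 (okK_eq T ▸ h)

/-- The action of the `k`-th table of a list on bitmasks (kernel-friendly). -/
def actGK (gens : List (List ℕ)) (k : ℕ) (m : ℕ) : Option ℕ :=
  match gens[k]? with
  | some T => some (actK T m)
  | none => none

theorem actGK_eq (gens : List (List ℕ)) : actGK gens = actG gens := by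
  funext k m
  rw [actGK, actG]
  cases gens[k]? with
  | none => rfl
  | some T => simp only [actK_eq]

/-- The list of bitmasks reached from `m₀` by the instruction list `is` (kernel-friendly). -/
def orbK (gens : List (List ℕ)) (is : List ℕ) (m₀ : ℕ) : List ℕ :=
  runOrb (actGK gens) is [m₀] [m₀]

theorem orbK_eq (gens : List (List ℕ)) (is : List ℕ) (m₀ : ℕ) :
    orbK gens is m₀ = orbL gens is m₀ := by
  rw [orbK, orbL, actGK_eq]

/-- Bit test. -/
def tb (B u : ℕ) : Bool := Nat.beq (Nat.land (Nat.shiftRight B u) 1) 1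

theorem tb_eq (B u : ℕ) : tb B u = B.testBit u := by
  rw [tb, Nat.testBit]
  have h1 : Nat.land (Nat.shiftRight B u) 1 = (B >>> u) % 2 ^ 1 :=
    Nat.and_two_pow_sub_one_eq_mod _ 1
  rw [h1, Nat.one_and_eq_mod_two, pow_one]
  rcases Nat.mod_two_eq_zero_or_one (B >>> u) with h | h
  · rw [h]; rfl
  · rw [h]; rfl

/-- The set of the low 12 bits of the members of a list, as a bitset; the intermediate results
are compared with zero only to make the kernel evaluate them eagerly. -/
def keysetK : List ℕ → ℕ → ℕ
  | [], B => B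
  | m :: L, B =>
    match Nat.beq (Nat.lor B (Nat.shiftLeft 1 (Nat.land m 4095))) 0 with
    | true => 0
    | false => keysetK L (Nat.lor B (Nat.shiftLeft 1 (Nat.land m 4095)))

theorem testBit_keysetK {L : List ℕ} {B u : ℕ} (h : (keysetK L B).testBit u = true) :
    B.testBit u = true ∨ ∃ m ∈ L, Nat.land m 4095 = u := by
  induction L generalizing B with
  | nil => left; exact h
  | cons m L ih =>
    rw [keysetK] at h
    split at h
    · simp at h
    · rcases ih h with h1 | ⟨m', hm', hk⟩
      · have h2 : (B ||| 1 <<< (Nat.land m 4095)).testBit u = true := h1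
        rw [Nat.testBit_or, Bool.or_eq_true] at h2
        rcases h2 with h2 | h2
        · left; exact h2
        · right
          refine ⟨m, List.mem_cons_self .., ?_⟩
          rw [Nat.one_shiftLeft, Nat.testBit_two_pow] at h2
          simpa using h2
      · right
        exact ⟨m', List.mem_cons_of_mem _ hm', hk⟩

/-- Completeness test: every codeword of weight `w` satisfying `cond` has its information bits in
the bitset `B`. -/
def complK (w : ℕ) (cond : ℕ → Bool) (B : ℕ) : Bool :=
  allK 4096 fun u => !(Nat.beq (popcF (encF u)) w && cond (encF u)) || tb B u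

/-- If the generators lie in a subgroup `H` of the group of the code, then every member of
weight `w` of the code satisfying `cond` whose information bits are recorded in the bitset of the
orbit list is the image of the starting set under an element of `H`. -/
theorem orbit_complete (H : Subgroup (Equiv.Perm GolayPt)) (hH : H ≤ M24) (gens : List (List ℕ))
    (hg : ∀ T ∈ gens, ValidT T ∧ permT T ∈ H) (is : List ℕ) (m₀ : ℕ) (hm₀ : m₀ < 2 ^ 24)
    (hc₀ : isCodeF m₀ = true) (w : ℕ) (cond : ℕ → Bool)
    (hcheck : complK w cond (keysetK (orbK gens is m₀) 0) = true) (S : Finset GolayPt)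
    (hS : S ∈ wordsOfWeight (golayCode : Set (GolayPt → ZMod 2)) w) (hcond : cond (mask S) = true) :
    ∃ g ∈ H, g • fs m₀ = S := by
  rw [mem_wordsOfWeight_iff] at hS
  obtain ⟨u, hu, hue⟩ := isCode_iff.mp hS.1
  have h1 := allK_spec hcheck u hu
  rw [encF_eq hu, hue, popcF_eq (mask_lt S), hS.2, hcond, tb_eq] at h1
  have h2 : (keysetK (orbK gens is m₀) 0).testBit u = true := by
    simpa [Nat.beq_refl] using h1
  rcases testBit_keysetK h2 with h3 | ⟨m, hm, hk⟩
  · simp at h3
  · rw [orbK_eq] at hm
    obtain ⟨hmlt, g, hgH, hgm⟩ := orbL_spec H gens hg is m₀ hm₀ m hm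
    refine ⟨g, hgH, ?_⟩
    rw [hgm]
    have hc₀' : fs m₀ ∈ supports (golayCode : Set (GolayPt → ZMod 2)) := by
      rw [mem_supports_golayCode_iff, mask_fs hm₀, ← isCodeF_eq]; exact hc₀
    have hcm : isCode m = true := by
      have := smul_mem_supports_of_mem_M24 (hH hgH) hc₀'
      rw [hgm, mem_supports_golayCode_iff, mask_fs hmlt] at this
      exact this
    obtain ⟨v, hv, hve⟩ := isCode_iff.mp hcm
    have hk' : m % 4096 = u := by
      rw [← hk]; exact (Nat.and_two_pow_sub_one_eq_mod m 12).symm
    have : v = u := by rw [← hk', ← hve, enc_mod hv]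
    rw [← fs_mask S, ← hue, ← hve, this]

end Cfsg.Agent.Lib.Helper12.Golay
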