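import Mathlib
import Cfsg.Prelude.Def_Sporadic_a
import Cfsg.Agent.Lib.Helper12.Golay.Fast

set_option autoImplicit false

namespace Cfsg.Agent.Lib.Helper12.Golay

open Cfsg
open scoped Pointwise

/-- Inverse tables of three generators of the group of the length-24 code. -/
def m24Gens : List (List ℕ) := [transT, projInvT, cubeTwistT]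

theorem m24Gens_ok : ∀ T ∈ m24Gens, ValidT T ∧ permT T ∈ M24 := by
  have h : ∀ T ∈ m24Gens, okK T = true := by decide +kernel
  intro T hT
  exact ⟨okK_valid (h T hT), permT_mem_M24' (h T hT)⟩

/-- Bitmask of the standard octad `{0,1,2,3,4,7,10,12}`. -/
def o₀ : ℕ := 5279

/-- Bitmask of the standard dodecad: the squares modulo 23, zero included. -/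
def d₀ : ℕ := 340831

/-- Instructions enumerating the octads from `o₀`. -/
def octInstrs : List ℕ := [1,1,1,1,1,1,1,1,0,2,0,3,1,0,0,0,2,0,0,2,1,1,1,0,2,3,0,0,3,0,0,2,0,3,1,0,3,0,0,0,
  3,1,1,0,3,0,0,0,0,3,0,0,2,1,0,0,3,3,1,0,3,1,2,0,0,3,0,0,0,0,0,2,1,3,1,2,0,3,0,0,
  3,0,0,0,3,1,2,3,0,0,3,0,0,3,1,1,0,3,0,0,3,1,1,0,2,0,0,3,0,0,0,0,0,3,1,1,1,0,2,1,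
  0,0,3,0,0,2,0,3,1,1,1,0,2,0,0,0,0,0,3,1,1,1,0,2,0,0,2,1,0,0,3,0,0,3,1,1,1,0,2,0,
  0,2,3,0,0,3,1,0,0,0,3,0,0,0,0,0,2,1,1,1,1,1,0,0,0,2,1,0,0,3,0,0,2,3,1,2,0,3,3,0,
  0,0,0,0,3,1,1,2,0,3,1,0,0,0,2,0,0,0,0,3,1,1,1,2,3,0,0,3,1,0,0,0,2,1,2,0,0,0,3,3,
  0,0,0,2,1,3,0,0,0,3,3,1,0,0,0,0,3,1,1,0,2,1,2,0,0,0,0,3,1,3,0,0,0,0,0,0,3,1,1,1,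
  2,3,0,0,3,1,0,0,0,2,3,3,0,0,0,3,1,1,0,3,1,0,0,0,3,0,0,0,2,1,0,0,0,3,1,1,1,1,2,0,
  0,3,0,0,2,3,0,0,3,3,0,0,0,2,1,2,0,0,3,0,0,3,0,0,3,1,2,1,0,3,3,0,0,0,3,3,0,0,0,0,
  0,0,0,2,1,1,1,1,1,1,1,0,0,0,0,3,1,1,2,0,0,0,3,0,0,0,3,1,1,0,2,0,3,1,2,0,0,0,0,3,
  1,0,3,1,0,3,0,0,0,0,0,3,1,1,3,1,1,0,0,0,0,2,1,3,0,0,3,3,0,0,0,3,1,1,3,0,0,0,3,1,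
  0,3,0,0,0,0,3,1,1,1,0,2,0,0,2,1,0,3,0,0,3,1,0,0,0,3,3,1,0,0,0,0,0,0,3,1,1,1,1,0,
  3,3,1,0,3,0,0,0,0,2,1,2,0,0,0,0,2,1,1,1,0,3,0,0,2,0,0,3,3,3,0,0,0,0,3,1,1,1,0,2,
  1,0,0,3,0,0,2,0,0,3,1,2,1,0,0,0,3,1,0,0,0,0,0,3,1,1,2,0,3,1,2,0,0,0,0,2,1,1,0,0,
  0,0,3,1,2,0,3,1,2,0,0,0,0,3,0,0,0,0,0,3,1,1,1,1,1,0,2,0,3,1,0,3,0,0,0,0,2,1,1,1,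
  0,2,0,3,1,0,0,0,2,0,3,0,0,3,0,0,3,1,2,0,0,0,0,2,1,1,1,1,0,3,0,0,2,1,2,0,0,3,0,0,
  3,3,0,0,0,2,0,0,3,1,1,0,2,0,0,3,0,0,0,3,1,1,1,1,0,0,2,0,3,1,1,0,0,3,0,0,0,3,3,3,
  0,0,0,0,3,1,1,1,3,0,0,0,2,3,0,0,3,3,0,0,0,0,0,0,3,1,1,1,1,3,0,0,2,3,0,0,3,0,0,2,
  3,0,0,3,0,0,2,3,1,0,3,0,0,0,3,1,1,3,0,0,2,0,0,3,1,1,0,0,3,0,0,0,0,3,1,1,2,0,0,2,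
  0,0,3,1,1,1,0,0,2,1,0,0,0,0,0,0,0,0,2,1,1,1,1,1,1,2,0,3,1,0,0,0,2,0,3,1,0,0,0,3,
  1,1,0,2,0,0,3,3,0,0,0,0,2,1,1,2,1,0,0,0,2,3,0,0,3,1,2,0,3,0,0,0,0,3,3,0,0,0,3,1,
  1,3,0,0,2,0,0,3,3,0,0,0,0,2,1,1,1,0,3,0,0,2,3,3,0,0,0,3,1,0,3,1,0,0,0,0,3,1,1,1,
  1,0,0,2,0,0,2,1,0,0,0,3,3,1,0,3,0,0,0,0,0,3,1,1,1,1,0,0,3,1,0,0,0,2,1,1,0,2,0,0,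
  0,3,3,1,1,0,0,0,0,0,3,1,1,0,0,3,1,1,0,3,1,0,0,0,3,1,1,0,3,0,0,0,0,0,0,0,2,1,1,1,
  1,1,0,0,2,1,0,0,0,2,1,2,0,0,0,3,0,0,2,3,0,0,3,1,1,1,0,2,0,0,3,3,0,0,0,3,3,0,0,0,
  0,3,1,1,2,3,0,0,3,1,1,0,0,0,0,2,1,0,0,0,3,1,0,3,1,1,0,0,3,0,0,0,0,0,3,1,1,1,2,0,
  0,2,3,0,0,3,0,0,2,1,0,3,1,2,0,0,3,0,0,0,3,1,1,1,3,0,0,2,0,0,3,0,0,3,1,3,0,0,0,0,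
  0,3,1,1,1,3,0,0,2,0,0,2,1,2,0,0,3,0,0,3,0,0,3,1,1,1,1,0,0,0,3,0,0,3,1,2,0,3,0,0,
  0,0,0,0,0,3,1,3,1,3,1,3,0,0,0,0,3,3,1,0,3,0,0,0,0,0,3,1,1,1,1,0,3,0,0,2,3,0,0,3,
  1,1,0,0,0,0,2,1,1,0,3,0,0,3,1,3,0,0,3,0,0,0,3,3,3,0,0,0,0,3,1,1,2,0,0,2,1,0,0,0,
  3,0,0,0,0,0,3,1,1,1,1,1,1,0,2,0,0,3,1,0,3,1,0,0,0,0,2,1,1,0,2,0,3,0,0,3,1,2,0,3,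
  0,0,0,0,3,1,0,0,0,2,1,1,1,1,0,2,0,0,0,2,0,3,0,0,3,1,1,3,0,0,2,0,0,3,3,0,0,0,0,3,
  1,1,3,3,0,0,0,2,1,1,3,0,0,0,0,3,1,0,0,0,3,1,2,3,0,0,3,0,0,3,0,0,0,0,2,1,2,3,3,0,
  0,0,3,3,1,1,0,3,0,0,3,0,0,0,0,3,1,1,1,0,2,3,0,0,3,3,0,0,0,2,1,2,3,0,0,3,0,0,3,1,
  0,0,0,3,0,0,3,1,1,1,0,0,2,1,0,0,0,3,1,2,0,0,3,0,0,0,0,0,3,1,1,1,2,0,3,3,3,0,0,0,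
  0,3,1,2,0,0,3,1,0,3,0,0,0,0,2,1,1,1,0,0,3,1,0,0,0,0,0,3,1,1,1,0,2,0,0,2,1,0,3,0,
  0,3,3,0,0,0,3,3,1,0,0,0,0,0,0,3,1,3,1,0,3,1,1,0,0,3,0,0,0,0,3,1,1,3,3,3,0,0,0,0,
  2,1,2,3,0,0,3,0,0,3,0,0,3,1,1,3,0,0,2,1,0,0,0,0,0,3,1,2,1]

/-- Instructions enumerating the dodecads from `d₀`. -/
def dodInstrs : List ℕ := [1,1,1,1,1,1,1,1,1,2,0,0,2,0,0,2,1,3,0,0,3,0,0,3,1,2,1,0,0,3,0,0,0,0,2,1,1,1,2,0,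
  0,2,0,0,2,0,3,3,3,0,0,0,0,0,0,2,1,1,1,1,1,0,0,3,0,0,2,3,3,0,0,0,3,1,0,3,0,0,0,2,
  3,3,1,0,0,0,0,3,3,1,3,0,0,3,0,0,0,0,3,1,1,1,1,0,0,2,0,3,3,0,0,0,2,1,3,0,0,0,3,3,
  1,3,0,0,0,0,0,3,3,1,0,3,0,0,0,0,0,3,1,1,2,0,0,2,1,0,3,1,3,0,0,3,3,0,0,0,0,3,1,3,
  0,0,3,1,0,3,0,0,0,0,3,1,1,0,2,0,0,3,1,1,0,2,1,0,0,3,0,0,3,1,0,0,0,0,0,0,2,1,1,1,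
  1,1,0,2,3,0,0,3,0,0,2,1,3,0,0,0,3,1,3,0,0,3,0,0,0,2,1,0,3,1,1,0,0,0,0,3,3,1,0,0,
  0,0,2,0,3,1,1,2,1,3,0,0,0,0,2,3,3,0,0,0,3,1,0,3,0,0,0,3,3,1,2,0,0,0,0,0,0,3,1,1,
  1,2,3,0,0,3,3,0,0,0,2,0,3,0,0,2,1,2,0,0,3,1,0,3,3,0,0,0,0,3,3,1,2,0,0,3,3,0,0,0,
  0,0,3,1,2,1,1,0,0,0,3,0,0,3,1,2,0,0,0,0,0,0,3,1,1,1,1,0,2,1,0,0,0,2,1,1,0,2,0,0,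
  3,0,0,3,1,1,1,0,0,2,3,1,0,0,0,3,0,0,3,0,0,0,2,1,1,1,2,0,0,0,2,3,0,0,3,0,0,3,1,1,
  0,2,3,3,0,0,0,3,3,0,0,0,3,1,2,0,0,3,1,0,0,0,0,0,3,1,1,1,2,0,0,2,1,0,0,3,0,0,2,3,
  0,0,3,3,0,0,0,3,1,1,1,0,0,2,3,0,0,3,3,0,0,0,3,3,0,0,0,0,0,3,1,1,3,1,0,0,0,2,1,0,
  3,1,3,0,0,3,0,0,0,3,1,2,0,3,0,0,3,1,0,3,0,0,0,0,3,1,1,1,2,0,0,2,1,0,0,0,2,1,1,0,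
  0,3,1,0,0,0,3,1,0,0,0,0,0,0,0,2,1,1,1,1,2,0,3,3,0,0,0,2,1,1,3,0,0,0,0,3,0,0,2,1,
  1,1,0,2,1,0,0,0,2,0,3,1,1,0,2,0,0,0,0,3,3,1,0,3,3,0,0,0,0,0,3,1,1,1,3,0,0,0,2,0,
  0,3,1,2,0,3,0,0,3,3,0,0,0,0,0,2,0,0,3,1,1,1,2,0,3,0,0,2,1,1,2,0,3,0,0,0,3,3,1,0,
  3,0,0,0,0,3,1,0,3,1,0,3,0,0,0,0,2,1,3,0,0,3,1,1,0,2,0,3,3,0,0,0,3,1,0,3,3,0,0,0,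
  0,0,3,3,1,1,0,2,3,0,0,3,1,1,0,0,0,0,3,3,0,0,0,0,0,3,1,1,0,3,1,3,0,0,0,0,3,1,1,2,
  3,1,0,0,0,3,1,0,0,0,2,1,0,0,3,3,0,0,0,3,0,0,0,0,0,3,1,1,1,1,2,3,1,1,1,0,0,0,0,0,
  3,0,0,2,3,3,1,0,0,0,0,3,1,3,1,0,0,0,3,1,0,0,0,0,2,3,1,0,0,0,3,3,1,1,0,0,3,3,0,0,
  0,0,0,2,1,1,1,2,0,3,0,0,0,3,0,0,3,1,1,1,0,3,0,0,2,1,1,0,0,3,1,0,0,0,3,1,1,0,0,0,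
  0,3,1,1,0,2,3,0,0,3,0,0,3,1,3,0,0,0,0,0,0,3,1,1,1,1,2,0,0,0,3,0,0,2,1,1,0,2,0,3,
  0,0,3,3,0,0,0,3,1,2,1,0,0,3,0,0,3,3,0,0,0,0,3,1,1,1,3,0,0,2,3,0,0,3,0,0,2,1,3,0,
  0,3,0,0,3,0,0,3,1,1,0,0,0,0,0,0,3,1,1,1,1,1,0,2,1,0,0,0,2,1,0,0,3,1,0,3,0,0,0,2,
  1,1,3,0,0,3,0,0,3,1,0,0,0,3,0,0,2,1,1,1,0,3,1,0,0,0,3,1,1,0,0,0,0,3,1,0,3,1,2,0,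
  0,0,0,0,3,1,1,0,2,1,1,0,0,0,3,0,0,3,1,1,3,0,0,2,0,3,0,0,0,0,0,3,1,2,0,0,3,1,1,0,
  2,0,0,0,0,0,0,0,2,1,1,1,1,1,1,0,2,1,2,0,0,3,0,0,3,0,0,2,1,1,3,0,0,2,3,0,0,3,0,0,
  3,1,0,3,0,0,0,3,1,1,1,0,0,2,0,0,3,3,0,0,0,0,2,0,0,2,3,1,1,0,2,0,3,1,3,0,0,3,0,0,
  0,3,3,0,0,0,0,3,1,1,2,1,0,3,0,0,3,1,1,0,0,3,0,0,0,2,3,1,3,1,0,0,0,0,0,3,0,0,3,1,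
  2,1,1,0,0,0,3,3,0,0,0,3,1,2,3,0,0,3,0,0,0,0,0,0,2,3,1,1,1,1,0,0,3,3,0,0,0,2,1,1,
  2,0,0,2,3,0,0,3,0,0,3,0,0,3,1,0,0,0,3,3,1,1,1,0,0,2,1,0,0,0,3,1,0,0,0,0,0,0,3,1,
  1,1,2,3,0,0,3,1,1,0,0,0,0,2,3,0,0,3,1,1,0,0,3,3,0,0,0,0,2,1,1,1,1,0,0,3,0,0,2,3,
  3,0,0,0,3,3,0,0,0,3,1,0,3,0,0,0,3,3,1,2,1,1,0,0,3,0,0,3,3,0,0,0,0,0,0,3,1,1,1,0,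
  2,3,3,0,0,0,3,1,1,0,0,3,0,0,0,2,1,1,0,0,0,0,3,1,1,1,0,2,1,0,3,0,0,3,0,0,2,0,3,0,
  0,3,1,2,3,0,0,3,0,0,0,0,0,0,0,3,1,1,1,2,1,1,0,3,0,0,0,0,2,1,2,0,3,0,0,3,1,1,0,3,
  0,0,3,1,0,0,0,0,3,3,1,2,0,0,3,0,0,0,0,2,1,1,3,1,3,0,0,0,0,2,3,0,0,3,1,2,1,0,3,0,
  0,3,0,0,3,0,0,0,3,1,2,1,1,0,2,0,0,0,3,0,0,3,1,1,0,2,0,0,3,1,0,3,1,0,0,0,0,0,0,3,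
  1,1,1,0,2,1,1,0,0,3,0,0,3,0,0,2,1,1,0,2,0,0,3,0,0,3,1,1,0,0,0,0,3,1,1,1,0,2,0,0,
  2,1,0,3,0,0,3,0,0,3,1,1,0,0,3,1,2,0,0,0,0,0,0,0,3,1,1,1,1,0,2,3,3,0,0,0,3,3,0,0,
  0,2,1,0,0,3,3,0,0,0,2,1,1,2,1,0,0,0,2,0,3,1,1,0,3,0,0,0,0,0,3,1,2,0,3,1,0,3,0,0,
  0,3,3,1,0,3,1,0,0,0,0,0,0,3,1,2,1,1,0,3,0,0,3,1,2,0,0,3,0,0,0,3,1,3,3,0,0,0,3,1,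
  0,0,0,0,3,1,1,2,0,3,0,0,2,0,3,1,0,0,0,0,0,0,0,0,3,1,1,1,1,3,1,0,0,0,2,1,3,0,0,3,
  1,2,0,0,0,0,3,1,1,1,0,2,1,0,0,0,2,3,0,0,3,0,0,3,0,0,0,2,1,1,2,3,0,0,3,0,0,2,3,1,
  0,0,0,3,0,0,3,1,1,1,0,0,2,3,0,0,3,3,1,0,0,0,0,3,1,2,0,0,3,3,1,2,0,0,0,0,0,0,0,3,
  1,1,2,0,0,2,1,1,0,2,0,0,3,1,1,1,0,0,0,3,0,0,0,3,3,1,2,0,0,0,0,0,3,1,2,3,0,0,3,1,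
  0,0,0,3,1,1,1,0,0,3,0,0,3,0,0,0,0,0,2,1,3,1,2,0,0,3,1,3,3,0,0,0,3,0,0,0,0,3,1,1,
  1,2,3,0,0,3,0,0,0,2,1,0,3,3,0,0,0,3,1,2,0,0,3,1,0,0,0,0,3,0,0,0,3,1,1,3,3,1,0,0,
  0,0,2,1,2,0,3,1,2,0,0,0,0,3,1,1,0,2,0,3,0,0,3,3,3,0,0,0,0,0,3,3,1,1,2,0,0,0,3,1,
  0,3,0,0,0,0,0,3,1,1,1,2,1,0,0,0,2,0,3,0,0,2,1,1,3,0,0,2,0,3,0,0,3,3,0,0,0,3,1,0,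
  3,1,0,0,0,0,0,0,0,3,1,1,1,1,2,0,3,3,0,0,0,2,3,3,0,0,0,3,3,3,0,0,0,0,0,3,1,1,1,1,
  3,0,0,2,0,0,2,3,0,0,3,1,0,3,0,0,0,2,3,1,0,3,0,0,0,3,3,0,0,0,3,1,1,2,0,0,3,3,1,0,
  0,0,0,3,1,2,1,0,0,0,0,0,0,0,3,1,1,1,2,1,0,0,0,2,3,0,0,3,1,2,0,3,0,0,0,0,2,3,3,0,
  0,0,3,1,1,2,0,0,2,0,0,3,1,2,1,0,3,0,0,3,0,0,0,0,0,3,1,1,1,2,0,0,2,3,0,0,3,1,2,0,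
  0,0,0,2,1,0,0,0,0,0,0,0,0,2,1,1,1,1,1,1,1,0,2,1,1,0,2,0,0,0,0,2,1,0,3,1,1,0,0,0,
  0,3,0,0,2,1,1,1,2,0,0,0,3,3,0,0,0,3,1,1,0,3,0,0,3,0,0,0,3,1,2,1,0,0,0,3,1,3,0,0,
  0,0,0,2,1,1,1,1,1,0,2,0,0,0,2,0,3,0,0,3,0,0,0,0,2,1,1,1,2,3,1,0,0,0,3,0,0,2,1,2,
  0,3,3,0,0,0,3,1,2,0,0,3,3,0,0,0,0,3,3,3,0,0,0,0,2,3,1,2,0,0,0,0,3,1,3,1,2,0,0,3,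
  0,0,0,0,0,3,1,2,0,3,0,0,3,3,1,1,0,3,0,0,3,0,0,0,0,0,3,1,2,1,1,3,1,0,0,0,3,0,0,3,
  3,1,1,0,2,0,3,0,0,0,0,0,3,3,1,2,1,0,0,0,3,1,0,3,0,0,0,0,0,3,1,1,1,0,2,1,0,3,0,0,
  3,0,0,2,3,1,1,0,0,0,0,3,1,0,0,0,3,1,1,0,0,3,0,0,0,0,0,2,3,1,1,1,1,2,0,3,3,0,0,0,
  2,0,3,1,0,0,0,2,1,1,0,2,0,0,3,0,0,3,1,1,0,2,0,0,0,0,2,1,1,3,0,0,2,0,3,0,0,3,1,1,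
  0,0,3,0,0,0,3,1,2,1,0,3,0,0,3,1,0,0,0,3,1,1,0,2,0,0,0,0,0,3,1,1,1,1,0,2,0,0,3,0,
  0,2,1,1,0,0,3,3,0,0,0,3,1,2,1,0,0,3,3,0,0,0,3,1,2,0,0,0,0,0,3,3,0,0,0,0,0,3,1,1,
  1,1,1,0,3,0,0,2,3,1,2,0,0,0,0,3,1,1,0,2,1,0,0,0,0,0,2,1,2,0,0,3,0,0,3,1,1,0,3,0,
  0,3,3,3,0,0,0,0,0,2,1,1,3,1,0,0,0,2,3,1,0,0,0,3,3,3,0,0,0,0,3,3,1,3,1,0,0,0,3,1,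
  0,0,0,0,0,3,1,2,1,3,0,0,0,3,3,1,0,0,0,0,3,1,3,1,3,0,0,0,0,3,1,1,0,2,1,0,0,0,0,0,
  0,0,3,1,1,1,2,1,0,3,0,0,3,0,0,2,3,0,0,3,1,0,0,0,2,1,1,1,0,2,0,0,2,0,0,3,1,1,0,3,
  0,0,3,0,0,0,3,1,2,0,3,0,0,3,0,0,0,3,1,1,1,2,0,3,0,0,2,1,0,0,0,2,3,3,0,0,0,3,1,2,
  0,0,3,0,0,0,3,1,1,1,0,0,2,1,0,0,0,0,0,0,0,0,3,1,1,1,1,1,2,1,0,0,3,0,0,2,0,0,2,1,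
  2,0,0,0,0,2,1,3,1,2,0,0,0,0,3,1,2,0,3,1,0,0,0,0,0,3,1,1,2,1,0,0,3,0,0,2,1,2,0,0,
  3,0,0,3,1,0,0,0,0,0,2,1,1,1,2,0,3,0,0,3,3,0,0,0,2,3,1,0,0,0,3,1,2,0,0,0,0,3,1,2,
  3,3,0,0,0,3,3,1,1,0,0,3,0,0,0,0,3,1,3,3,0,0,0,3,3,0,0,0,0,0,3,1,1,1,2,0,0,2,1,1,
  0,0,3,0,0,3,0,0,2,1,3,3,0,0,0,3,1,0,3,3,0,0,0,0,3,1,1,0,0,3,1,2,0,0,3,0,0,0,0,3,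
  1,1,2,3,0,0,3,0,0,3,3,1,0,0,0,0,3,1,1,2,0,0,3,0,0,3,1,1,0,0,0,0,0,0,0,3,1,1,1,1,
  1,2,0,0,2,3,0,0,3,1,0,3,0,0,0,2,3,1,3,0,0,3,1,0,0,0,0,3,1,1,0,2,0,0,3,1,0,0,0,0,
  2,3,1,0,0,0,3,1,2,1,0,0,3,3,0,0,0,3,1,3,0,0,3,1,0,0,0,0,0,2,1,1,2,3,3,0,0,0,3,3,
  0,0,0,2,3,1,0,0,0,3,3,1,2,0,0,0,0,0,3,1,1,1,0,2,0,0,3,1,0,3,0,0,0,3,1,1,1,0,0,0,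
  0,0,0,3,1,1,2,0,0,2,0,3,3,0,0,0,3,1,1,0,3,0,0,0,0,0,3,1,1,1,3,0,0,2,0,0,2,1,3,1,
  0,3,0,0,0,3,3,0,0,0,3,1,1,1,0,0,2,0,0,3,0,0,0,0,0,0,0,3,1,1,1,1,1,1,0,2,3,3,0,0,
  0,3,1,3,0,0,3,0,0,0,2,3,3,3,0,0,0,0,3,3,3,1,0,0,0,0,0,2,3,1,1,1,0,2,1,0,0,3,0,0,
  2,1,0,3,0,0,3,0,0,3,1,3,0,0,3,1,3,0,0,0,0,0,0,3,1,1,1,1,0,0,2,0,0,0,3,1,1,2,0,3,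
  0,0,3,1,0,3,0,0,0,3,1,1,0,0,0,0,0,0,2,1,2,3,0,0,3,1,1,0,3,0,0,0,0,3,1,1,1,3,0,0,
  2,1,0,3,0,0,3,0,0,2,3,3,0,0,0,3,3,0,0,0,3,1,3,0,0,3,1,3,0,0,3,0,0,0,0,0,3,1,1,3,
  1,2,1,0,0,0,0,0,2,1,2,3,0,0,3,0,0,3,3,0,0,0,3,1,2,0,0,3,0,0,0,3,1,1,1,2,0,0,2,1,
  0,0,0,2,3,0,0,3,1,0,0,0,3,1,3,0,0,3,1,0,0,0,0,0,0,2,1,1,1,1,2,1,0,3,0,0,3,3,1,0,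
  3,0,0,0,0,2,3,0,0,3,1,1,0,0,3,3,0,0,0,0,2,1,1,1,0,0,2,0,0,3,1,1,1,0,0,3,0,0,3,3,
  0,0,0,0,3,1,2,3,0,0,3,0,0,3,1,0,3,1,0,0,0,0,0,2,3,3,1,0,3,0,0,0,0,3,1,1,1,2,0,0,
  2,1,0,3,0,0,3,0,0,2,3,1,0,0,0,3,1,0,3,1,0,3,0,0,0,0,3,1,1,2,0,3,0,0,2,0,0,3,0,0,
  0,0,3,1,1,1,2,0,0,2,0,0,3,3,1,2,0,3,3,0,0,0,3,3,0,0,0,0,0,3,1,1,1,1,0,2,0,0,2,3,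
  3,0,0,0,3,1,0,3,0,0,0,2,3,0,0,3,3,1,0,0,0,0,3,1,1,1,0,2,0,0,2,0,3,0,0,3,0,0,0,0,
  0,3,1,1,1,1,3,1,0,3,0,0,0,3,0,0,2,1,1,0,2,0,3,0,0,0,3,3,0,0,0,2,3,3,1,2,0,0,3,0,
  0,0,0,3,1,1,0,2,1,1,0,0,3,0,0,3,1,0,3,3,0,0,0,0,3,1,1,2,0,0,0,3,1,2,0,0,3,0,0,0,
  0,0,3,1,1,1,3,0,0,2,3,1,0,0,0,3,0,0,3,1,1,0,2,1,0,0,0,0,0,3,3,1,2,3,0,0,3,0,0,0,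
  0,0,0,0,3,1,1,1,1,2,1,1,0,3,0,0,0,0,2,1,1,3,0,0,2,3,0,0,3,1,1,0,0,3,0,0,0,3,1,1,
  0,2,0,0,3,3,1,0,0,0,0,0,3,1,1,0,2,1,0,0,0,3,3,0,0,0,0,2,1,1,1,2,0,0,3,3,0,0,0,2,
  0,3,3,0,0,0,3,0,0,3,1,1,2,1,0,3,0,0,3,0,0,2,1,0,3,1,0,0,0,3,1,1,0,3,0,0,3,0,0,0,
  0,0,2,1,1,3,1,3,0,0,0,0,2,0,0,0,0,3,1,1,1,1,0,2,1,1,0,0,3,1,0,3,1,0,0,0,0,3,3,0,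
  0,0,2,0,0,2,1,3,1,3,0,0,0,0,3,3,1,0,0,0,0,3,1,1,1,1,0,2,0,0,2,0,3,0,0,2,1,1,0,3,
  0,0,3,0,0,3,1,0,0,0,3,1,0,3,3,1,0,0,0,0,0,0,0,0,0,0,2,1,1,1,1,1,1,1,1,1,0,0,2,1,
  0,3,0,0,3,1,0,0,0,2,1,0,0,0,2,1,2,0,3,0,0,3,0,0,3,1,1,0,2,3,3,0,0,0,3,1,0,3,1,0,
  0,0,0,3,1,0,3,3,0,0,0,0,0,2,1,1,1,3,0,0,2,0,3,3,0,0,0,2,0,3,1,1,0,2,3,0,0,3,0,0,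
  3,3,0,0,0,0,3,3,1,0,3,0,0,0,0,3,1,1,1,1,0,0,3,0,0,2,1,1,0,2,0,0,3,3,0,0,0,3,1,1,
  3,0,0,2,3,0,0,3,0,0,3,3,0,0,0,0,3,1,3,3,0,0,0,3,1,0,0,0,0,0,2,1,1,1,1,0,2,1,0,0,
  3,0,0,2,1,2,0,3,0,0,3,0,0,3,1,2,0,0,0,0,2,0,0,3,1,2,3,1,0,0,0,3,3,3,0,0,0,0,3,1,
  1,0,3,0,0,3,3,0,0,0,0,0,3,3,1,1,1,1,1,0,0,0,0,3,1,1,0,0,3,1,0,0,0,0,3,1,2,0,0,3,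
  1,1,0,2,0,0,0,0,0,0,0,2,1,1,1,1,1,3,0,0,2,0,0,2,0,0,2,3,1,0,3,0,0,0,3,1,1,0,3,0,
  0,3,1,0,0,0,0,2,3,1,2,3,0,0,3,1,0,0,0,3,3,3,0,0,0,0,0,3,1,1,1,0,2,3,0,0,3,1,0,3,
  0,0,0,2,1,0,3,3,0,0,0,3,3,1,0,0,0,0,3,1,1,1,0,3,1,0,3,0,0,0,2,0,0,3,1,1,1,0,3,0,
  0,0,3,0,0,0,0,0,3,1,1,1,2,1,1,0,0,0,0,2,3,3,0,0,0,3,3,3,0,0,0,0,2,3,3,0,0,0,3,1,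
  2,1,0,3,0,0,3,0,0,3,1,1,0,3,0,0,3,3,1,0,0,0,0,0,0,3,1,1,1,0,2,0,0,2,1,0,0,0,3,3,
  1,0,0,0,0,0,0,3,1,1,1,2,1,0,3,0,0,3,1,0,3,0,0,0,2,1,1,0,2,0,3,0,0,3,1,0,0,0,3,0,
  0,2,3,1,1,1,0,0,2,3,0,0,3,3,0,0,0,3,0,0,0,3,1,2,1,3,1,0,0,0,3,1,3,0,0,3,3,0,0,0,
  0,3,3,3,0,0,0,0,3,0,0,0,3,3,1,1,1,2,0,0,3,1,0,0,0,2,3,3,0,0,0,3,1,1,0,0,3,1,0,0,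
  0,0,3,0,0,0,0,0,2,1,1,1,1,1,1,0,2,1,0,0,3,0,0,2,1,1,0,3,3,0,0,0,0,0,2,1,3,0,0,0,
  0,2,1,1,1,0,2,3,3,0,0,0,3,3,0,0,0,2,3,0,0,3,0,0,3,1,2,0,3,0,0,3,3,1,3,0,0,3,0,0,
  0,0,0,3,1,2,0,3,3,1,0,0,0,0,3,1,1,0,3,0,0,3,3,0,0,0,0,0,2,3,1,1,1,0,3,0,0,2,1,1,
  0,0,3,1,0,0,0,3,1,0,0,0,3,1,2,1,0,0,0,3,0,0,0,0,3,1,1,1,1,3,0,0,3,1,1,0,0,0,0,2,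
  0,0,3,1,2,0,3,0,0,3,1,0,3,0,0,0,0,3,1,1,2,0,3,1,0,0,0,2,1,0,0,3,1,2,0,0,3,0,0,0,
  3,1,1,0,3,3,0,0,0,3,1,0,0,0,0,0,0,3,1,1,1,1,1,2,0,3,0,0,2,0,0,2,0,0,2,1,0,3,1,0,
  0,0,3,1,1,2,1,0,0,0,2,3,0,0,3,1,0,0,0,0,0,2,1,2,3,1,0,0,0,3,1,2,0,0,0,0,3,1,2,0,
  0,3,3,0,0,0,0,3,1,1,1,2,0,0,0,2,1,3,0,0,3,0,0,3,1,0,3,0,0,0,3,1,1,3,0,0,3,3,1,0,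
  0,0,0,3,3,0,0,0,0,0,3,3,1,1,2,0,0,2,0,3,1,2,0,0,0,0,0,0,0,0,3,1,1,1,1,1,1,0,2,0,
  0,2,3,3,0,0,0,3,3,3,0,0,0,0,2,3,3,3,1,0,0,0,0,0,3,3,1,1,0,3,0,0,3,1,0,0,0,0,0,2,
  1,2,3,0,0,3,0,0,3,1,1,1,0,3,0,0,2,3,3,0,0,0,3,3,0,0,0,0,0,3,1,1,3,1,0,0,0,3,1,0,
  3,0,0,0,3,1,1,0,2,0,3,0,0,3,1,0,3,0,0,0,0,0,2,1,1,1,1,3,0,0,0,3,0,0,2,3,3,0,0,0,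
  3,1,1,3,0,0,2,0,0,3,3,0,0,0,0,0,3,1,1,1,1,0,3,0,0,2,1,1,0,0,0,3,3,0,0,0,2,3,3,3,
  0,0,0,0,3,1,2,1,0,0,3,0,0,3,1,1,0,0,3,1,0,0,0,0,0,3,1,1,2,0,3,0,0,3,1,1,0,2,0,0,
  0,0,3,3,1,0,0,0,0,0,0,3,1,1,1,1,0,2,1,3,0,0,3,3,0,0,0,3,1,1,0,2,1,0,0,0,3,0,0,0,
  2,3,0,0,3,1,1,0,3,1,0,3,0,0,0,0,0,2,1,2,0,0,0,0,3]

theorem octads_complete :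
    complK 8 (fun _ => true) (keysetK (orbK m24Gens octInstrs o₀) 0) = true := by decide +kernel

theorem dodecads_complete :
    complK 12 (fun _ => true) (keysetK (orbK m24Gens dodInstrs d₀) 0) = true := by decide +kernel

/-- The group of the code is transitive on octads. -/
theorem octads_transitive (S : Finset GolayPt) (hS : S ∈ octads) : ∃ g ∈ M24, g • fs o₀ = S :=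
  orbit_complete M24 le_rfl m24Gens m24Gens_ok octInstrs o₀ (by decide) (by decide +kernel) 8
    (fun _ => true) octads_complete S hS rfl

/-- The group of the code is transitive on dodecads. -/
theorem dodecads_transitive (S : Finset GolayPt) (hS : S ∈ dodecads) : ∃ g ∈ M24, g • fs d₀ = S :=
  orbit_complete M24 le_rfl m24Gens m24Gens_ok dodInstrs d₀ (by decide) (by decide +kernel) 12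
    (fun _ => true) dodecads_complete S hS rfl

end Cfsg.Agent.Lib.Helper12.Golay
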