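import Mathlib
import Cfsg.Prelude.Def_Sporadic_a
import Cfsg.Agent.Lib.Helper12.Golay.Octads

set_option autoImplicit false

namespace Cfsg.Agent.Lib.Helper12.Golay

open Cfsg
open scoped Pointwise

/-! ### Abstract reduction lemmas for group actions -/

/-- Reduction of a homogeneity statement to a base point: if `G` acts on parameters `A` and on
objects `B`, the family `X` of objects and the invariant `I` are `G`-stable, and the statement
"objects of `X` with the same invariant relative to `a₀` are conjugate under the stabiliser of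
`a₀`" holds, then the same holds for every parameter in the orbit of `a₀`. -/
theorem homogeneous_of_base {G A B ι : Type*} [Group G] [MulAction G A] [MulAction G B]
    (a₀ : A) (X : Set B) (hX : ∀ (g : G), ∀ b ∈ X, g • b ∈ X) (I : A → B → ι)
    (hI : ∀ (g : G) (a : A) (b : B), I (g • a) (g • b) = I a b)
    (base : ∀ b ∈ X, ∀ b' ∈ X, I a₀ b = I a₀ b' → ∃ h : G, h • a₀ = a₀ ∧ h • b = b')
    (a : A) (ha : ∃ k : G, k • a₀ = a) (b b' : B) (hb : b ∈ X) (hb' : b' ∈ X)
    (h : I a b = I a b') : ∃ g : G, g • a = a ∧ g • b = b' := by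
  obtain ⟨k, rfl⟩ := ha
  have h1 : I a₀ (k⁻¹ • b) = I a₀ (k⁻¹ • b') := by
    have e1 := hI k a₀ (k⁻¹ • b)
    have e2 := hI k a₀ (k⁻¹ • b')
    rw [smul_inv_smul] at e1 e2
    rw [← e1, ← e2, h]
  obtain ⟨g, hg1, hg2⟩ := base _ (hX k⁻¹ b hb) _ (hX k⁻¹ b' hb') h1
  refine ⟨k * g * k⁻¹, ?_, ?_⟩
  · rw [mul_smul, mul_smul, inv_smul_smul, hg1]
  · rw [mul_smul, mul_smul, hg2, smul_inv_smul]

/-- Invariance of counts under moving the parameter. -/
theorem ncard_invariant {G A B ι : Type*} [Group G] [MulAction G A] [MulAction G B]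
    (X : Set B) (hX : ∀ (g : G), ∀ b ∈ X, g • b ∈ X) (I : A → B → ι)
    (hI : ∀ (g : G) (a : A) (b : B), I (g • a) (g • b) = I a b) (P : ι → Prop) (k : G) (a : A) :
    {x : B | x ∈ X ∧ P (I (k • a) x)}.ncard = {x : B | x ∈ X ∧ P (I a x)}.ncard := by
  have : {x : B | x ∈ X ∧ P (I (k • a) x)} = (fun x => k • x) '' {x : B | x ∈ X ∧ P (I a x)} := by
    ext x
    constructor
    · rintro ⟨hx, hP⟩
      refine ⟨k⁻¹ • x, ⟨hX _ _ hx, ?_⟩, smul_inv_smul k x⟩
      have e := hI k a (k⁻¹ • x)
      rw [smul_inv_smul] at e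
      rw [← e]; exact hP
    · rintro ⟨y, ⟨hy, hP⟩, rfl⟩
      exact ⟨hX _ _ hy, by rw [hI]; exact hP⟩
  rw [this, Set.ncard_image_of_injective _ (MulAction.injective k)]

/-- If every object is the image of a representative depending only on its invariant, then
objects with the same invariant are conjugate. -/
theorem conj_of_reps {G B ι : Type*} [Group G] [MulAction G B] (X : Set B) (J : B → ι)
    (rep : ι → B) (hrep : ∀ b ∈ X, ∃ g : G, g • rep (J b) = b) (b b' : B) (hb : b ∈ X)
    (hb' : b' ∈ X) (h : J b = J b') : ∃ g : G, g • b = b' := by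
  obtain ⟨g, hg⟩ := hrep b hb
  obtain ⟨g', hg'⟩ := hrep b' hb'
  refine ⟨g' * g⁻¹, ?_⟩
  rw [mul_smul, ← hg, inv_smul_smul, h, hg']

/-! ### Stabilisers of sets and points given by tables -/

theorem permT_mem_stabilizer_fs {T : List ℕ} (hv : ValidT T) {m : ℕ} (hm : m < 2 ^ 24)
    (h : actK T m = m) : permT T ∈ MulAction.stabilizer (Equiv.Perm GolayPt) (fs m) := by
  rw [MulAction.mem_stabilizer_iff, permT_smul_fs hv hm, ← actK_eq, h]

theorem permT_mem_stabilizer_pt {T : List ℕ} (hv : ValidT T) {i : ℕ} (hi : i < 24)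
    (h : T.getD i 0 = i) : permT T ∈ MulAction.stabilizer (Equiv.Perm GolayPt) (pt i) := by
  rw [MulAction.mem_stabilizer_iff]
  show permT T (pt i) = pt i
  rw [permT_apply_eq_iff hv, idx_pt hi, h]

theorem card_fs_inter {a : ℕ} (ha : a < 2 ^ 24) (S : Finset GolayPt) :
    (fs a ∩ S).card = popcF (Nat.land a (mask S)) := by
  have h1 : Nat.land a (mask S) < 2 ^ 24 := lt_of_le_of_lt Nat.and_le_left ha
  rw [popcF_eq h1, card_eq_popc_mask, mask_inter, mask_fs ha]
  rfl

theorem smul_mem_octads_iff {g : Equiv.Perm GolayPt} (hg : g ∈ M24) (S : Finset GolayPt) :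
    g • S ∈ octads ↔ S ∈ octads := by
  constructor
  · intro h
    have := smul_mem_octads (M24.inv_mem hg) h
    rwa [inv_smul_smul] at this
  · exact smul_mem_octads hg

theorem smul_mem_dodecads_iff {g : Equiv.Perm GolayPt} (hg : g ∈ M24) (S : Finset GolayPt) :
    g • S ∈ dodecads ↔ S ∈ dodecads := by
  constructor
  · intro h
    have := smul_mem_dodecads (M24.inv_mem hg) h
    rwa [inv_smul_smul] at this
  · exact smul_mem_dodecads hg

theorem card_smul_inter (g : Equiv.Perm GolayPt) (s t : Finset GolayPt) :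
    (g • s ∩ g • t).card = (s ∩ t).card := by
  rw [← Finset.smul_finset_inter, card_smul_finset]

end Cfsg.Agent.Lib.Helper12.Golay
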