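import Mathlib
import Cfsg.Prelude.Def_Sporadic_a
import Cfsg.Agent.Lib.Helper12.Golay.Homog

set_option autoImplicit false

namespace Cfsg.Agent.Lib.Helper12.Golay

open Cfsg
open scoped Pointwise

/-- Number of `k < n` satisfying a Boolean predicate (kernel-friendly). -/
def countK (n : ℕ) (p : ℕ → Bool) : ℕ :=
  @Nat.rec (fun _ => ℕ) 0 (fun k ih => Nat.add (cond (p k) 1 0) ih) n

theorem countK_succ (n : ℕ) (p : ℕ → Bool) :
    countK (n + 1) p = Nat.add (cond (p n) 1 0) (countK n p) := rfl

theorem countK_eq (n : ℕ) (p : ℕ → Bool) : countK n p = countBelow n p := by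
  induction n with
  | zero => rfl
  | succ n ih =>
    rw [countK_succ, countBelow, ih]
    cases p n <;> rfl

theorem countBelow_congr (n : ℕ) (p q : ℕ → Bool) (h : ∀ k < n, p k = q k) :
    countBelow n p = countBelow n q := by
  induction n with
  | zero => rfl
  | succ n ih =>
    rw [countBelow, countBelow, ih (fun k hk => h k (Nat.lt_succ_of_lt hk)), h n (Nat.lt_succ_self n)]

theorem countK_eq_countBelow_code (n : ℕ) (hn : n ≤ 4096) (w : ℕ) (C' : ℕ → Bool) :
    countK n (fun u => Nat.beq (popcF (encF u)) w && C' (encF u)) =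
      countBelow n (fun u => Nat.beq (popc (enc u)) w && C' (enc u)) := by
  rw [countK_eq]
  apply countBelow_congr
  intro u hu
  have hu' : u < 4096 := lt_of_lt_of_le hu hn
  simp only [encF_eq hu', popcF_eq (enc_lt u)]

/-- Counting members of a given weight of the length-24 code that satisfy a condition which
can be tested on bitmasks (kernel-friendly version). -/
theorem ncard_wordsOfWeightK (w : ℕ) (C : Finset GolayPt → Prop) (C' : ℕ → Bool)
    (h : ∀ m < 2 ^ 24, C (fs m) ↔ C' m = true) :
    {s : Finset GolayPt | s ∈ wordsOfWeight (golayCode : Set (GolayPt → ZMod 2)) w ∧ C s}.ncard =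
      countK 4096 (fun u => Nat.beq (popcF (encF u)) w && C' (encF u)) :=
  (ncard_wordsOfWeight w C C' h).trans (countK_eq_countBelow_code 4096 le_rfl w C').symm

end Cfsg.Agent.Lib.Helper12.Golay
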