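import Mathlib
import Cfsg.Prelude.Def_Sporadic_a
import Cfsg.Agent.Lib.Helper12.Golay.Count

set_option autoImplicit false

namespace Cfsg.Agent.Lib.Helper12.Golay

open Cfsg
open scoped Pointwise

/-! ### Orbit classes of a subgroup on codewords of a given weight -/

/-- The representative recorded for the class value `c` in a list of triples
(class value, representative bitmask, instructions). -/
def repOf (reps : List (ℕ × ℕ × List ℕ)) (c : ℕ) : ℕ :=
  match reps.find? (fun r => Nat.beq r.1 c) with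
  | some r => r.2.1
  | none => 0

/-- The Boolean test that a triple (class value, representative, instructions) certifies that
all codewords of weight `w` satisfying `cnd` with invariant equal to the class value are in the
orbit of the representative. -/
def repOK (gens : List (List ℕ)) (w : ℕ) (cnd : ℕ → Bool) (inv : ℕ → ℕ) (r : ℕ × ℕ × List ℕ) :
    Bool :=
  Nat.ble (Nat.succ r.2.1) 16777216 && isCodeF r.2.1 &&
    complK w (fun m => cnd m && Nat.beq (inv m) r.1) (keysetK (orbK gens r.2.2 r.2.1) 0)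

/-- The Boolean test that every codeword of weight `w` satisfying `cnd` has its invariant among
the recorded class values. -/
def casesOK (w : ℕ) (cnd : ℕ → Bool) (inv : ℕ → ℕ) (cs : List ℕ) : Bool :=
  allK 4096 fun u => !(Nat.beq (popcF (encF u)) w && cnd (encF u)) || memL (inv (encF u)) cs

theorem classes_rep (H : Subgroup (Equiv.Perm GolayPt)) (hH : H ≤ M24) (gens : List (List ℕ))
    (hg : ∀ T ∈ gens, ValidT T ∧ permT T ∈ H) (w : ℕ) (cnd : ℕ → Bool) (inv : ℕ → ℕ)
    (reps : List (ℕ × ℕ × List ℕ)) (hreps : allL reps (repOK gens w cnd inv) = true)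
    (hcases : casesOK w cnd inv (reps.map fun r => r.1) = true) (S : Finset GolayPt)
    (hS : S ∈ wordsOfWeight (golayCode : Set (GolayPt → ZMod 2)) w) (hc : cnd (mask S) = true) :
    ∃ g ∈ H, g • fs (repOf reps (inv (mask S))) = S := by
  have hS' := (mem_wordsOfWeight_iff S w).mp hS
  obtain ⟨u, hu, hue⟩ := isCode_iff.mp hS'.1
  have h1 := allK_spec hcases u hu
  rw [encF_eq hu, hue, popcF_eq (mask_lt S), hS'.2, hc] at h1
  have h2 : memL (inv (mask S)) (reps.map fun r => r.1) = true := by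
    simpa [Nat.beq_refl] using h1
  rw [memL_iff, List.mem_map] at h2
  obtain ⟨r₀, hr₀, hr₀c⟩ := h2
  have hfind : ∃ r, reps.find? (fun r => Nat.beq r.1 (inv (mask S))) = some r := by
    cases hf : reps.find? (fun r => Nat.beq r.1 (inv (mask S))) with
    | some r => exact ⟨r, rfl⟩
    | none =>
      exfalso
      have := List.find?_eq_none.mp hf r₀ hr₀
      apply this
      exact natBeq_iff.mpr hr₀c
  obtain ⟨r, hr⟩ := hfind
  have hrmem : r ∈ reps := List.mem_of_find?_eq_some hr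
  have hrc : r.1 = inv (mask S) := natBeq_iff.mp (List.find?_some (p := fun r : ℕ × ℕ × List ℕ => Nat.beq r.1 (inv (mask S))) hr)
  have hrep : repOf reps (inv (mask S)) = r.2.1 := by rw [repOf, hr]
  have hok := allL_spec hreps r hrmem
  rw [repOK, Bool.and_eq_true, Bool.and_eq_true] at hok
  obtain ⟨⟨hlt, hcode⟩, hcompl⟩ := hok
  have hlt' : r.2.1 < 2 ^ 24 := by
    have := Nat.le_of_ble_eq_true hlt
    exact this
  rw [hrep]
  exact orbit_complete H hH gens hg r.2.2 r.2.1 hlt' hcode w _ hcompl S hS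
    (by rw [hc, hrc, Nat.beq_refl]; rfl)

/-- Codewords of weight `w` satisfying `cnd` with the same invariant are conjugate under `H`. -/
theorem classes_homog (H : Subgroup (Equiv.Perm GolayPt)) (hH : H ≤ M24) (gens : List (List ℕ))
    (hg : ∀ T ∈ gens, ValidT T ∧ permT T ∈ H) (w : ℕ) (cnd : ℕ → Bool) (inv : ℕ → ℕ)
    (reps : List (ℕ × ℕ × List ℕ)) (hreps : allL reps (repOK gens w cnd inv) = true)
    (hcases : casesOK w cnd inv (reps.map fun r => r.1) = true) (S S' : Finset GolayPt)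
    (hS : S ∈ wordsOfWeight (golayCode : Set (GolayPt → ZMod 2)) w)
    (hS' : S' ∈ wordsOfWeight (golayCode : Set (GolayPt → ZMod 2)) w)
    (hc : cnd (mask S) = true) (hc' : cnd (mask S') = true) (hinv : inv (mask S) = inv (mask S')) :
    ∃ g ∈ H, g • S = S' := by
  obtain ⟨g, hg1, hg2⟩ := classes_rep H hH gens hg w cnd inv reps hreps hcases S hS hc
  obtain ⟨g', hg1', hg2'⟩ := classes_rep H hH gens hg w cnd inv reps hreps hcases S' hS' hc'
  refine ⟨g' * g⁻¹, H.mul_mem hg1' (H.inv_mem hg1), ?_⟩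
  rw [mul_smul, ← hg2, inv_smul_smul, hinv, hg2']

/-! ### Points -/

theorem fs_two_pow {i : ℕ} (hi : i < 24) : fs (Nat.shiftLeft 1 i) = {pt i} := by
  ext p
  have h1 : Nat.shiftLeft 1 i = 2 ^ i := Nat.one_shiftLeft i
  rw [mem_fs, h1, Nat.testBit_two_pow, Finset.mem_singleton, decide_eq_true_eq]
  constructor
  · intro h; rw [h, pt_idx]
  · intro h; rw [h, idx_pt hi]

theorem mem_fs_pt {m i : ℕ} (hi : i < 24) : pt i ∈ fs m ↔ tb m i = true := by
  rw [mem_fs, idx_pt hi, tb_eq]

theorem mem_fs_iff_tb {m : ℕ} {p : GolayPt} : p ∈ fs m ↔ tb m (idx p) = true := by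
  rw [mem_fs, tb_eq]

/-- Transitivity of a subgroup on a set of points, from an orbit list of singletons. -/
theorem point_transitive (H : Subgroup (Equiv.Perm GolayPt)) (gens : List (List ℕ))
    (hg : ∀ T ∈ gens, ValidT T ∧ permT T ∈ H) (is : List ℕ) (i₀ : ℕ) (hi₀ : i₀ < 24)
    (sel : ℕ → Bool)
    (hcheck : ∀ i : Fin 24, sel i = true →
      memL (Nat.shiftLeft 1 i) (orbK gens is (Nat.shiftLeft 1 i₀)) = true)
    (x : GolayPt) (hx : sel (idx x) = true) : ∃ g ∈ H, g (pt i₀) = x := by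
  have h1 := hcheck ⟨idx x, idx_lt x⟩ hx
  rw [memL_iff, orbK_eq] at h1
  have hlt : Nat.shiftLeft 1 i₀ < 2 ^ 24 := by
    have h2 : Nat.shiftLeft 1 i₀ = 2 ^ i₀ := Nat.one_shiftLeft i₀
    rw [h2]; exact Nat.pow_lt_pow_right (by norm_num) hi₀
  obtain ⟨_, g, hgH, hgm⟩ := orbL_spec H gens hg is _ hlt _ h1
  refine ⟨g, hgH, ?_⟩
  rw [fs_two_pow hi₀, fs_two_pow (idx_lt x), pt_idx, Finset.smul_finset_singleton] at hgm
  exact Finset.singleton_injective hgm

/-- Extending transitivity on a family of parameters by one more coordinate. -/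
theorem extend_transitive {G A C : Type*} [Group G] [MulAction G A] [MulAction G C] (a₀ : A)
    (c₀ : C) (R : A → C → Prop) (hR : ∀ (g : G) (a : A) (c : C), R (g • a) (g • c) ↔ R a c)
    (hstab : ∀ c, R a₀ c → ∃ h : G, h • a₀ = a₀ ∧ h • c₀ = c) (a : A)
    (ha : ∃ k : G, k • a₀ = a) (c : C) (hc : R a c) : ∃ k : G, k • (a₀, c₀) = (a, c) := by
  obtain ⟨k, rfl⟩ := ha
  have h1 : R a₀ (k⁻¹ • c) := by
    have := hR k a₀ (k⁻¹ • c)
    rw [smul_inv_smul] at this
    exact this.mp hc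
  obtain ⟨h, hh1, hh2⟩ := hstab _ h1
  refine ⟨k * h, ?_⟩
  rw [Prod.smul_mk, mul_smul, mul_smul, hh1, hh2, smul_inv_smul]

/-- Reduction of a homogeneity statement to a base point, with the family of objects depending
on the parameter. -/
theorem homogeneous_of_base' {G A B ι : Type*} [Group G] [MulAction G A] [MulAction G B]
    (a₀ : A) (X : A → Set B) (hX : ∀ (g : G) (a : A), ∀ b ∈ X a, g • b ∈ X (g • a))
    (I : A → B → ι) (hI : ∀ (g : G) (a : A) (b : B), I (g • a) (g • b) = I a b)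
    (base : ∀ b ∈ X a₀, ∀ b' ∈ X a₀, I a₀ b = I a₀ b' → ∃ h : G, h • a₀ = a₀ ∧ h • b = b')
    (a : A) (ha : ∃ k : G, k • a₀ = a) (b b' : B) (hb : b ∈ X a) (hb' : b' ∈ X a)
    (h : I a b = I a b') : ∃ g : G, g • a = a ∧ g • b = b' := by
  obtain ⟨k, rfl⟩ := ha
  have h1 : I a₀ (k⁻¹ • b) = I a₀ (k⁻¹ • b') := by
    have e1 := hI k a₀ (k⁻¹ • b)
    have e2 := hI k a₀ (k⁻¹ • b')
    rw [smul_inv_smul] at e1 e2
    rw [← e1, ← e2, h]
  have hb1 : k⁻¹ • b ∈ X a₀ := by
    have := hX k⁻¹ (k • a₀) b hb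
    rwa [inv_smul_smul] at this
  have hb1' : k⁻¹ • b' ∈ X a₀ := by
    have := hX k⁻¹ (k • a₀) b' hb'
    rwa [inv_smul_smul] at this
  obtain ⟨g, hg1, hg2⟩ := base _ hb1 _ hb1' h1
  refine ⟨k * g * k⁻¹, ?_, ?_⟩
  · rw [mul_smul, mul_smul, inv_smul_smul, hg1]
  · rw [mul_smul, mul_smul, hg2, smul_inv_smul]

end Cfsg.Agent.Lib.Helper12.Golay
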