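import Mathlib
import Cfsg.Prelude.Def_Sporadic_a
import Cfsg.Agent.Lib.Helper12.Golay.Classes

set_option autoImplicit false

namespace Cfsg.Agent.Lib.Helper12.Golay

open Cfsg
open scoped Pointwise

/-! ### The stabiliser of the standard octad and of a point inside or outside it

The standard octad `o₀` is `{0,1,2,3,4,7,10,12}`; the base points are `0` (inside) and `5`
(outside), and further `1` (inside) and `6` (outside). -/

/-- The stabiliser of the standard octad in the group of the code. -/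
def stabO : Subgroup (Equiv.Perm GolayPt) :=
  M24 ⊓ MulAction.stabilizer (Equiv.Perm GolayPt) (fs o₀)

/-- The stabiliser of the standard octad and of the point `0` of it. -/
def stabO0 : Subgroup (Equiv.Perm GolayPt) :=
  stabO ⊓ MulAction.stabilizer (Equiv.Perm GolayPt) (pt 0)

/-- The stabiliser of the standard octad and of the point `5` outside it. -/
def stabO5 : Subgroup (Equiv.Perm GolayPt) :=
  stabO ⊓ MulAction.stabilizer (Equiv.Perm GolayPt) (pt 5)

/-- Inverse tables of generators of `stabO`. -/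
def stabOGens : List (List ℕ) := [[3,4,0,7,2,17,8,12,23,13,10,20,1,18,9,22,14,5,19,6,21,15,16,11],
  [0,12,1,4,2,14,15,3,13,16,7,18,10,17,5,8,19,11,9,21,6,23,20,22]]

/-- Inverse tables of generators of `stabO0`. -/
def stabO0Gens : List (List ℕ) := [[0,12,1,2,7,9,5,4,18,15,10,6,3,20,21,8,23,16,19,11,17,22,13,14],
  [0,4,3,2,1,19,5,12,21,20,7,22,10,14,6,8,9,17,11,23,16,18,15,13]]

/-- Inverse tables of generators of `stabO5`. -/
def stabO5Gens : List (List ℕ) := [[10,2,7,0,1,5,22,4,16,13,12,20,3,11,19,14,8,17,18,23,9,21,6,15],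
  [4,0,1,2,3,5,20,12,23,6,7,14,10,17,19,13,22,9,21,16,11,15,8,18]]

theorem stabOGens_ok : ∀ T ∈ stabOGens, ValidT T ∧ permT T ∈ stabO := by
  have h : ∀ T ∈ stabOGens, okK T = true ∧ actK T o₀ = o₀ := by decide +kernel
  intro T hT
  obtain ⟨h1, h2⟩ := h T hT
  exact ⟨okK_valid h1, permT_mem_M24' h1, permT_mem_stabilizer_fs (okK_valid h1) (by decide) h2⟩

theorem stabO0Gens_ok : ∀ T ∈ stabO0Gens, ValidT T ∧ permT T ∈ stabO0 := by
  have h : ∀ T ∈ stabO0Gens, okK T = true ∧ actK T o₀ = o₀ ∧ T.getD 0 0 = 0 := by decide +kernel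
  intro T hT
  obtain ⟨h1, h2, h3⟩ := h T hT
  exact ⟨okK_valid h1, ⟨permT_mem_M24' h1, permT_mem_stabilizer_fs (okK_valid h1) (by decide) h2⟩,
    permT_mem_stabilizer_pt (okK_valid h1) (by decide) h3⟩

theorem stabO5Gens_ok : ∀ T ∈ stabO5Gens, ValidT T ∧ permT T ∈ stabO5 := by
  have h : ∀ T ∈ stabO5Gens, okK T = true ∧ actK T o₀ = o₀ ∧ T.getD 5 0 = 5 := by decide +kernel
  intro T hT
  obtain ⟨h1, h2, h3⟩ := h T hT
  exact ⟨okK_valid h1, ⟨permT_mem_M24' h1, permT_mem_stabilizer_fs (okK_valid h1) (by decide) h2⟩,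
    permT_mem_stabilizer_pt (okK_valid h1) (by decide) h3⟩

theorem stabO_le : stabO ≤ M24 := inf_le_left
theorem stabO0_le : stabO0 ≤ M24 := inf_le_left.trans inf_le_left
theorem stabO5_le : stabO5 ≤ M24 := inf_le_left.trans inf_le_left

/-- Bitmask of the complement of the standard octad. -/
def o₀c : ℕ := 16771936

theorem not_mem_fs_o₀_iff (x : GolayPt) : x ∉ fs o₀ ↔ tb o₀c (idx x) = true := by
  rw [mem_fs_iff_tb]
  have : ∀ i : Fin 24, tb o₀ i = !tb o₀c i := by decide
  rw [this ⟨idx x, idx_lt x⟩]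
  simp

/-- `stabO` is transitive on the points of the standard octad. -/
theorem stabO_trans_in (x : GolayPt) (hx : x ∈ fs o₀) : ∃ g ∈ stabO, g (pt 0) = x :=
  point_transitive stabO stabOGens stabOGens_ok [1,1,1,1,0,0,2,2,2] 0 (by decide) (tb o₀)
    (by decide +kernel) x (mem_fs_iff_tb.mp hx)

/-- `stabO` is transitive on the points outside the standard octad. -/
theorem stabO_trans_out (x : GolayPt) (hx : x ∉ fs o₀) : ∃ g ∈ stabO, g (pt 5) = x :=
  point_transitive stabO stabOGens stabOGens_ok [1,2,1,2,2,0,0,0,2,1,1,0,2,0,0,2,1,0,0,0,0,0,2,1,1,2] 5 (by decide) (tb o₀c)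
    (by decide +kernel) x ((not_mem_fs_o₀_iff x).mp hx)

/-- `stabO0` is transitive on the points of the standard octad other than `0`. -/
theorem stabO0_trans_in (x : GolayPt) (hx : x ∈ fs o₀) (hx0 : x ≠ pt 0) :
    ∃ g ∈ stabO0, g (pt 1) = x := by
  apply point_transitive stabO0 stabO0Gens stabO0Gens_ok [1,1,1,0,0,0,2,1,2] 1 (by decide)
    (fun i => tb o₀ i && !Nat.beq i 0) (by decide +kernel) x
  rw [Bool.and_eq_true, Bool.not_eq_true', ← Bool.not_eq_true, natBeq_iff]
  refine ⟨mem_fs_iff_tb.mp hx, fun h => hx0 ?_⟩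
  rw [← pt_idx x, h]

/-- `stabO0` is transitive on the points outside the standard octad. -/
theorem stabO0_trans_out (x : GolayPt) (hx : x ∉ fs o₀) : ∃ g ∈ stabO0, g (pt 5) = x :=
  point_transitive stabO0 stabO0Gens stabO0Gens_ok [1,1,1,0,2,1,1,1,0,0,0,2,0,0,0,2,1,1,1,0,2,0,0,0,2,1] 5 (by decide) (tb o₀c)
    (by decide +kernel) x ((not_mem_fs_o₀_iff x).mp hx)

/-- `stabO5` is transitive on the points of the standard octad. -/
theorem stabO5_trans_in (x : GolayPt) (hx : x ∈ fs o₀) : ∃ g ∈ stabO5, g (pt 0) = x :=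
  point_transitive stabO5 stabO5Gens stabO5Gens_ok [1,1,1,0,2,0,0,2,0,0,2,2] 0 (by decide) (tb o₀)
    (by decide +kernel) x (mem_fs_iff_tb.mp hx)

/-- `stabO5` is transitive on the points outside the standard octad other than `5`. -/
theorem stabO5_trans_out (x : GolayPt) (hx : x ∉ fs o₀) (hx5 : x ≠ pt 5) :
    ∃ g ∈ stabO5, g (pt 6) = x := by
  apply point_transitive stabO5 stabO5Gens stabO5Gens_ok [1,2,1,0,2,1,0,0,0,0,2,1,1,0,0,2,2,2,1,0,2,2] 6 (by decide)
    (fun i => tb o₀c i && !Nat.beq i 5) (by decide +kernel) x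
  rw [Bool.and_eq_true, Bool.not_eq_true', ← Bool.not_eq_true, natBeq_iff]
  refine ⟨(not_mem_fs_o₀_iff x).mp hx, fun h => hx5 ?_⟩
  rw [← pt_idx x, h]

/-! ### Transitivity on flags -/

theorem mem_smul_finset_iff_M24 (g : M24) (x : GolayPt) (s : Finset GolayPt) :
    g • x ∈ g • s ↔ x ∈ s := Finset.smul_mem_smul_finset_iff g

/-- The group of the code is transitive on pairs (octad, point of it). -/
theorem flag_in (o : Finset GolayPt) (ho : o ∈ octads) (x : GolayPt) (hx : x ∈ o) :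
    ∃ k : M24, k • ((fs o₀, pt 0) : Finset GolayPt × GolayPt) = (o, x) := by
  apply extend_transitive (G := M24) (fs o₀) (pt 0) (fun a c => c ∈ a)
    (fun g a c => mem_smul_finset_iff_M24 g c a) _ o _ x hx
  · intro c hc
    obtain ⟨g, hg, hgc⟩ := stabO_trans_in c hc
    exact ⟨⟨g, hg.1⟩, hg.2, hgc⟩
  · obtain ⟨g, hg, hgo⟩ := octads_transitive o ho
    exact ⟨⟨g, hg⟩, hgo⟩

/-- The group of the code is transitive on pairs (octad, point outside it). -/
theorem flag_out (o : Finset GolayPt) (ho : o ∈ octads) (x : GolayPt) (hx : x ∉ o) :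
    ∃ k : M24, k • ((fs o₀, pt 5) : Finset GolayPt × GolayPt) = (o, x) := by
  apply extend_transitive (G := M24) (fs o₀) (pt 5) (fun a c => c ∉ a)
    (fun g a c => not_congr (mem_smul_finset_iff_M24 g c a)) _ o _ x hx
  · intro c hc
    obtain ⟨g, hg, hgc⟩ := stabO_trans_out c hc
    exact ⟨⟨g, hg.1⟩, hg.2, hgc⟩
  · obtain ⟨g, hg, hgo⟩ := octads_transitive o ho
    exact ⟨⟨g, hg⟩, hgo⟩

end Cfsg.Agent.Lib.Helper12.Golay
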