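import Mathlib
import Cfsg.Prelude.Def_Sporadic_a
import Cfsg.Agent.Lib.Helper12.Golay.Flags

set_option autoImplicit false

namespace Cfsg.Agent.Lib.Helper12.Golay

open Cfsg
open scoped Pointwise

/-! ### More stabilisers: two points of the standard octad, a point inside and a point outside,
and the stabiliser of a point -/

/-- The stabiliser of the standard octad and of its points `0` and `1`. -/
def stabO01 : Subgroup (Equiv.Perm GolayPt) :=
  stabO0 ⊓ MulAction.stabilizer (Equiv.Perm GolayPt) (pt 1)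

/-- The stabiliser of the standard octad, of its point `0` and of the outside point `5`. -/
def stabO05 : Subgroup (Equiv.Perm GolayPt) :=
  stabO0 ⊓ MulAction.stabilizer (Equiv.Perm GolayPt) (pt 5)

/-- The stabiliser of the point `0` in the group of the code. -/
def stabP0 : Subgroup (Equiv.Perm GolayPt) :=
  M24 ⊓ MulAction.stabilizer (Equiv.Perm GolayPt) (pt 0)

/-- Inverse tables of generators of `stabO01`. -/
def stabO01Gens : List (List ℕ) := [[0,1,3,12,10,15,17,2,9,11,4,16,7,6,21,20,8,22,18,5,19,14,13,23],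
  [0,1,10,3,12,19,18,2,22,5,4,11,7,8,9,20,14,21,23,16,13,6,15,17]]

/-- Inverse tables of generators of `stabO05`. -/
def stabO05Gens : List (List ℕ) := [[0,10,2,1,4,5,13,12,15,11,7,14,3,16,8,9,20,22,6,23,18,17,19,21],
  [0,7,4,3,10,5,21,1,6,18,12,15,2,13,17,14,23,11,16,22,8,20,19,9]]

/-- Inverse tables of generators of `stabP0`. -/
def stabP0Gens : List (List ℕ) := [[0,8,11,12,1,22,7,18,3,13,23,10,2,19,21,4,6,9,20,15,14,16,5,17],
  [0,13,10,7,17,11,20,14,4,6,3,2,18,16,5,23,19,12,15,9,1,21,22,8]]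

theorem stabO01Gens_ok : ∀ T ∈ stabO01Gens, ValidT T ∧ permT T ∈ stabO01 := by
  have h : ∀ T ∈ stabO01Gens, okK T = true ∧ actK T o₀ = o₀ ∧ T.getD 0 0 = 0 ∧ T.getD 1 0 = 1 := by
    decide +kernel
  intro T hT
  obtain ⟨h1, h2, h3, h4⟩ := h T hT
  exact ⟨okK_valid h1, ⟨⟨permT_mem_M24' h1, permT_mem_stabilizer_fs (okK_valid h1) (by decide) h2⟩,
    permT_mem_stabilizer_pt (okK_valid h1) (by decide) h3⟩,
    permT_mem_stabilizer_pt (okK_valid h1) (by decide) h4⟩

theorem stabO05Gens_ok : ∀ T ∈ stabO05Gens, ValidT T ∧ permT T ∈ stabO05 := by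
  have h : ∀ T ∈ stabO05Gens, okK T = true ∧ actK T o₀ = o₀ ∧ T.getD 0 0 = 0 ∧ T.getD 5 0 = 5 := by
    decide +kernel
  intro T hT
  obtain ⟨h1, h2, h3, h4⟩ := h T hT
  exact ⟨okK_valid h1, ⟨⟨permT_mem_M24' h1, permT_mem_stabilizer_fs (okK_valid h1) (by decide) h2⟩,
    permT_mem_stabilizer_pt (okK_valid h1) (by decide) h3⟩,
    permT_mem_stabilizer_pt (okK_valid h1) (by decide) h4⟩

theorem stabP0Gens_ok : ∀ T ∈ stabP0Gens, ValidT T ∧ permT T ∈ stabP0 := by
  have h : ∀ T ∈ stabP0Gens, okK T = true ∧ T.getD 0 0 = 0 := by decide +kernel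
  intro T hT
  obtain ⟨h1, h3⟩ := h T hT
  exact ⟨okK_valid h1, permT_mem_M24' h1, permT_mem_stabilizer_pt (okK_valid h1) (by decide) h3⟩

theorem stabO01_le : stabO01 ≤ M24 := inf_le_left.trans stabO0_le
theorem stabO05_le : stabO05 ≤ M24 := inf_le_left.trans stabO0_le
theorem stabP0_le : stabP0 ≤ M24 := inf_le_left

theorem m24Gens_ok' : ∀ T ∈ m24Gens, ValidT T ∧ permT T ∈ (M24 : Subgroup (Equiv.Perm GolayPt)) :=
  m24Gens_ok

/-- The group of the code is transitive on points. -/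
theorem M24_trans_pt (x : GolayPt) : ∃ g ∈ M24, g (pt 0) = x :=
  point_transitive M24 m24Gens m24Gens_ok [1,1,1,2,1,0,0,0,2,1,1,0,2,0,3,0,0,0,3,1,0,0,0,2,3,3,0,0,0,3,1,1,3,0,0,0,3,1,2,0,0,0,0,0,2] 0 (by decide) (fun _ => true)
    (by decide +kernel) x rfl

/-- The stabiliser of the point `0` is transitive on the other points. -/
theorem stabP0_trans (x : GolayPt) (hx : x ≠ pt 0) : ∃ g ∈ stabP0, g (pt 5) = x := by
  apply point_transitive stabP0 stabP0Gens stabP0Gens_ok [1,0,2,1,1,2,2,2,0,0,0,0,2,1,1,0,2,0,0,2,2,0,0,0,0,2,2,1,1,0,2,2,0,0,0,2,1,0,2] 5 (by decide)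
    (fun i => !Nat.beq i 0) (by decide +kernel) x
  rw [Bool.not_eq_true', ← Bool.not_eq_true, natBeq_iff]
  intro h
  apply hx
  rw [← pt_idx x, h]

/-- The action of the group of the code on pairs of points. -/
theorem smul_pt_pair (g : M24) (a : GolayPt × GolayPt) :
    g • a = ((g : Equiv.Perm GolayPt) a.1, (g : Equiv.Perm GolayPt) a.2) := rfl

/-- The group of the code is 2-transitive on points. -/
theorem two_transitive (p q : GolayPt) (hpq : p ≠ q) :
    ∃ k : M24, k • ((pt 0, pt 5) : GolayPt × GolayPt) = (p, q) := by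
  apply extend_transitive (G := M24) (pt 0) (pt 5) (fun a c => a ≠ c)
    (fun g a c => not_congr (MulAction.injective g).eq_iff) _ p _ q hpq
  · intro c hc
    obtain ⟨g, hg, hgc⟩ := stabP0_trans c (Ne.symm hc)
    exact ⟨⟨g, hg.1⟩, hg.2, hgc⟩
  · obtain ⟨g, hg, hgo⟩ := M24_trans_pt p
    exact ⟨⟨g, hg⟩, hgo⟩

/-- The action of the group of the code on triples (set, point, point). -/
theorem smul_flag2 (g : M24) (a : (Finset GolayPt × GolayPt) × GolayPt) :
    g • a = (((g : Equiv.Perm GolayPt) • a.1.1, (g : Equiv.Perm GolayPt) a.1.2),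
      (g : Equiv.Perm GolayPt) a.2) := rfl

/-- The action of the group of the code on pairs (set, point). -/
theorem smul_flag (g : M24) (a : Finset GolayPt × GolayPt) :
    g • a = ((g : Equiv.Perm GolayPt) • a.1, (g : Equiv.Perm GolayPt) a.2) := rfl

/-- Transitivity on triples (octad, two distinct points of it). -/
theorem flag_in_in (o : Finset GolayPt) (ho : o ∈ octads) (p q : GolayPt) (hp : p ∈ o)
    (hq : q ∈ o) (hpq : p ≠ q) :
    ∃ k : M24, k • (((fs o₀, pt 0), pt 1) : (Finset GolayPt × GolayPt) × GolayPt) = ((o, p), q) := by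
  apply extend_transitive (G := M24) ((fs o₀, pt 0) : Finset GolayPt × GolayPt) (pt 1)
    (fun a c => c ∈ a.1 ∧ a.2 ≠ c)
    (fun g a c => and_congr (Finset.smul_mem_smul_finset_iff (g : Equiv.Perm GolayPt))
      (not_congr (MulAction.injective g).eq_iff)) _ (o, p) (flag_in o ho p hp) q ⟨hq, hpq⟩
  intro c hc
  obtain ⟨g, hg, hgc⟩ := stabO0_trans_in c hc.1 (Ne.symm hc.2)
  refine ⟨⟨g, stabO0_le hg⟩, ?_, hgc⟩
  rw [smul_flag]
  exact Prod.ext hg.1.2 hg.2

/-- Transitivity on triples (octad, a point of it, a point outside it). -/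
theorem flag_in_out (o : Finset GolayPt) (ho : o ∈ octads) (p q : GolayPt) (hp : p ∈ o)
    (hq : q ∉ o) :
    ∃ k : M24, k • (((fs o₀, pt 0), pt 5) : (Finset GolayPt × GolayPt) × GolayPt) = ((o, p), q) := by
  apply extend_transitive (G := M24) ((fs o₀, pt 0) : Finset GolayPt × GolayPt) (pt 5)
    (fun a c => c ∉ a.1)
    (fun g a c => not_congr (Finset.smul_mem_smul_finset_iff (g : Equiv.Perm GolayPt)))
    _ (o, p) (flag_in o ho p hp) q hq
  intro c hc
  obtain ⟨g, hg, hgc⟩ := stabO0_trans_out c hc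
  refine ⟨⟨g, stabO0_le hg⟩, ?_, hgc⟩
  rw [smul_flag]
  exact Prod.ext hg.1.2 hg.2

end Cfsg.Agent.Lib.Helper12.Golay
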