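import Mathlib
import Cfsg.Prelude.Def_Sporadic_a
import Cfsg.Agent.Lib.Helper12.Golay.Flags2

set_option autoImplicit false

namespace Cfsg.Agent.Lib.Helper12.Golay

open Cfsg
open scoped Pointwise

/-! ### Transitivity on sextuples: an octad, five points of it and a sixth point -/

/-- The stabiliser of the standard octad and of its points `0`, `1`, `2`. -/
def stabO012 : Subgroup (Equiv.Perm GolayPt) :=
  stabO01 ⊓ MulAction.stabilizer (Equiv.Perm GolayPt) (pt 2)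

/-- The stabiliser of the standard octad and of its points `0`, `1`, `2`, `3`. -/
def stabO0123 : Subgroup (Equiv.Perm GolayPt) :=
  stabO012 ⊓ MulAction.stabilizer (Equiv.Perm GolayPt) (pt 3)

/-- The stabiliser of the standard octad and of its points `0`, `1`, `2`, `3`, `4`. -/
def stabO01234 : Subgroup (Equiv.Perm GolayPt) :=
  stabO0123 ⊓ MulAction.stabilizer (Equiv.Perm GolayPt) (pt 4)

/-- Inverse tables of generators of `stabO012`. -/
def stabO012Gens : List (List ℕ) := [[0,1,2,12,4,14,11,7,17,8,3,18,10,13,21,19,22,9,6,20,15,5,23,16],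
  [0,1,2,3,12,20,5,4,15,17,10,14,7,11,13,16,8,21,22,19,6,9,23,18]]

/-- Inverse tables of generators of `stabO0123`. -/
def stabO0123Gens : List (List ℕ) := [[0,1,2,3,10,16,22,7,21,6,12,11,4,23,8,13,20,19,17,18,5,14,9,15],
  [0,1,2,3,7,20,15,4,22,16,12,8,10,23,18,9,6,13,5,11,14,17,19,21],
  [0,1,2,3,4,21,6,10,14,11,12,22,7,19,20,23,5,13,15,17,8,16,9,18]]

/-- Inverse tables of generators of `stabO01234`. -/
def stabO01234Gens : List (List ℕ) := [[0,1,2,3,4,6,5,7,18,14,10,23,12,15,9,13,21,22,8,20,19,16,17,11],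
  [0,1,2,3,4,22,18,10,19,13,12,21,7,14,9,15,8,11,23,16,5,17,20,6],
  [0,1,2,3,4,8,18,7,5,20,10,13,12,11,19,23,17,16,6,14,9,22,21,15]]

theorem stabO012Gens_ok : ∀ T ∈ stabO012Gens, ValidT T ∧ permT T ∈ stabO012 := by
  have h : ∀ T ∈ stabO012Gens, okK T = true ∧ actK T o₀ = o₀ ∧ T.getD 0 0 = 0 ∧ T.getD 1 0 = 1 ∧
      T.getD 2 0 = 2 := by decide +kernel
  intro T hT
  obtain ⟨h1, h2, h3, h4, h5⟩ := h T hT
  have hv := okK_valid h1
  exact ⟨hv, ⟨⟨⟨permT_mem_M24' h1, permT_mem_stabilizer_fs hv (by decide) h2⟩,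
    permT_mem_stabilizer_pt hv (by decide) h3⟩, permT_mem_stabilizer_pt hv (by decide) h4⟩,
    permT_mem_stabilizer_pt hv (by decide) h5⟩

theorem stabO0123Gens_ok : ∀ T ∈ stabO0123Gens, ValidT T ∧ permT T ∈ stabO0123 := by
  have h : ∀ T ∈ stabO0123Gens, okK T = true ∧ actK T o₀ = o₀ ∧ T.getD 0 0 = 0 ∧ T.getD 1 0 = 1 ∧
      T.getD 2 0 = 2 ∧ T.getD 3 0 = 3 := by decide +kernel
  intro T hT
  obtain ⟨h1, h2, h3, h4, h5, h6⟩ := h T hT
  have hv := okK_valid h1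
  exact ⟨hv, ⟨⟨⟨⟨permT_mem_M24' h1, permT_mem_stabilizer_fs hv (by decide) h2⟩,
    permT_mem_stabilizer_pt hv (by decide) h3⟩, permT_mem_stabilizer_pt hv (by decide) h4⟩,
    permT_mem_stabilizer_pt hv (by decide) h5⟩, permT_mem_stabilizer_pt hv (by decide) h6⟩

theorem stabO01234Gens_ok : ∀ T ∈ stabO01234Gens, ValidT T ∧ permT T ∈ stabO01234 := by
  have h : ∀ T ∈ stabO01234Gens, okK T = true ∧ actK T o₀ = o₀ ∧ T.getD 0 0 = 0 ∧ T.getD 1 0 = 1 ∧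
      T.getD 2 0 = 2 ∧ T.getD 3 0 = 3 ∧ T.getD 4 0 = 4 := by decide +kernel
  intro T hT
  obtain ⟨h1, h2, h3, h4, h5, h6, h7⟩ := h T hT
  have hv := okK_valid h1
  exact ⟨hv, ⟨⟨⟨⟨⟨permT_mem_M24' h1, permT_mem_stabilizer_fs hv (by decide) h2⟩,
    permT_mem_stabilizer_pt hv (by decide) h3⟩, permT_mem_stabilizer_pt hv (by decide) h4⟩,
    permT_mem_stabilizer_pt hv (by decide) h5⟩, permT_mem_stabilizer_pt hv (by decide) h6⟩,
    permT_mem_stabilizer_pt hv (by decide) h7⟩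

theorem stabO012_le : stabO012 ≤ M24 := inf_le_left.trans stabO01_le
theorem stabO0123_le : stabO0123 ≤ M24 := inf_le_left.trans stabO012_le
theorem stabO01234_le : stabO01234 ≤ M24 := inf_le_left.trans stabO0123_le

theorem idx_ne_of_ne {x : GolayPt} {i : ℕ} (h : x ≠ pt i) : Nat.beq (idx x) i = false := by
  rw [← Bool.not_eq_true, natBeq_iff]
  intro h'
  apply h
  rw [← pt_idx x, h']

/-- `stabO01` is transitive on the points of the standard octad other than `0`, `1`. -/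
theorem stabO01_trans_in (x : GolayPt) (hx : x ∈ fs o₀) (h0 : x ≠ pt 0) (h1 : x ≠ pt 1) :
    ∃ g ∈ stabO01, g (pt 2) = x := by
  apply point_transitive stabO01 stabO01Gens stabO01Gens_ok [1,1,1,0,2,1] 2 (by decide)
    (fun i => tb o₀ i && !Nat.beq i 0 && !Nat.beq i 1) (by decide +kernel) x
  rw [mem_fs_iff_tb.mp hx, idx_ne_of_ne h0, idx_ne_of_ne h1]
  rfl

/-- `stabO012` is transitive on the points of the standard octad other than `0`, `1`, `2`. -/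
theorem stabO012_trans_in (x : GolayPt) (hx : x ∈ fs o₀) (h0 : x ≠ pt 0) (h1 : x ≠ pt 1)
    (h2 : x ≠ pt 2) : ∃ g ∈ stabO012, g (pt 3) = x := by
  apply point_transitive stabO012 stabO012Gens stabO012Gens_ok [1,1,2,2] 3 (by decide)
    (fun i => tb o₀ i && !Nat.beq i 0 && !Nat.beq i 1 && !Nat.beq i 2) (by decide +kernel) x
  rw [mem_fs_iff_tb.mp hx, idx_ne_of_ne h0, idx_ne_of_ne h1, idx_ne_of_ne h2]
  rfl

/-- `stabO0123` is transitive on the points of the standard octad other than `0`, `1`, `2`, `3`. -/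
theorem stabO0123_trans_in (x : GolayPt) (hx : x ∈ fs o₀) (h0 : x ≠ pt 0) (h1 : x ≠ pt 1)
    (h2 : x ≠ pt 2) (h3 : x ≠ pt 3) : ∃ g ∈ stabO0123, g (pt 4) = x := by
  apply point_transitive stabO0123 stabO0123Gens stabO0123Gens_ok [1,1,0,0,2] 4 (by decide)
    (fun i => tb o₀ i && !Nat.beq i 0 && !Nat.beq i 1 && !Nat.beq i 2 && !Nat.beq i 3)
    (by decide +kernel) x
  rw [mem_fs_iff_tb.mp hx, idx_ne_of_ne h0, idx_ne_of_ne h1, idx_ne_of_ne h2, idx_ne_of_ne h3]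
  rfl

/-- `stabO01234` is transitive on the three remaining points of the standard octad. -/
theorem stabO01234_trans_in (x : GolayPt) (hx : x ∈ fs o₀) (h0 : x ≠ pt 0) (h1 : x ≠ pt 1)
    (h2 : x ≠ pt 2) (h3 : x ≠ pt 3) (h4 : x ≠ pt 4) : ∃ g ∈ stabO01234, g (pt 7) = x := by
  apply point_transitive stabO01234 stabO01234Gens stabO01234Gens_ok [2,2] 7 (by decide)
    (fun i => tb o₀ i && !Nat.beq i 0 && !Nat.beq i 1 && !Nat.beq i 2 && !Nat.beq i 3 &&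
      !Nat.beq i 4) (by decide +kernel) x
  rw [mem_fs_iff_tb.mp hx, idx_ne_of_ne h0, idx_ne_of_ne h1, idx_ne_of_ne h2, idx_ne_of_ne h3,
    idx_ne_of_ne h4]
  rfl

/-- `stabO01234` is transitive on the points outside the standard octad. -/
theorem stabO01234_trans_out (x : GolayPt) (hx : x ∉ fs o₀) : ∃ g ∈ stabO01234, g (pt 5) = x :=
  point_transitive stabO01234 stabO01234Gens stabO01234Gens_ok [1,2,1,3,0,0,3,0,0,3,0,0,2,1,3,0,0,2,1,0,3,0,0,3,0,0,3,2] 5 (by decide) (tb o₀c)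
    (by decide +kernel) x ((not_mem_fs_o₀_iff x).mp hx)

/-- Flags: an octad with an ordered sequence of points. -/
abbrev Flag1 : Type := Finset GolayPt × GolayPt
/-- See `Flag1`. -/
abbrev Flag2 : Type := Flag1 × GolayPt
/-- See `Flag1`. -/
abbrev Flag3 : Type := Flag2 × GolayPt
/-- See `Flag1`. -/
abbrev Flag4 : Type := Flag3 × GolayPt
/-- See `Flag1`. -/
abbrev Flag5 : Type := Flag4 × GolayPt
/-- See `Flag1`. -/
abbrev Flag6 : Type := Flag5 × GolayPt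

/-- The base flag: the standard octad with its points `0`, `1`, `2`. -/
def flag3₀ : Flag3 := (((fs o₀, pt 0), pt 1), pt 2)
/-- The base flag: the standard octad with its points `0`, `1`, `2`, `3`. -/
def flag4₀ : Flag4 := (flag3₀, pt 3)
/-- The base flag: the standard octad with its points `0`, `1`, `2`, `3`, `4`. -/
def flag5₀ : Flag5 := (flag4₀, pt 4)

theorem smul_mem_iff' (g : M24) (c : GolayPt) (s : Finset GolayPt) : g • c ∈ g • s ↔ c ∈ s :=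
  Finset.smul_mem_smul_finset_iff g

theorem smul_ne_iff' (g : M24) (a c : GolayPt) : g • a ≠ g • c ↔ a ≠ c :=
  not_congr (MulAction.injective g).eq_iff

theorem flag3 (o : Finset GolayPt) (ho : o ∈ octads) (a b c : GolayPt) (ha : a ∈ o) (hb : b ∈ o)
    (hc : c ∈ o) (hab : a ≠ b) (hac : a ≠ c) (hbc : b ≠ c) :
    ∃ k : M24, k • flag3₀ = ((((o, a), b), c) : Flag3) := by
  apply extend_transitive (G := M24) (((fs o₀, pt 0), pt 1) : Flag2) (pt 2)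
    (fun x c => c ∈ x.1.1 ∧ x.1.2 ≠ c ∧ x.2 ≠ c)
    (fun g x c => and_congr (smul_mem_iff' g c x.1.1)
      (and_congr (smul_ne_iff' g x.1.2 c) (smul_ne_iff' g x.2 c))) _ ((o, a), b)
    (flag_in_in o ho a b ha hb hab) c ⟨hc, hac, hbc⟩
  intro x hx
  obtain ⟨g, hg, hgx⟩ := stabO01_trans_in x hx.1 (Ne.symm hx.2.1) (Ne.symm hx.2.2)
  refine ⟨⟨g, stabO01_le hg⟩, ?_, hgx⟩
  exact Prod.ext (Prod.ext hg.1.1.2 hg.1.2) hg.2

theorem flag4 (o : Finset GolayPt) (ho : o ∈ octads) (a b c d : GolayPt) (ha : a ∈ o) (hb : b ∈ o)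
    (hc : c ∈ o) (hd : d ∈ o) (hab : a ≠ b) (hac : a ≠ c) (hbc : b ≠ c) (had : a ≠ d)
    (hbd : b ≠ d) (hcd : c ≠ d) :
    ∃ k : M24, k • flag4₀ = (((((o, a), b), c), d) : Flag4) := by
  apply extend_transitive (G := M24) flag3₀ (pt 3)
    (fun x c => c ∈ x.1.1.1 ∧ x.1.1.2 ≠ c ∧ x.1.2 ≠ c ∧ x.2 ≠ c)
    (fun g x c => and_congr (smul_mem_iff' g c x.1.1.1)
      (and_congr (smul_ne_iff' g x.1.1.2 c) (and_congr (smul_ne_iff' g x.1.2 c)
        (smul_ne_iff' g x.2 c)))) _ (((o, a), b), c)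
    (flag3 o ho a b c ha hb hc hab hac hbc) d ⟨hd, had, hbd, hcd⟩
  intro x hx
  obtain ⟨g, hg, hgx⟩ := stabO012_trans_in x hx.1 (Ne.symm hx.2.1) (Ne.symm hx.2.2.1)
    (Ne.symm hx.2.2.2)
  refine ⟨⟨g, stabO012_le hg⟩, ?_, hgx⟩
  exact Prod.ext (Prod.ext (Prod.ext hg.1.1.1.2 hg.1.1.2) hg.1.2) hg.2

theorem flag5 (o : Finset GolayPt) (ho : o ∈ octads) (a b c d e : GolayPt) (ha : a ∈ o)
    (hb : b ∈ o) (hc : c ∈ o) (hd : d ∈ o) (he : e ∈ o) (hab : a ≠ b) (hac : a ≠ c) (hbc : b ≠ c)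
    (had : a ≠ d) (hbd : b ≠ d) (hcd : c ≠ d) (hae : a ≠ e) (hbe : b ≠ e) (hce : c ≠ e)
    (hde : d ≠ e) :
    ∃ k : M24, k • flag5₀ = ((((((o, a), b), c), d), e) : Flag5) := by
  apply extend_transitive (G := M24) flag4₀ (pt 4)
    (fun x c => c ∈ x.1.1.1.1 ∧ x.1.1.1.2 ≠ c ∧ x.1.1.2 ≠ c ∧ x.1.2 ≠ c ∧ x.2 ≠ c)
    (fun g x c => and_congr (smul_mem_iff' g c x.1.1.1.1)
      (and_congr (smul_ne_iff' g x.1.1.1.2 c) (and_congr (smul_ne_iff' g x.1.1.2 c)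
        (and_congr (smul_ne_iff' g x.1.2 c) (smul_ne_iff' g x.2 c))))) _ ((((o, a), b), c), d)
    (flag4 o ho a b c d ha hb hc hd hab hac hbc had hbd hcd) e ⟨he, hae, hbe, hce, hde⟩
  intro x hx
  obtain ⟨g, hg, hgx⟩ := stabO0123_trans_in x hx.1 (Ne.symm hx.2.1) (Ne.symm hx.2.2.1)
    (Ne.symm hx.2.2.2.1) (Ne.symm hx.2.2.2.2)
  refine ⟨⟨g, stabO0123_le hg⟩, ?_, hgx⟩
  exact Prod.ext (Prod.ext (Prod.ext (Prod.ext hg.1.1.1.1.2 hg.1.1.1.2) hg.1.1.2) hg.1.2) hg.2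

theorem stabO01234_fix {g : Equiv.Perm GolayPt} (hg : g ∈ stabO01234) :
    (⟨g, stabO01234_le hg⟩ : M24) • flag5₀ = flag5₀ :=
  Prod.ext (Prod.ext (Prod.ext (Prod.ext (Prod.ext hg.1.1.1.1.1.2 hg.1.1.1.1.2) hg.1.1.1.2)
    hg.1.1.2) hg.1.2) hg.2

/-- Transitivity on (octad, five points of it, a sixth point of it). -/
theorem flag6_in (o : Finset GolayPt) (ho : o ∈ octads) (a b c d e f : GolayPt) (ha : a ∈ o)
    (hb : b ∈ o) (hc : c ∈ o) (hd : d ∈ o) (he : e ∈ o) (hf : f ∈ o) (hab : a ≠ b) (hac : a ≠ c)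
    (hbc : b ≠ c) (had : a ≠ d) (hbd : b ≠ d) (hcd : c ≠ d) (hae : a ≠ e) (hbe : b ≠ e)
    (hce : c ≠ e) (hde : d ≠ e) (haf : a ≠ f) (hbf : b ≠ f) (hcf : c ≠ f) (hdf : d ≠ f)
    (hef : e ≠ f) :
    ∃ k : M24, k • ((flag5₀, pt 7) : Flag6) = (((((((o, a), b), c), d), e), f) : Flag6) := by
  apply extend_transitive (G := M24) flag5₀ (pt 7)
    (fun x c => c ∈ x.1.1.1.1.1 ∧ x.1.1.1.1.2 ≠ c ∧ x.1.1.1.2 ≠ c ∧ x.1.1.2 ≠ c ∧ x.1.2 ≠ c ∧
      x.2 ≠ c)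
    (fun g x c => and_congr (smul_mem_iff' g c x.1.1.1.1.1)
      (and_congr (smul_ne_iff' g x.1.1.1.1.2 c) (and_congr (smul_ne_iff' g x.1.1.1.2 c)
        (and_congr (smul_ne_iff' g x.1.1.2 c) (and_congr (smul_ne_iff' g x.1.2 c)
          (smul_ne_iff' g x.2 c)))))) _ (((((o, a), b), c), d), e)
    (flag5 o ho a b c d e ha hb hc hd he hab hac hbc had hbd hcd hae hbe hce hde) f
    ⟨hf, haf, hbf, hcf, hdf, hef⟩
  intro x hx
  obtain ⟨g, hg, hgx⟩ := stabO01234_trans_in x hx.1 (Ne.symm hx.2.1) (Ne.symm hx.2.2.1)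
    (Ne.symm hx.2.2.2.1) (Ne.symm hx.2.2.2.2.1) (Ne.symm hx.2.2.2.2.2)
  exact ⟨⟨g, stabO01234_le hg⟩, stabO01234_fix hg, hgx⟩

/-- Transitivity on (octad, five points of it, a sixth point outside it). -/
theorem flag6_out (o : Finset GolayPt) (ho : o ∈ octads) (a b c d e f : GolayPt) (ha : a ∈ o)
    (hb : b ∈ o) (hc : c ∈ o) (hd : d ∈ o) (he : e ∈ o) (hf : f ∉ o) (hab : a ≠ b) (hac : a ≠ c)
    (hbc : b ≠ c) (had : a ≠ d) (hbd : b ≠ d) (hcd : c ≠ d) (hae : a ≠ e) (hbe : b ≠ e)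
    (hce : c ≠ e) (hde : d ≠ e) :
    ∃ k : M24, k • ((flag5₀, pt 5) : Flag6) = (((((((o, a), b), c), d), e), f) : Flag6) := by
  apply extend_transitive (G := M24) flag5₀ (pt 5) (fun x c => c ∉ x.1.1.1.1.1)
    (fun g x c => not_congr (smul_mem_iff' g c x.1.1.1.1.1)) _ (((((o, a), b), c), d), e)
    (flag5 o ho a b c d e ha hb hc hd he hab hac hbc had hbd hcd hae hbe hce hde) f hf
  intro x hx
  obtain ⟨g, hg, hgx⟩ := stabO01234_trans_out x hx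
  exact ⟨⟨g, stabO01234_le hg⟩, stabO01234_fix hg, hgx⟩

end Cfsg.Agent.Lib.Helper12.Golay
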