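import Mathlib
import Cfsg.Prelude.Def_Sporadic_a
import Cfsg.Agent.Lib.Helper12.Golay.Tuples

set_option autoImplicit false

namespace Cfsg.Agent.Lib.Helper12.Golay

open Cfsg
open scoped Pointwise

/-! ### The stabiliser of the standard dodecad and of points of it

The standard dodecad `d₀` is `{0,1,2,3,4,6,8,9,12,13,16,18}`; the base points are `0`, ..., `4`
(inside) and `5` (outside). -/

/-- The stabiliser of the standard dodecad in the group of the code. -/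
def stabD : Subgroup (Equiv.Perm GolayPt) :=
  M24 ⊓ MulAction.stabilizer (Equiv.Perm GolayPt) (fs d₀)

/-- The stabiliser of the standard dodecad and of its points `0`, ..., `0`. -/
def stabD0 : Subgroup (Equiv.Perm GolayPt) :=
  stabD ⊓ MulAction.stabilizer (Equiv.Perm GolayPt) (pt 0)

/-- The stabiliser of the standard dodecad and of its points `0`, ..., `1`. -/
def stabD01 : Subgroup (Equiv.Perm GolayPt) :=
  stabD0 ⊓ MulAction.stabilizer (Equiv.Perm GolayPt) (pt 1)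

/-- The stabiliser of the standard dodecad and of its points `0`, ..., `2`. -/
def stabD012 : Subgroup (Equiv.Perm GolayPt) :=
  stabD01 ⊓ MulAction.stabilizer (Equiv.Perm GolayPt) (pt 2)

/-- The stabiliser of the standard dodecad and of its points `0`, ..., `3`. -/
def stabD0123 : Subgroup (Equiv.Perm GolayPt) :=
  stabD012 ⊓ MulAction.stabilizer (Equiv.Perm GolayPt) (pt 3)

/-- Inverse tables of generators of `stabD`. -/
def stabDGens : List (List ℕ) := [[1,18,0,2,12,22,3,11,6,13,23,21,8,4,14,17,16,7,9,10,19,5,20,15],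
  [2,13,6,18,0,15,8,14,16,1,23,22,9,3,21,20,4,7,12,5,11,10,19,17]]

/-- Inverse tables of generators of `stabD0`. -/
def stabD0Gens : List (List ℕ) := [[0,3,12,1,2,22,9,10,18,8,7,5,4,16,15,19,6,21,13,14,17,11,20,23],
  [0,2,3,13,6,11,16,17,12,9,19,10,4,18,23,14,8,15,1,22,20,21,5,7]]

/-- Inverse tables of generators of `stabD01`. -/
def stabD01Gens : List (List ℕ) := [[0,1,2,16,8,7,12,19,18,9,15,21,3,4,11,10,6,5,13,17,23,22,14,20],
  [0,1,12,13,9,14,3,22,8,16,10,11,18,6,20,19,4,7,2,21,5,15,17,23]]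

/-- Inverse tables of generators of `stabD012`. -/
def stabD012Gens : List (List ℕ) := [[0,1,2,3,16,17,13,19,4,18,15,20,8,9,23,7,12,5,6,10,22,11,21,14],
  [0,1,2,8,6,22,16,20,18,3,14,19,4,13,10,23,12,21,9,11,17,7,15,5]]

/-- Inverse tables of generators of `stabD0123`. -/
def stabD0123Gens : List (List ℕ) := [[0,1,2,3,16,17,13,19,4,18,15,20,8,9,23,7,12,5,6,10,22,11,21,14],
  [0,1,2,3,18,23,16,20,6,8,21,15,13,4,17,22,9,14,12,11,10,7,19,5]]

theorem stabDGens_ok : ∀ T ∈ stabDGens, ValidT T ∧ permT T ∈ stabD := by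
  have h : ∀ T ∈ stabDGens, okK T = true ∧ actK T d₀ = d₀ := by decide +kernel
  intro T hT
  obtain ⟨h1, h2⟩ := h T hT
  have hv := okK_valid h1
  exact ⟨hv, ⟨permT_mem_M24' h1, permT_mem_stabilizer_fs hv (by decide) h2⟩⟩

theorem stabD0Gens_ok : ∀ T ∈ stabD0Gens, ValidT T ∧ permT T ∈ stabD0 := by
  have h : ∀ T ∈ stabD0Gens, okK T = true ∧ actK T d₀ = d₀ ∧ T.getD 0 0 = 0 := by decide +kernel
  intro T hT
  obtain ⟨h1, h2, h3⟩ := h T hT
  have hv := okK_valid h1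
  exact ⟨hv, ⟨⟨permT_mem_M24' h1, permT_mem_stabilizer_fs hv (by decide) h2⟩, permT_mem_stabilizer_pt hv (by decide) h3⟩⟩

theorem stabD01Gens_ok : ∀ T ∈ stabD01Gens, ValidT T ∧ permT T ∈ stabD01 := by
  have h : ∀ T ∈ stabD01Gens, okK T = true ∧ actK T d₀ = d₀ ∧ T.getD 0 0 = 0 ∧ T.getD 1 0 = 1 := by decide +kernel
  intro T hT
  obtain ⟨h1, h2, h3, h4⟩ := h T hT
  have hv := okK_valid h1
  exact ⟨hv, ⟨⟨⟨permT_mem_M24' h1, permT_mem_stabilizer_fs hv (by decide) h2⟩, permT_mem_stabilizer_pt hv (by decide) h3⟩, permT_mem_stabilizer_pt hv (by decide) h4⟩⟩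

theorem stabD012Gens_ok : ∀ T ∈ stabD012Gens, ValidT T ∧ permT T ∈ stabD012 := by
  have h : ∀ T ∈ stabD012Gens, okK T = true ∧ actK T d₀ = d₀ ∧ T.getD 0 0 = 0 ∧ T.getD 1 0 = 1 ∧ T.getD 2 0 = 2 := by decide +kernel
  intro T hT
  obtain ⟨h1, h2, h3, h4, h5⟩ := h T hT
  have hv := okK_valid h1
  exact ⟨hv, ⟨⟨⟨⟨permT_mem_M24' h1, permT_mem_stabilizer_fs hv (by decide) h2⟩, permT_mem_stabilizer_pt hv (by decide) h3⟩, permT_mem_stabilizer_pt hv (by decide) h4⟩, permT_mem_stabilizer_pt hv (by decide) h5⟩⟩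

theorem stabD0123Gens_ok : ∀ T ∈ stabD0123Gens, ValidT T ∧ permT T ∈ stabD0123 := by
  have h : ∀ T ∈ stabD0123Gens, okK T = true ∧ actK T d₀ = d₀ ∧ T.getD 0 0 = 0 ∧ T.getD 1 0 = 1 ∧ T.getD 2 0 = 2 ∧ T.getD 3 0 = 3 := by decide +kernel
  intro T hT
  obtain ⟨h1, h2, h3, h4, h5, h6⟩ := h T hT
  have hv := okK_valid h1
  exact ⟨hv, ⟨⟨⟨⟨⟨permT_mem_M24' h1, permT_mem_stabilizer_fs hv (by decide) h2⟩, permT_mem_stabilizer_pt hv (by decide) h3⟩, permT_mem_stabilizer_pt hv (by decide) h4⟩, permT_mem_stabilizer_pt hv (by decide) h5⟩, permT_mem_stabilizer_pt hv (by decide) h6⟩⟩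

theorem stabD_le : stabD ≤ M24 := inf_le_left
theorem stabD0_le : stabD0 ≤ M24 := inf_le_left.trans stabD_le
theorem stabD01_le : stabD01 ≤ M24 := inf_le_left.trans stabD0_le
theorem stabD012_le : stabD012 ≤ M24 := inf_le_left.trans stabD01_le
theorem stabD0123_le : stabD0123 ≤ M24 := inf_le_left.trans stabD012_le

/-- Bitmask of the complement of the standard dodecad. -/
def d₀c : ℕ := 16436384

theorem not_mem_fs_d₀_iff (x : GolayPt) : x ∉ fs d₀ ↔ tb d₀c (idx x) = true := by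
  rw [mem_fs_iff_tb]
  have : ∀ i : Fin 24, tb d₀ i = !tb d₀c i := by decide
  rw [this ⟨idx x, idx_lt x⟩]
  simp

/-- `stabD` is transitive on the remaining points of the standard dodecad. -/
theorem stabD_trans_in (x : GolayPt) (hx : x ∈ fs d₀) :
    ∃ g ∈ stabD, g (pt 0) = x := by
  apply point_transitive stabD stabDGens stabDGens_ok [1,1,1,0,0,0,2,1,1,1,0,2,0,0,2,0,0,2,2] 0 (by decide)
    (fun i => tb d₀ i) (by decide +kernel) x
  exact mem_fs_iff_tb.mp hx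

/-- `stabD` is transitive on the points outside the standard dodecad. -/
theorem stabD_trans_out (x : GolayPt) (hx : x ∉ fs d₀) : ∃ g ∈ stabD, g (pt 5) = x :=
  point_transitive stabD stabDGens stabDGens_ok [1,1,1,1,0,0,0,2,0,0,2,1,2,1,1,0,0,0,0,2] 5 (by decide) (tb d₀c)
    (by decide +kernel) x ((not_mem_fs_d₀_iff x).mp hx)

/-- `stabD0` is transitive on the remaining points of the standard dodecad. -/
theorem stabD0_trans_in (x : GolayPt) (hx : x ∈ fs d₀) (h0 : x ≠ pt 0) :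
    ∃ g ∈ stabD0, g (pt 1) = x := by
  apply point_transitive stabD0 stabD0Gens stabD0Gens_ok [1,2,1,1,0,0,0,0,2,1,1,1,0,0,2,0,0,2] 1 (by decide)
    (fun i => tb d₀ i && !Nat.beq i 0) (by decide +kernel) x
  rw [mem_fs_iff_tb.mp hx, idx_ne_of_ne h0]
  rfl

/-- `stabD0` is transitive on the points outside the standard dodecad. -/
theorem stabD0_trans_out (x : GolayPt) (hx : x ∉ fs d₀) : ∃ g ∈ stabD0, g (pt 5) = x :=
  point_transitive stabD0 stabD0Gens stabD0Gens_ok [1,1,1,1,0,2,2,0,0,0,0,0,2,2,1,1,0,0,2] 5 (by decide) (tb d₀c)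
    (by decide +kernel) x ((not_mem_fs_d₀_iff x).mp hx)

/-- `stabD01` is transitive on the remaining points of the standard dodecad. -/
theorem stabD01_trans_in (x : GolayPt) (hx : x ∈ fs d₀) (h0 : x ≠ pt 0) (h1 : x ≠ pt 1) :
    ∃ g ∈ stabD01, g (pt 2) = x := by
  apply point_transitive stabD01 stabD01Gens stabD01Gens_ok [2,1,1,1,2,0,0,2,2,0,0,0,0,2,1] 2 (by decide)
    (fun i => tb d₀ i && !Nat.beq i 0 && !Nat.beq i 1) (by decide +kernel) x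
  rw [mem_fs_iff_tb.mp hx, idx_ne_of_ne h0, idx_ne_of_ne h1]
  rfl

/-- `stabD01` is transitive on the points outside the standard dodecad. -/
theorem stabD01_trans_out (x : GolayPt) (hx : x ∉ fs d₀) : ∃ g ∈ stabD01, g (pt 5) = x :=
  point_transitive stabD01 stabD01Gens stabD01Gens_ok [1,1,1,0,2,1,0,0,0,2,1,1,0,0,0,0,2,1,0,2] 5 (by decide) (tb d₀c)
    (by decide +kernel) x ((not_mem_fs_d₀_iff x).mp hx)

/-- `stabD012` is transitive on the remaining points of the standard dodecad. -/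
theorem stabD012_trans_in (x : GolayPt) (hx : x ∈ fs d₀) (h0 : x ≠ pt 0) (h1 : x ≠ pt 1) (h2 : x ≠ pt 2) :
    ∃ g ∈ stabD012, g (pt 3) = x := by
  apply point_transitive stabD012 stabD012Gens stabD012Gens_ok [2,1,1,2,0,0,0,2,2,1,1] 3 (by decide)
    (fun i => tb d₀ i && !Nat.beq i 0 && !Nat.beq i 1 && !Nat.beq i 2) (by decide +kernel) x
  rw [mem_fs_iff_tb.mp hx, idx_ne_of_ne h0, idx_ne_of_ne h1, idx_ne_of_ne h2]
  rfl

/-- `stabD012` is transitive on the points outside the standard dodecad. -/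
theorem stabD012_trans_out (x : GolayPt) (hx : x ∉ fs d₀) : ∃ g ∈ stabD012, g (pt 5) = x :=
  point_transitive stabD012 stabD012Gens stabD012Gens_ok [1,2,1,1,0,2,0,0,2,0,0,0,2,1,2,0,0,2,2] 5 (by decide) (tb d₀c)
    (by decide +kernel) x ((not_mem_fs_d₀_iff x).mp hx)

/-- `stabD0123` is transitive on the remaining points of the standard dodecad. -/
theorem stabD0123_trans_in (x : GolayPt) (hx : x ∈ fs d₀) (h0 : x ≠ pt 0) (h1 : x ≠ pt 1) (h2 : x ≠ pt 2) (h3 : x ≠ pt 3) :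
    ∃ g ∈ stabD0123, g (pt 4) = x := by
  apply point_transitive stabD0123 stabD0123Gens stabD0123Gens_ok [1,1,1,0,2,0,0,2,0,0,2,1] 4 (by decide)
    (fun i => tb d₀ i && !Nat.beq i 0 && !Nat.beq i 1 && !Nat.beq i 2 && !Nat.beq i 3) (by decide +kernel) x
  rw [mem_fs_iff_tb.mp hx, idx_ne_of_ne h0, idx_ne_of_ne h1, idx_ne_of_ne h2, idx_ne_of_ne h3]
  rfl

/-- The base flag: the standard dodecad. -/
def dflag0₀ : Finset GolayPt := fs d₀
/-- The base flag: the standard dodecad with its points `0`, ..., `0`. -/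
def dflag1₀ : Flag1 := (dflag0₀, pt 0)
/-- The base flag: the standard dodecad with its points `0`, ..., `1`. -/
def dflag2₀ : Flag2 := (dflag1₀, pt 1)
/-- The base flag: the standard dodecad with its points `0`, ..., `2`. -/
def dflag3₀ : Flag3 := (dflag2₀, pt 2)
/-- The base flag: the standard dodecad with its points `0`, ..., `3`. -/
def dflag4₀ : Flag4 := (dflag3₀, pt 3)
/-- The base flag: the standard dodecad with its points `0`, ..., `4`. -/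
def dflag5₀ : Flag5 := (dflag4₀, pt 4)

theorem stabD_fix {g : Equiv.Perm GolayPt} (hg : g ∈ stabD) :
    (⟨g, stabD_le hg⟩ : M24) • dflag0₀ = dflag0₀ :=
  hg.2

theorem stabD0_fix {g : Equiv.Perm GolayPt} (hg : g ∈ stabD0) :
    (⟨g, stabD0_le hg⟩ : M24) • dflag1₀ = dflag1₀ :=
  Prod.ext hg.1.2 hg.2

theorem stabD01_fix {g : Equiv.Perm GolayPt} (hg : g ∈ stabD01) :
    (⟨g, stabD01_le hg⟩ : M24) • dflag2₀ = dflag2₀ :=
  Prod.ext (Prod.ext hg.1.1.2 hg.1.2) hg.2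

theorem stabD012_fix {g : Equiv.Perm GolayPt} (hg : g ∈ stabD012) :
    (⟨g, stabD012_le hg⟩ : M24) • dflag3₀ = dflag3₀ :=
  Prod.ext (Prod.ext (Prod.ext hg.1.1.1.2 hg.1.1.2) hg.1.2) hg.2

theorem stabD0123_fix {g : Equiv.Perm GolayPt} (hg : g ∈ stabD0123) :
    (⟨g, stabD0123_le hg⟩ : M24) • dflag4₀ = dflag4₀ :=
  Prod.ext (Prod.ext (Prod.ext (Prod.ext hg.1.1.1.1.2 hg.1.1.1.2) hg.1.1.2) hg.1.2) hg.2

theorem dflag0 (d : Finset GolayPt) (hd : d ∈ dodecads) : ∃ k : M24, k • dflag0₀ = d := by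
  obtain ⟨g, hg, hgd⟩ := dodecads_transitive d hd
  exact ⟨⟨g, hg⟩, hgd⟩

theorem dflag1 (d : Finset GolayPt) (hd : d ∈ dodecads) (p1 : GolayPt) (m1 : p1 ∈ d) :
    ∃ k : M24, k • dflag1₀ = ((d, p1) : Flag1) := by
  apply extend_transitive (G := M24) dflag0₀ (pt 0)
    (fun x c => c ∈ x)
    (fun g x c => smul_mem_iff' g c x) _ d
    (dflag0 d hd) p1 m1
  intro x hx
  obtain ⟨g, hg, hgx⟩ := stabD_trans_in x hx
  exact ⟨⟨g, stabD_le hg⟩, stabD_fix hg, hgx⟩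

theorem dflag2 (d : Finset GolayPt) (hd : d ∈ dodecads) (p1 p2 : GolayPt) (m1 : p1 ∈ d) (m2 : p2 ∈ d) (n12 : p1 ≠ p2) :
    ∃ k : M24, k • dflag2₀ = (((d, p1), p2) : Flag2) := by
  apply extend_transitive (G := M24) dflag1₀ (pt 1)
    (fun x c => c ∈ x.1 ∧ x.2 ≠ c)
    (fun g x c => and_congr (smul_mem_iff' g c x.1) (smul_ne_iff' g x.2 c)) _ ((d, p1) : Flag1)
    (dflag1 d hd p1 m1) p2 ⟨m2, n12⟩
  intro x hx
  obtain ⟨g, hg, hgx⟩ := stabD0_trans_in x hx.1 (Ne.symm hx.2)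
  exact ⟨⟨g, stabD0_le hg⟩, stabD0_fix hg, hgx⟩

theorem dflag3 (d : Finset GolayPt) (hd : d ∈ dodecads) (p1 p2 p3 : GolayPt) (m1 : p1 ∈ d) (m2 : p2 ∈ d) (m3 : p3 ∈ d) (n12 : p1 ≠ p2) (n13 : p1 ≠ p3) (n23 : p2 ≠ p3) :
    ∃ k : M24, k • dflag3₀ = ((((d, p1), p2), p3) : Flag3) := by
  apply extend_transitive (G := M24) dflag2₀ (pt 2)
    (fun x c => c ∈ x.1.1 ∧ x.1.2 ≠ c ∧ x.2 ≠ c)
    (fun g x c => and_congr (smul_mem_iff' g c x.1.1) (and_congr (smul_ne_iff' g x.1.2 c) (smul_ne_iff' g x.2 c))) _ (((d, p1), p2) : Flag2)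
    (dflag2 d hd p1 p2 m1 m2 n12) p3 ⟨m3, n13, n23⟩
  intro x hx
  obtain ⟨g, hg, hgx⟩ := stabD01_trans_in x hx.1 (Ne.symm hx.2.1) (Ne.symm hx.2.2)
  exact ⟨⟨g, stabD01_le hg⟩, stabD01_fix hg, hgx⟩

theorem dflag4 (d : Finset GolayPt) (hd : d ∈ dodecads) (p1 p2 p3 p4 : GolayPt) (m1 : p1 ∈ d) (m2 : p2 ∈ d) (m3 : p3 ∈ d) (m4 : p4 ∈ d) (n12 : p1 ≠ p2) (n13 : p1 ≠ p3) (n23 : p2 ≠ p3) (n14 : p1 ≠ p4) (n24 : p2 ≠ p4) (n34 : p3 ≠ p4) :
    ∃ k : M24, k • dflag4₀ = (((((d, p1), p2), p3), p4) : Flag4) := by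
  apply extend_transitive (G := M24) dflag3₀ (pt 3)
    (fun x c => c ∈ x.1.1.1 ∧ x.1.1.2 ≠ c ∧ x.1.2 ≠ c ∧ x.2 ≠ c)
    (fun g x c => and_congr (smul_mem_iff' g c x.1.1.1) (and_congr (smul_ne_iff' g x.1.1.2 c) (and_congr (smul_ne_iff' g x.1.2 c) (smul_ne_iff' g x.2 c)))) _ ((((d, p1), p2), p3) : Flag3)
    (dflag3 d hd p1 p2 p3 m1 m2 m3 n12 n13 n23) p4 ⟨m4, n14, n24, n34⟩
  intro x hx
  obtain ⟨g, hg, hgx⟩ := stabD012_trans_in x hx.1 (Ne.symm hx.2.1) (Ne.symm hx.2.2.1) (Ne.symm hx.2.2.2)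
  exact ⟨⟨g, stabD012_le hg⟩, stabD012_fix hg, hgx⟩

theorem dflag5 (d : Finset GolayPt) (hd : d ∈ dodecads) (p1 p2 p3 p4 p5 : GolayPt) (m1 : p1 ∈ d) (m2 : p2 ∈ d) (m3 : p3 ∈ d) (m4 : p4 ∈ d) (m5 : p5 ∈ d) (n12 : p1 ≠ p2) (n13 : p1 ≠ p3) (n23 : p2 ≠ p3) (n14 : p1 ≠ p4) (n24 : p2 ≠ p4) (n34 : p3 ≠ p4) (n15 : p1 ≠ p5) (n25 : p2 ≠ p5) (n35 : p3 ≠ p5) (n45 : p4 ≠ p5) :
    ∃ k : M24, k • dflag5₀ = ((((((d, p1), p2), p3), p4), p5) : Flag5) := by
  apply extend_transitive (G := M24) dflag4₀ (pt 4)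
    (fun x c => c ∈ x.1.1.1.1 ∧ x.1.1.1.2 ≠ c ∧ x.1.1.2 ≠ c ∧ x.1.2 ≠ c ∧ x.2 ≠ c)
    (fun g x c => and_congr (smul_mem_iff' g c x.1.1.1.1) (and_congr (smul_ne_iff' g x.1.1.1.2 c) (and_congr (smul_ne_iff' g x.1.1.2 c) (and_congr (smul_ne_iff' g x.1.2 c) (smul_ne_iff' g x.2 c))))) _ (((((d, p1), p2), p3), p4) : Flag4)
    (dflag4 d hd p1 p2 p3 p4 m1 m2 m3 m4 n12 n13 n23 n14 n24 n34) p5 ⟨m5, n15, n25, n35, n45⟩
  intro x hx
  obtain ⟨g, hg, hgx⟩ := stabD0123_trans_in x hx.1 (Ne.symm hx.2.1) (Ne.symm hx.2.2.1) (Ne.symm hx.2.2.2.1) (Ne.symm hx.2.2.2.2)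
  exact ⟨⟨g, stabD0123_le hg⟩, stabD0123_fix hg, hgx⟩

theorem dflag0_out (d : Finset GolayPt) (hd : d ∈ dodecads) (x : GolayPt) (hx : x ∉ d) :
    ∃ k : M24, k • ((dflag0₀, pt 5) : Flag1) = ((d, x) : Flag1) := by
  apply extend_transitive (G := M24) dflag0₀ (pt 5) (fun x c => c ∉ x)
    (fun g x c => not_congr (smul_mem_iff' g c x)) _ d
    (dflag0 d hd) x hx
  intro x hx
  obtain ⟨g, hg, hgx⟩ := stabD_trans_out x hx
  exact ⟨⟨g, stabD_le hg⟩, stabD_fix hg, hgx⟩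

theorem dflag1_out (d : Finset GolayPt) (hd : d ∈ dodecads) (p1 : GolayPt) (m1 : p1 ∈ d) (x : GolayPt) (hx : x ∉ d) :
    ∃ k : M24, k • ((dflag1₀, pt 5) : Flag2) = (((d, p1), x) : Flag2) := by
  apply extend_transitive (G := M24) dflag1₀ (pt 5) (fun x c => c ∉ x.1)
    (fun g x c => not_congr (smul_mem_iff' g c x.1)) _ ((d, p1) : Flag1)
    (dflag1 d hd p1 m1) x hx
  intro x hx
  obtain ⟨g, hg, hgx⟩ := stabD0_trans_out x hx
  exact ⟨⟨g, stabD0_le hg⟩, stabD0_fix hg, hgx⟩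

theorem dflag2_out (d : Finset GolayPt) (hd : d ∈ dodecads) (p1 p2 : GolayPt) (m1 : p1 ∈ d) (m2 : p2 ∈ d) (n12 : p1 ≠ p2) (x : GolayPt) (hx : x ∉ d) :
    ∃ k : M24, k • ((dflag2₀, pt 5) : Flag3) = ((((d, p1), p2), x) : Flag3) := by
  apply extend_transitive (G := M24) dflag2₀ (pt 5) (fun x c => c ∉ x.1.1)
    (fun g x c => not_congr (smul_mem_iff' g c x.1.1)) _ (((d, p1), p2) : Flag2)
    (dflag2 d hd p1 p2 m1 m2 n12) x hx
  intro x hx
  obtain ⟨g, hg, hgx⟩ := stabD01_trans_out x hx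
  exact ⟨⟨g, stabD01_le hg⟩, stabD01_fix hg, hgx⟩

theorem dflag3_out (d : Finset GolayPt) (hd : d ∈ dodecads) (p1 p2 p3 : GolayPt) (m1 : p1 ∈ d) (m2 : p2 ∈ d) (m3 : p3 ∈ d) (n12 : p1 ≠ p2) (n13 : p1 ≠ p3) (n23 : p2 ≠ p3) (x : GolayPt) (hx : x ∉ d) :
    ∃ k : M24, k • ((dflag3₀, pt 5) : Flag4) = (((((d, p1), p2), p3), x) : Flag4) := by
  apply extend_transitive (G := M24) dflag3₀ (pt 5) (fun x c => c ∉ x.1.1.1)
    (fun g x c => not_congr (smul_mem_iff' g c x.1.1.1)) _ ((((d, p1), p2), p3) : Flag3)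
    (dflag3 d hd p1 p2 p3 m1 m2 m3 n12 n13 n23) x hx
  intro x hx
  obtain ⟨g, hg, hgx⟩ := stabD012_trans_out x hx
  exact ⟨⟨g, stabD012_le hg⟩, stabD012_fix hg, hgx⟩

end Cfsg.Agent.Lib.Helper12.Golay
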