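import Mathlib
import Cfsg.Prelude.Def_Sporadic_a
import Cfsg.Agent.Lib.Helper12.Golay.DFlags

set_option autoImplicit false

namespace Cfsg.Agent.Lib.Helper12.Golay

open Cfsg
open scoped Pointwise

/-! ### Two points outside a dodecad -/

/-- The stabiliser of the standard dodecad, of its point `0` and of the outside point `5`. -/
def stabD0_5 : Subgroup (Equiv.Perm GolayPt) :=
  stabD0 ⊓ MulAction.stabilizer (Equiv.Perm GolayPt) (pt 5)

/-- Inverse tables of generators of `stabD0_5`. -/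
def stabD0_5Gens : List (List ℕ) := [[0,3,6,13,18,5,4,22,9,2,15,17,16,1,20,21,12,11,8,7,10,23,19,14],
  [0,8,12,13,9,5,4,23,18,1,15,21,16,2,7,17,6,11,3,20,14,22,19,10]]

theorem stabD0_5Gens_ok : ∀ T ∈ stabD0_5Gens, ValidT T ∧ permT T ∈ stabD0_5 := by
  have h : ∀ T ∈ stabD0_5Gens, okK T = true ∧ actK T d₀ = d₀ ∧ T.getD 0 0 = 0 ∧ T.getD 5 0 = 5 := by
    decide +kernel
  intro T hT
  obtain ⟨h1, h2, h3, h4⟩ := h T hT
  have hv := okK_valid h1
  exact ⟨hv, ⟨⟨permT_mem_M24' h1, permT_mem_stabilizer_fs hv (by decide) h2⟩,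
    permT_mem_stabilizer_pt hv (by decide) h3⟩, permT_mem_stabilizer_pt hv (by decide) h4⟩

theorem stabD0_5_le : stabD0_5 ≤ M24 := inf_le_left.trans stabD0_le

/-- `stabD0_5` is transitive on the points outside the standard dodecad other than `5`. -/
theorem stabD0_5_trans_out (x : GolayPt) (hx : x ∉ fs d₀) (h5 : x ≠ pt 5) :
    ∃ g ∈ stabD0_5, g (pt 7) = x := by
  apply point_transitive stabD0_5 stabD0_5Gens stabD0_5Gens_ok [1,1,2,1,1,0,0,2,1,0,0,0,0,0,2,1,0,2] 7 (by decide)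
    (fun i => tb d₀c i && !Nat.beq i 5) (by decide +kernel) x
  rw [(not_mem_fs_d₀_iff x).mp hx, idx_ne_of_ne h5]
  rfl

theorem stabD0_5_fix {g : Equiv.Perm GolayPt} (hg : g ∈ stabD0_5) :
    (⟨g, stabD0_5_le hg⟩ : M24) • ((dflag1₀, pt 5) : Flag2) = ((dflag1₀, pt 5) : Flag2) :=
  Prod.ext (Prod.ext hg.1.1.2 hg.1.2) hg.2

/-- Transitivity on (dodecad, point of it, two distinct points outside it). -/
theorem dflag1_out_out (d : Finset GolayPt) (hd : d ∈ dodecads) (p1 : GolayPt) (m1 : p1 ∈ d)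
    (x y : GolayPt) (hx : x ∉ d) (hy : y ∉ d) (hxy : x ≠ y) :
    ∃ k : M24, k • ((((dflag1₀, pt 5) : Flag2), pt 7) : Flag3) = ((((d, p1), x), y) : Flag3) := by
  apply extend_transitive (G := M24) ((dflag1₀, pt 5) : Flag2) (pt 7)
    (fun x c => c ∉ x.1.1 ∧ x.2 ≠ c)
    (fun g x c => and_congr (not_congr (smul_mem_iff' g c x.1.1)) (smul_ne_iff' g x.2 c)) _
    (((d, p1), x) : Flag2) (dflag1_out d hd p1 m1 x hx) y ⟨hy, hxy⟩
  intro c hc
  obtain ⟨g, hg, hgx⟩ := stabD0_5_trans_out c hc.1 (Ne.symm hc.2)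
  exact ⟨⟨g, stabD0_5_le hg⟩, stabD0_5_fix hg, hgx⟩

end Cfsg.Agent.Lib.Helper12.Golay
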