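import Mathlib
import Cfsg.Prelude.Def_Sporadic_a
import Cfsg.Agent.Lib.Helper12.Golay.DFlags
import Cfsg.Agent.Lib.Helper12.Maximal
import Cfsg.Agent.Lib.helper3.GolayCard

set_option autoImplicit false

namespace Cfsg.Agent.Lib.Helper12.Golay

open Cfsg
open scoped Pointwise

/-! ### Orders of the stabilisers of points of a dodecad in the dodecad stabiliser -/

/-- Orbit-stabiliser for a subgroup: the order of the stabiliser of `x` in `K`, times the size of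
the orbit of `x` under `K`, is the order of `K`. -/
theorem card_inf_stabilizer_mul {G X : Type*} [Group G] [MulAction G X] (K : Subgroup G) (x : X) :
    Nat.card ↥(K ⊓ MulAction.stabilizer G x) * (MulAction.orbit K x).ncard = Nat.card K := by
  rw [Cfsg.Agent.Lib.Helper12.ncard_orbit_subgroup, Subgroup.relIndex]
  have h1 : (K ⊓ MulAction.stabilizer G x).subgroupOf K = (MulAction.stabilizer G x).subgroupOf K := by
    rw [inf_comm, Subgroup.inf_subgroupOf_right]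
  have e := Subgroup.subgroupOfEquivOfLe (inf_le_left : K ⊓ MulAction.stabilizer G x ≤ K)
  rw [← Nat.card_congr e.toEquiv, h1, Subgroup.card_mul_index]

theorem orbit_eq_dodecads (d : Finset GolayPt) (hd : d ∈ dodecads) :
    MulAction.orbit M24 d = dodecads := by
  ext s
  constructor
  · rintro ⟨g, rfl⟩
    exact smul_mem_dodecads g.2 hd
  · intro hs
    obtain ⟨g, hg, rfl⟩ := dodecads_transitive s hs
    obtain ⟨k, hk, rfl⟩ := dodecads_transitive d hd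
    refine ⟨⟨g, hg⟩ * ⟨k, hk⟩⁻¹, ?_⟩
    show (⟨g, hg⟩ * ⟨k, hk⟩⁻¹ : M24) • ((⟨k, hk⟩ : M24) • fs d₀) = (⟨g, hg⟩ : M24) • fs d₀
    rw [mul_smul, inv_smul_smul]

theorem card_dstab0 (d : Finset GolayPt) (hd : d ∈ dodecads) :
    Nat.card ↥(MulAction.stabilizer M24 d) = 95040 := by
  have h2 := Subgroup.card_mul_index (MulAction.stabilizer M24 d)
  rw [← Cfsg.Agent.Lib.Helper12.ncard_orbit_top, orbit_eq_dodecads d hd,
    Cfsg.Agent.Lib.helper3.dodecads_ncard, Cfsg.Agent.Lib.helper3.card_M24] at h2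
  omega

theorem dorbit0 (d : Finset GolayPt) (hd : d ∈ dodecads) (p1 : GolayPt) (m1 : p1 ∈ d) (y : GolayPt) :
    y ∈ MulAction.orbit ↥(MulAction.stabilizer M24 d) p1 ↔ y ∈ d ∧ y ∉ ([] : List GolayPt) := by
  constructor
  · rintro ⟨g, rfl⟩
    have hgd : (g : M24) • d = d := g.2
    refine ⟨?_, ?_⟩
    · have := (smul_mem_iff' (g : M24) p1 d).mpr m1
      rw [hgd] at this
      exact this
    · exact List.not_mem_nil
  · rintro ⟨hy, hny⟩
    obtain ⟨k1, hk1⟩ := dflag1 d hd p1 m1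
    obtain ⟨k2, hk2⟩ := dflag1 d hd y hy
    have hκ : (k2 * k1⁻¹) • ((d, p1) : Flag1) = ((d, y) : Flag1) := by
      rw [mul_smul, ← hk1, inv_smul_smul, hk2]
    simp only [Prod.smul_mk, Prod.mk.injEq] at hκ
    obtain ⟨hd', hy'⟩ := hκ
    exact ⟨⟨k2 * k1⁻¹, hd'⟩, hy'⟩

theorem card_dstab1 (d : Finset GolayPt) (hd : d ∈ dodecads) (p1 : GolayPt) (m1 : p1 ∈ d) :
    Nat.card ↥(MulAction.stabilizer M24 d ⊓ MulAction.stabilizer M24 p1) = 7920 := by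
  have h := card_inf_stabilizer_mul (MulAction.stabilizer M24 d) p1
  have horb : MulAction.orbit ↥(MulAction.stabilizer M24 d) p1 =
      ↑(d \ ([] : List GolayPt).toFinset) := by
    ext y
    rw [dorbit0 d hd p1 m1, Finset.mem_coe, Finset.mem_sdiff, List.mem_toFinset]
  have hc : (d \ ([] : List GolayPt).toFinset).card = 12 := by
    rw [Finset.card_sdiff_of_subset (by simp),
      List.toFinset_card_of_nodup (by simp), hd.2]
    rfl
  rw [horb, Set.ncard_coe_finset, hc, card_dstab0 d hd] at h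
  omega

theorem dorbit1 (d : Finset GolayPt) (hd : d ∈ dodecads) (p1 p2 : GolayPt) (m1 : p1 ∈ d) (m2 : p2 ∈ d) (n12 : p1 ≠ p2) (y : GolayPt) :
    y ∈ MulAction.orbit ↥(MulAction.stabilizer M24 d ⊓ MulAction.stabilizer M24 p1) p2 ↔ y ∈ d ∧ y ∉ ([p1] : List GolayPt) := by
  constructor
  · rintro ⟨g, rfl⟩
    have hgd : (g : M24) • d = d := g.2.1
    have hg1 : (g : M24) • p1 = p1 := g.2.2
    refine ⟨?_, ?_⟩
    · have := (smul_mem_iff' (g : M24) p2 d).mpr m2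
      rw [hgd] at this
      exact this
    · intro hmem
      simp only [List.mem_cons, List.not_mem_nil, or_false] at hmem
      exact n12 (MulAction.injective (g : M24) (hmem.trans hg1.symm)).symm
  · rintro ⟨hy, hny⟩
    have e1 : p1 ≠ y := fun h => hny (by rw [← h]; simp)
    obtain ⟨k1, hk1⟩ := dflag2 d hd p1 p2 m1 m2 n12
    obtain ⟨k2, hk2⟩ := dflag2 d hd p1 y m1 hy e1
    have hκ : (k2 * k1⁻¹) • (((d, p1), p2) : Flag2) = (((d, p1), y) : Flag2) := by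
      rw [mul_smul, ← hk1, inv_smul_smul, hk2]
    simp only [Prod.smul_mk, Prod.mk.injEq] at hκ
    obtain ⟨⟨hd', h1'⟩, hy'⟩ := hκ
    exact ⟨⟨k2 * k1⁻¹, ⟨hd', h1'⟩⟩, hy'⟩

theorem card_dstab2 (d : Finset GolayPt) (hd : d ∈ dodecads) (p1 p2 : GolayPt) (m1 : p1 ∈ d) (m2 : p2 ∈ d) (n12 : p1 ≠ p2) :
    Nat.card ↥(MulAction.stabilizer M24 d ⊓ MulAction.stabilizer M24 p1 ⊓ MulAction.stabilizer M24 p2) = 720 := by
  have h := card_inf_stabilizer_mul (MulAction.stabilizer M24 d ⊓ MulAction.stabilizer M24 p1) p2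
  have horb : MulAction.orbit ↥(MulAction.stabilizer M24 d ⊓ MulAction.stabilizer M24 p1) p2 =
      ↑(d \ ([p1] : List GolayPt).toFinset) := by
    ext y
    rw [dorbit1 d hd p1 p2 m1 m2 n12, Finset.mem_coe, Finset.mem_sdiff, List.mem_toFinset]
  have hc : (d \ ([p1] : List GolayPt).toFinset).card = 11 := by
    rw [Finset.card_sdiff_of_subset (by
      intro z hz
      simp only [List.mem_toFinset, List.mem_cons, List.not_mem_nil, or_false] at hz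
      rcases hz with rfl
      · exact m1),
      List.toFinset_card_of_nodup (by simp), hd.2]
    rfl
  rw [horb, Set.ncard_coe_finset, hc, card_dstab1 d hd p1 m1] at h
  omega

theorem dorbit2 (d : Finset GolayPt) (hd : d ∈ dodecads) (p1 p2 p3 : GolayPt) (m1 : p1 ∈ d) (m2 : p2 ∈ d) (m3 : p3 ∈ d) (n12 : p1 ≠ p2) (n13 : p1 ≠ p3) (n23 : p2 ≠ p3) (y : GolayPt) :
    y ∈ MulAction.orbit ↥(MulAction.stabilizer M24 d ⊓ MulAction.stabilizer M24 p1 ⊓ MulAction.stabilizer M24 p2) p3 ↔ y ∈ d ∧ y ∉ ([p1, p2] : List GolayPt) := by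
  constructor
  · rintro ⟨g, rfl⟩
    have hgd : (g : M24) • d = d := g.2.1.1
    have hg1 : (g : M24) • p1 = p1 := g.2.1.2
    have hg2 : (g : M24) • p2 = p2 := g.2.2
    refine ⟨?_, ?_⟩
    · have := (smul_mem_iff' (g : M24) p3 d).mpr m3
      rw [hgd] at this
      exact this
    · intro hmem
      simp only [List.mem_cons, List.not_mem_nil, or_false] at hmem
      rcases hmem with h | h
      · exact n13 (MulAction.injective (g : M24) (h.trans hg1.symm)).symm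
      · exact n23 (MulAction.injective (g : M24) (h.trans hg2.symm)).symm
  · rintro ⟨hy, hny⟩
    have e1 : p1 ≠ y := fun h => hny (by rw [← h]; simp)
    have e2 : p2 ≠ y := fun h => hny (by rw [← h]; simp)
    obtain ⟨k1, hk1⟩ := dflag3 d hd p1 p2 p3 m1 m2 m3 n12 n13 n23
    obtain ⟨k2, hk2⟩ := dflag3 d hd p1 p2 y m1 m2 hy n12 e1 e2
    have hκ : (k2 * k1⁻¹) • ((((d, p1), p2), p3) : Flag3) = ((((d, p1), p2), y) : Flag3) := by
      rw [mul_smul, ← hk1, inv_smul_smul, hk2]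
    simp only [Prod.smul_mk, Prod.mk.injEq] at hκ
    obtain ⟨⟨⟨hd', h1'⟩, h2'⟩, hy'⟩ := hκ
    exact ⟨⟨k2 * k1⁻¹, ⟨⟨hd', h1'⟩, h2'⟩⟩, hy'⟩

theorem card_dstab3 (d : Finset GolayPt) (hd : d ∈ dodecads) (p1 p2 p3 : GolayPt) (m1 : p1 ∈ d) (m2 : p2 ∈ d) (m3 : p3 ∈ d) (n12 : p1 ≠ p2) (n13 : p1 ≠ p3) (n23 : p2 ≠ p3) :
    Nat.card ↥(MulAction.stabilizer M24 d ⊓ MulAction.stabilizer M24 p1 ⊓ MulAction.stabilizer M24 p2 ⊓ MulAction.stabilizer M24 p3) = 72 := by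
  have h := card_inf_stabilizer_mul (MulAction.stabilizer M24 d ⊓ MulAction.stabilizer M24 p1 ⊓ MulAction.stabilizer M24 p2) p3
  have horb : MulAction.orbit ↥(MulAction.stabilizer M24 d ⊓ MulAction.stabilizer M24 p1 ⊓ MulAction.stabilizer M24 p2) p3 =
      ↑(d \ ([p1, p2] : List GolayPt).toFinset) := by
    ext y
    rw [dorbit2 d hd p1 p2 p3 m1 m2 m3 n12 n13 n23, Finset.mem_coe, Finset.mem_sdiff, List.mem_toFinset]
  have hc : (d \ ([p1, p2] : List GolayPt).toFinset).card = 10 := by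
    rw [Finset.card_sdiff_of_subset (by
      intro z hz
      simp only [List.mem_toFinset, List.mem_cons, List.not_mem_nil, or_false] at hz
      rcases hz with rfl | rfl
      · exact m1
      · exact m2),
      List.toFinset_card_of_nodup (by simp [n12]), hd.2]
    rfl
  rw [horb, Set.ncard_coe_finset, hc, card_dstab2 d hd p1 p2 m1 m2 n12] at h
  omega

theorem dorbit3 (d : Finset GolayPt) (hd : d ∈ dodecads) (p1 p2 p3 p4 : GolayPt) (m1 : p1 ∈ d) (m2 : p2 ∈ d) (m3 : p3 ∈ d) (m4 : p4 ∈ d) (n12 : p1 ≠ p2) (n13 : p1 ≠ p3) (n23 : p2 ≠ p3) (n14 : p1 ≠ p4) (n24 : p2 ≠ p4) (n34 : p3 ≠ p4) (y : GolayPt) :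
    y ∈ MulAction.orbit ↥(MulAction.stabilizer M24 d ⊓ MulAction.stabilizer M24 p1 ⊓ MulAction.stabilizer M24 p2 ⊓ MulAction.stabilizer M24 p3) p4 ↔ y ∈ d ∧ y ∉ ([p1, p2, p3] : List GolayPt) := by
  constructor
  · rintro ⟨g, rfl⟩
    have hgd : (g : M24) • d = d := g.2.1.1.1
    have hg1 : (g : M24) • p1 = p1 := g.2.1.1.2
    have hg2 : (g : M24) • p2 = p2 := g.2.1.2
    have hg3 : (g : M24) • p3 = p3 := g.2.2
    refine ⟨?_, ?_⟩
    · have := (smul_mem_iff' (g : M24) p4 d).mpr m4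
      rw [hgd] at this
      exact this
    · intro hmem
      simp only [List.mem_cons, List.not_mem_nil, or_false] at hmem
      rcases hmem with h | h | h
      · exact n14 (MulAction.injective (g : M24) (h.trans hg1.symm)).symm
      · exact n24 (MulAction.injective (g : M24) (h.trans hg2.symm)).symm
      · exact n34 (MulAction.injective (g : M24) (h.trans hg3.symm)).symm
  · rintro ⟨hy, hny⟩
    have e1 : p1 ≠ y := fun h => hny (by rw [← h]; simp)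
    have e2 : p2 ≠ y := fun h => hny (by rw [← h]; simp)
    have e3 : p3 ≠ y := fun h => hny (by rw [← h]; simp)
    obtain ⟨k1, hk1⟩ := dflag4 d hd p1 p2 p3 p4 m1 m2 m3 m4 n12 n13 n23 n14 n24 n34
    obtain ⟨k2, hk2⟩ := dflag4 d hd p1 p2 p3 y m1 m2 m3 hy n12 n13 n23 e1 e2 e3
    have hκ : (k2 * k1⁻¹) • (((((d, p1), p2), p3), p4) : Flag4) = (((((d, p1), p2), p3), y) : Flag4) := by
      rw [mul_smul, ← hk1, inv_smul_smul, hk2]
    simp only [Prod.smul_mk, Prod.mk.injEq] at hκ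
    obtain ⟨⟨⟨⟨hd', h1'⟩, h2'⟩, h3'⟩, hy'⟩ := hκ
    exact ⟨⟨k2 * k1⁻¹, ⟨⟨⟨hd', h1'⟩, h2'⟩, h3'⟩⟩, hy'⟩

theorem card_dstab4 (d : Finset GolayPt) (hd : d ∈ dodecads) (p1 p2 p3 p4 : GolayPt) (m1 : p1 ∈ d) (m2 : p2 ∈ d) (m3 : p3 ∈ d) (m4 : p4 ∈ d) (n12 : p1 ≠ p2) (n13 : p1 ≠ p3) (n23 : p2 ≠ p3) (n14 : p1 ≠ p4) (n24 : p2 ≠ p4) (n34 : p3 ≠ p4) :
    Nat.card ↥(MulAction.stabilizer M24 d ⊓ MulAction.stabilizer M24 p1 ⊓ MulAction.stabilizer M24 p2 ⊓ MulAction.stabilizer M24 p3 ⊓ MulAction.stabilizer M24 p4) = 8 := by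
  have h := card_inf_stabilizer_mul (MulAction.stabilizer M24 d ⊓ MulAction.stabilizer M24 p1 ⊓ MulAction.stabilizer M24 p2 ⊓ MulAction.stabilizer M24 p3) p4
  have horb : MulAction.orbit ↥(MulAction.stabilizer M24 d ⊓ MulAction.stabilizer M24 p1 ⊓ MulAction.stabilizer M24 p2 ⊓ MulAction.stabilizer M24 p3) p4 =
      ↑(d \ ([p1, p2, p3] : List GolayPt).toFinset) := by
    ext y
    rw [dorbit3 d hd p1 p2 p3 p4 m1 m2 m3 m4 n12 n13 n23 n14 n24 n34, Finset.mem_coe, Finset.mem_sdiff, List.mem_toFinset]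
  have hc : (d \ ([p1, p2, p3] : List GolayPt).toFinset).card = 9 := by
    rw [Finset.card_sdiff_of_subset (by
      intro z hz
      simp only [List.mem_toFinset, List.mem_cons, List.not_mem_nil, or_false] at hz
      rcases hz with rfl | rfl | rfl
      · exact m1
      · exact m2
      · exact m3),
      List.toFinset_card_of_nodup (by simp [n12, n13, n23]), hd.2]
    rfl
  rw [horb, Set.ncard_coe_finset, hc, card_dstab3 d hd p1 p2 p3 m1 m2 m3 n12 n13 n23] at h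
  omega

theorem dorbit4 (d : Finset GolayPt) (hd : d ∈ dodecads) (p1 p2 p3 p4 p5 : GolayPt) (m1 : p1 ∈ d) (m2 : p2 ∈ d) (m3 : p3 ∈ d) (m4 : p4 ∈ d) (m5 : p5 ∈ d) (n12 : p1 ≠ p2) (n13 : p1 ≠ p3) (n23 : p2 ≠ p3) (n14 : p1 ≠ p4) (n24 : p2 ≠ p4) (n34 : p3 ≠ p4) (n15 : p1 ≠ p5) (n25 : p2 ≠ p5) (n35 : p3 ≠ p5) (n45 : p4 ≠ p5) (y : GolayPt) :
    y ∈ MulAction.orbit ↥(MulAction.stabilizer M24 d ⊓ MulAction.stabilizer M24 p1 ⊓ MulAction.stabilizer M24 p2 ⊓ MulAction.stabilizer M24 p3 ⊓ MulAction.stabilizer M24 p4) p5 ↔ y ∈ d ∧ y ∉ ([p1, p2, p3, p4] : List GolayPt) := by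
  constructor
  · rintro ⟨g, rfl⟩
    have hgd : (g : M24) • d = d := g.2.1.1.1.1
    have hg1 : (g : M24) • p1 = p1 := g.2.1.1.1.2
    have hg2 : (g : M24) • p2 = p2 := g.2.1.1.2
    have hg3 : (g : M24) • p3 = p3 := g.2.1.2
    have hg4 : (g : M24) • p4 = p4 := g.2.2
    refine ⟨?_, ?_⟩
    · have := (smul_mem_iff' (g : M24) p5 d).mpr m5
      rw [hgd] at this
      exact this
    · intro hmem
      simp only [List.mem_cons, List.not_mem_nil, or_false] at hmem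
      rcases hmem with h | h | h | h
      · exact n15 (MulAction.injective (g : M24) (h.trans hg1.symm)).symm
      · exact n25 (MulAction.injective (g : M24) (h.trans hg2.symm)).symm
      · exact n35 (MulAction.injective (g : M24) (h.trans hg3.symm)).symm
      · exact n45 (MulAction.injective (g : M24) (h.trans hg4.symm)).symm
  · rintro ⟨hy, hny⟩
    have e1 : p1 ≠ y := fun h => hny (by rw [← h]; simp)
    have e2 : p2 ≠ y := fun h => hny (by rw [← h]; simp)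
    have e3 : p3 ≠ y := fun h => hny (by rw [← h]; simp)
    have e4 : p4 ≠ y := fun h => hny (by rw [← h]; simp)
    obtain ⟨k1, hk1⟩ := dflag5 d hd p1 p2 p3 p4 p5 m1 m2 m3 m4 m5 n12 n13 n23 n14 n24 n34 n15 n25 n35 n45
    obtain ⟨k2, hk2⟩ := dflag5 d hd p1 p2 p3 p4 y m1 m2 m3 m4 hy n12 n13 n23 n14 n24 n34 e1 e2 e3 e4
    have hκ : (k2 * k1⁻¹) • ((((((d, p1), p2), p3), p4), p5) : Flag5) = ((((((d, p1), p2), p3), p4), y) : Flag5) := by
      rw [mul_smul, ← hk1, inv_smul_smul, hk2]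
    simp only [Prod.smul_mk, Prod.mk.injEq] at hκ
    obtain ⟨⟨⟨⟨⟨hd', h1'⟩, h2'⟩, h3'⟩, h4'⟩, hy'⟩ := hκ
    exact ⟨⟨k2 * k1⁻¹, ⟨⟨⟨⟨hd', h1'⟩, h2'⟩, h3'⟩, h4'⟩⟩, hy'⟩

theorem card_dstab5 (d : Finset GolayPt) (hd : d ∈ dodecads) (p1 p2 p3 p4 p5 : GolayPt) (m1 : p1 ∈ d) (m2 : p2 ∈ d) (m3 : p3 ∈ d) (m4 : p4 ∈ d) (m5 : p5 ∈ d) (n12 : p1 ≠ p2) (n13 : p1 ≠ p3) (n23 : p2 ≠ p3) (n14 : p1 ≠ p4) (n24 : p2 ≠ p4) (n34 : p3 ≠ p4) (n15 : p1 ≠ p5) (n25 : p2 ≠ p5) (n35 : p3 ≠ p5) (n45 : p4 ≠ p5) :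
    Nat.card ↥(MulAction.stabilizer M24 d ⊓ MulAction.stabilizer M24 p1 ⊓ MulAction.stabilizer M24 p2 ⊓ MulAction.stabilizer M24 p3 ⊓ MulAction.stabilizer M24 p4 ⊓ MulAction.stabilizer M24 p5) = 1 := by
  have h := card_inf_stabilizer_mul (MulAction.stabilizer M24 d ⊓ MulAction.stabilizer M24 p1 ⊓ MulAction.stabilizer M24 p2 ⊓ MulAction.stabilizer M24 p3 ⊓ MulAction.stabilizer M24 p4) p5
  have horb : MulAction.orbit ↥(MulAction.stabilizer M24 d ⊓ MulAction.stabilizer M24 p1 ⊓ MulAction.stabilizer M24 p2 ⊓ MulAction.stabilizer M24 p3 ⊓ MulAction.stabilizer M24 p4) p5 =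
      ↑(d \ ([p1, p2, p3, p4] : List GolayPt).toFinset) := by
    ext y
    rw [dorbit4 d hd p1 p2 p3 p4 p5 m1 m2 m3 m4 m5 n12 n13 n23 n14 n24 n34 n15 n25 n35 n45, Finset.mem_coe, Finset.mem_sdiff, List.mem_toFinset]
  have hc : (d \ ([p1, p2, p3, p4] : List GolayPt).toFinset).card = 8 := by
    rw [Finset.card_sdiff_of_subset (by
      intro z hz
      simp only [List.mem_toFinset, List.mem_cons, List.not_mem_nil, or_false] at hz
      rcases hz with rfl | rfl | rfl | rfl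
      · exact m1
      · exact m2
      · exact m3
      · exact m4),
      List.toFinset_card_of_nodup (by simp [n12, n13, n23, n14, n24, n34]), hd.2]
    rfl
  rw [horb, Set.ncard_coe_finset, hc, card_dstab4 d hd p1 p2 p3 p4 m1 m2 m3 m4 n12 n13 n23 n14 n24 n34] at h
  omega

theorem dstab0_trans_out (d : Finset GolayPt) (hd : d ∈ dodecads) (x y : GolayPt) (hx : x ∉ d) (hy : y ∉ d) :
    ∃ g ∈ (MulAction.stabilizer M24 d), ((g : ↥M24) : Equiv.Perm GolayPt) x = y := by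
  obtain ⟨k1, hk1⟩ := dflag0_out d hd x hx
  obtain ⟨k2, hk2⟩ := dflag0_out d hd y hy
  have hκ : (k2 * k1⁻¹) • ((d, x) : Flag1) = ((d, y) : Flag1) := by
    rw [mul_smul, ← hk1, inv_smul_smul, hk2]
  simp only [Prod.smul_mk, Prod.mk.injEq] at hκ
  obtain ⟨hd', hy'⟩ := hκ
  exact ⟨k2 * k1⁻¹, hd', hy'⟩

theorem dstab1_trans_out (d : Finset GolayPt) (hd : d ∈ dodecads) (p1 : GolayPt) (m1 : p1 ∈ d) (x y : GolayPt) (hx : x ∉ d) (hy : y ∉ d) :
    ∃ g ∈ (MulAction.stabilizer M24 d ⊓ MulAction.stabilizer M24 p1), ((g : ↥M24) : Equiv.Perm GolayPt) x = y := by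
  obtain ⟨k1, hk1⟩ := dflag1_out d hd p1 m1 x hx
  obtain ⟨k2, hk2⟩ := dflag1_out d hd p1 m1 y hy
  have hκ : (k2 * k1⁻¹) • (((d, p1), x) : Flag2) = (((d, p1), y) : Flag2) := by
    rw [mul_smul, ← hk1, inv_smul_smul, hk2]
  simp only [Prod.smul_mk, Prod.mk.injEq] at hκ
  obtain ⟨⟨hd', h1'⟩, hy'⟩ := hκ
  exact ⟨k2 * k1⁻¹, ⟨hd', h1'⟩, hy'⟩

theorem dstab2_trans_out (d : Finset GolayPt) (hd : d ∈ dodecads) (p1 p2 : GolayPt) (m1 : p1 ∈ d) (m2 : p2 ∈ d) (n12 : p1 ≠ p2) (x y : GolayPt) (hx : x ∉ d) (hy : y ∉ d) :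
    ∃ g ∈ (MulAction.stabilizer M24 d ⊓ MulAction.stabilizer M24 p1 ⊓ MulAction.stabilizer M24 p2), ((g : ↥M24) : Equiv.Perm GolayPt) x = y := by
  obtain ⟨k1, hk1⟩ := dflag2_out d hd p1 p2 m1 m2 n12 x hx
  obtain ⟨k2, hk2⟩ := dflag2_out d hd p1 p2 m1 m2 n12 y hy
  have hκ : (k2 * k1⁻¹) • ((((d, p1), p2), x) : Flag3) = ((((d, p1), p2), y) : Flag3) := by
    rw [mul_smul, ← hk1, inv_smul_smul, hk2]
  simp only [Prod.smul_mk, Prod.mk.injEq] at hκ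
  obtain ⟨⟨⟨hd', h1'⟩, h2'⟩, hy'⟩ := hκ
  exact ⟨k2 * k1⁻¹, ⟨⟨hd', h1'⟩, h2'⟩, hy'⟩

theorem dstab3_trans_out (d : Finset GolayPt) (hd : d ∈ dodecads) (p1 p2 p3 : GolayPt) (m1 : p1 ∈ d) (m2 : p2 ∈ d) (m3 : p3 ∈ d) (n12 : p1 ≠ p2) (n13 : p1 ≠ p3) (n23 : p2 ≠ p3) (x y : GolayPt) (hx : x ∉ d) (hy : y ∉ d) :
    ∃ g ∈ (MulAction.stabilizer M24 d ⊓ MulAction.stabilizer M24 p1 ⊓ MulAction.stabilizer M24 p2 ⊓ MulAction.stabilizer M24 p3), ((g : ↥M24) : Equiv.Perm GolayPt) x = y := by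
  obtain ⟨k1, hk1⟩ := dflag3_out d hd p1 p2 p3 m1 m2 m3 n12 n13 n23 x hx
  obtain ⟨k2, hk2⟩ := dflag3_out d hd p1 p2 p3 m1 m2 m3 n12 n13 n23 y hy
  have hκ : (k2 * k1⁻¹) • (((((d, p1), p2), p3), x) : Flag4) = (((((d, p1), p2), p3), y) : Flag4) := by
    rw [mul_smul, ← hk1, inv_smul_smul, hk2]
  simp only [Prod.smul_mk, Prod.mk.injEq] at hκ
  obtain ⟨⟨⟨⟨hd', h1'⟩, h2'⟩, h3'⟩, hy'⟩ := hκ
  exact ⟨k2 * k1⁻¹, ⟨⟨⟨hd', h1'⟩, h2'⟩, h3'⟩, hy'⟩

end Cfsg.Agent.Lib.Helper12.Golay
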