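import Mathlib
import Cfsg.Prelude.Def_Sporadic_a
import Cfsg.Prelude.Def_SporadicCombinatorics
import Cfsg.Agent.Lib.Helper12.Golay.Homog

set_option autoImplicit false

namespace Cfsg.Agent.Lib.Helper12.Golay

open Cfsg
open scoped Pointwise

/-! ### Triples of bitmasks, and the orbit machine on them -/

/-- A triple of bitmasks. -/
abbrev Code3 : Type := ℕ × ℕ × ℕ

/-- The set of three sets of points described by a triple of bitmasks. -/
def D3 (t : Code3) : Finset (Finset GolayPt) := {fs t.1, fs t.2.1, fs t.2.2}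

/-- Strictly increasing triples of bitmasks below `2 ^ 24`. -/
def Sorted3 (t : Code3) : Prop := t.1 < t.2.1 ∧ t.2.1 < t.2.2 ∧ t.2.2 < 2 ^ 24

/-- Sorting three numbers (kernel-friendly). -/
def sort3 (a b c : ℕ) : Code3 :=
  cond (Nat.ble a b)
    (cond (Nat.ble b c) (a, b, c) (cond (Nat.ble a c) (a, c, b) (c, a, b)))
    (cond (Nat.ble a c) (b, a, c) (cond (Nat.ble b c) (b, c, a) (c, b, a)))

theorem ble_true {a b : ℕ} (h : Nat.ble a b = true) : a ≤ b := Nat.le_of_ble_eq_true h

theorem ble_false {a b : ℕ} (h : Nat.ble a b = false) : b < a := by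
  by_contra hcon
  rw [Nat.ble_eq_true_of_le (Nat.le_of_not_lt hcon)] at h
  exact Bool.noConfusion h

theorem D3_sort3 (a b c : ℕ) : D3 (sort3 a b c) = {fs a, fs b, fs c} := by
  rw [sort3]
  cases Nat.ble a b <;> cases Nat.ble b c <;> cases Nat.ble a c <;>
    simp only [cond_true, cond_false, D3] <;> ext x <;>
    simp only [Finset.mem_insert, Finset.mem_singleton] <;> tauto

theorem sorted_sort3 {a b c : ℕ} (hab : a ≠ b) (hac : a ≠ c) (hbc : b ≠ c) (ha : a < 2 ^ 24)
    (hb : b < 2 ^ 24) (hc : c < 2 ^ 24) : Sorted3 (sort3 a b c) := by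
  rw [sort3]
  cases h1 : Nat.ble a b <;> cases h2 : Nat.ble b c <;> cases h3 : Nat.ble a c <;>
    simp only [cond_true, cond_false, Sorted3] <;>
    (first
      | have e1 := ble_true h1
      | have e1 := ble_false h1) <;>
    (first
      | have e2 := ble_true h2
      | have e2 := ble_false h2) <;>
    (first
      | have e3 := ble_true h3
      | have e3 := ble_false h3) <;>
    omega

theorem D3_injOn {t t' : Code3} (ht : Sorted3 t) (ht' : Sorted3 t') (h : D3 t = D3 t') : t = t' := by
  obtain ⟨a, b, c⟩ := t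
  obtain ⟨a', b', c'⟩ := t'
  obtain ⟨h1, h2, h3⟩ := ht
  obtain ⟨h1', h2', h3'⟩ := ht'
  simp only at h1 h2 h3 h1' h2' h3'
  have key : ∀ x x' y' z' : ℕ, x < 2 ^ 24 → x' < 2 ^ 24 → y' < 2 ^ 24 → z' < 2 ^ 24 →
      fs x ∈ ({fs x', fs y', fs z'} : Finset (Finset GolayPt)) → x = x' ∨ x = y' ∨ x = z' := by
    intro x x' y' z' hx hx' hy' hz' hm
    rw [Finset.mem_insert, Finset.mem_insert, Finset.mem_singleton] at hm
    rcases hm with hm | hm | hm
    · exact Or.inl (fs_inj hx hx' hm)
    · exact Or.inr (Or.inl (fs_inj hx hy' hm))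
    · exact Or.inr (Or.inr (fs_inj hx hz' hm))
  have ma : fs a ∈ D3 (a', b', c') := by rw [← h, D3]; simp
  have mb : fs b ∈ D3 (a', b', c') := by rw [← h, D3]; simp
  have mc : fs c ∈ D3 (a', b', c') := by rw [← h, D3]; simp
  have ma' : fs a' ∈ D3 (a, b, c) := by rw [h, D3]; simp
  have mb' : fs b' ∈ D3 (a, b, c) := by rw [h, D3]; simp
  have mc' : fs c' ∈ D3 (a, b, c) := by rw [h, D3]; simp
  have ea := key a a' b' c' (by omega) (by omega) (by omega) h3' ma
  have eb := key b a' b' c' (by omega) (by omega) (by omega) h3' mb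
  have ec := key c a' b' c' h3 (by omega) (by omega) h3' mc
  have ea' := key a' a b c (by omega) (by omega) (by omega) h3 ma'
  have eb' := key b' a b c (by omega) (by omega) (by omega) h3 mb'
  have ec' := key c' a b c h3' (by omega) (by omega) h3 mc'
  have e1 : a = a' := by omega
  have e2 : b = b' := by omega
  have e3 : c = c' := by omega
  rw [e1, e2, e3]

/-- The action of a table on triples of bitmasks. -/
def actT3 (T : List ℕ) (t : Code3) : Code3 := sort3 (actK T t.1) (actK T t.2.1) (actK T t.2.2)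

theorem actK_lt {T : List ℕ} (hv : ValidT T) (m : ℕ) : actK T m < 2 ^ 24 := by
  rw [actK_eq]; exact actT_lt hv.1 m

theorem actK_injOn {T : List ℕ} (hv : ValidT T) {m n : ℕ} (hm : m < 2 ^ 24) (hn : n < 2 ^ 24)
    (h : actK T m = actK T n) : m = n := by
  have h1 : permT T • fs m = permT T • fs n := by
    rw [permT_smul_fs hv hm, permT_smul_fs hv hn, ← actK_eq, ← actK_eq, h]
  exact fs_inj hm hn (MulAction.injective (permT T) h1)

theorem D3_actT3 {T : List ℕ} (hv : ValidT T) {t : Code3} (ht : Sorted3 t) :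
    D3 (actT3 T t) = permT T • D3 t ∧ Sorted3 (actT3 T t) := by
  obtain ⟨a, b, c⟩ := t
  obtain ⟨h1, h2, h3⟩ := ht
  simp only at h1 h2 h3
  have ha : a < 2 ^ 24 := by omega
  have hb : b < 2 ^ 24 := by omega
  refine ⟨?_, ?_⟩
  · rw [actT3, D3_sort3, D3, Finset.smul_finset_insert, Finset.smul_finset_insert,
      Finset.smul_finset_singleton, permT_smul_fs hv ha, permT_smul_fs hv hb, permT_smul_fs hv h3,
      ← actK_eq, ← actK_eq, ← actK_eq]
  · apply sorted_sort3
    · intro h; have := actK_injOn hv ha hb h; omega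
    · intro h; have := actK_injOn hv ha h3 h; omega
    · intro h; have := actK_injOn hv hb h3 h; omega
    · exact actK_lt hv _
    · exact actK_lt hv _
    · exact actK_lt hv _

/-- The action of the `k`-th table of a list on triples of bitmasks. -/
def actG3 (gens : List (List ℕ)) (k : ℕ) (t : Code3) : Option Code3 :=
  match gens[k]? with
  | some T => some (actT3 T t)
  | none => none

/-- The list of triples reached from `t₀` by the instruction list `is`. -/
def orb3 (gens : List (List ℕ)) (is : List ℕ) (t₀ : Code3) : List Code3 :=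
  runOrb (actG3 gens) is [t₀] [t₀]

theorem orb3_spec (H : Subgroup (Equiv.Perm GolayPt)) (gens : List (List ℕ))
    (hg : ∀ T ∈ gens, ValidT T ∧ permT T ∈ H) (is : List ℕ) (t₀ : Code3) (h₀ : Sorted3 t₀) :
    ∀ t ∈ orb3 gens is t₀, Sorted3 t ∧ ∃ g ∈ H, g • D3 t₀ = D3 t := by
  have h0 : Sorted3 t₀ ∧ ∃ g ∈ H, g • D3 t₀ = D3 t₀ := ⟨h₀, 1, H.one_mem, one_smul _ _⟩
  apply runOrb_inv (actG3 gens) (fun t => Sorted3 t ∧ ∃ g ∈ H, g • D3 t₀ = D3 t)
  · intro k a b hk ha
    rw [actG3] at hk
    cases hT : gens[k]? with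
    | none => rw [hT] at hk; cases hk
    | some T =>
      rw [hT] at hk
      have hb : actT3 T a = b := by simpa using hk
      have hTmem : T ∈ gens := List.mem_of_getElem? hT
      obtain ⟨hv, hH⟩ := hg T hTmem
      obtain ⟨ha1, g, hgH, hga⟩ := ha
      obtain ⟨e1, e2⟩ := D3_actT3 hv ha1
      rw [hb] at e1 e2
      refine ⟨e2, permT T * g, H.mul_mem hH hgH, ?_⟩
      rw [mul_smul, hga, e1]
  · intro a ha
    rw [List.mem_singleton] at ha
    rw [ha]; exact h0
  · intro a ha
    rw [List.mem_singleton] at ha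
    rw [ha]; exact h0

/-- A 24-bit key of a triple: the low 12 bits of its first two members. -/
def key3 (t : Code3) : ℕ := Nat.lor (Nat.land t.1 4095) (Nat.shiftLeft (Nat.land t.2.1 4095) 12)

/-- Test that the keys of a list of triples are pairwise distinct and not in the bitset `B`. -/
def nodupK3 : List Code3 → ℕ → Bool
  | [], _ => true
  | t :: L, B =>
    match tb B (key3 t) with
    | true => false
    | false => nodupK3 L (Nat.lor B (Nat.shiftLeft 1 (key3 t)))

theorem nodupK3_spec {L : List Code3} {B : ℕ} (h : nodupK3 L B = true) :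
    (∀ t ∈ L, B.testBit (key3 t) = false) ∧ (L.map key3).Nodup := by
  induction L generalizing B with
  | nil => exact ⟨fun t ht => absurd ht List.not_mem_nil, List.nodup_nil⟩
  | cons t L ih =>
    rw [nodupK3] at h
    split at h
    · exact Bool.noConfusion h
    · rename_i hb
      rw [tb_eq] at hb
      obtain ⟨h1, h2⟩ := ih h
      have h1' : ∀ t' ∈ L, B.testBit (key3 t') = false ∧ key3 t' ≠ key3 t := by
        intro t' ht'
        have := h1 t' ht'
        have e : (B ||| 1 <<< key3 t).testBit (key3 t') = false := this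
        rw [Nat.testBit_or, Bool.or_eq_false_iff, Nat.one_shiftLeft, Nat.testBit_two_pow] at e
        refine ⟨e.1, ?_⟩
        intro hk
        have := e.2
        rw [hk] at this
        simp at this
      refine ⟨?_, ?_⟩
      · intro t' ht'
        rcases List.mem_cons.mp ht' with rfl | ht''
        · exact hb
        · exact (h1' t' ht'').1
      · rw [List.map_cons, List.nodup_cons]
        refine ⟨?_, h2⟩
        intro hm
        obtain ⟨t', ht', hk⟩ := List.mem_map.mp hm
        exact (h1' t' ht').2 hk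

/-- A list of sorted triples with pairwise distinct keys describes as many distinct sets of sets
as it has members. -/
theorem card_D3_of_nodupK3 {L : List Code3} (hs : ∀ t ∈ L, Sorted3 t)
    (h : nodupK3 L 0 = true) : ((L.map D3).toFinset).card = L.length := by
  obtain ⟨_, h2⟩ := nodupK3_spec h
  have hL : L.Nodup := List.Nodup.of_map _ h2
  have hD : (L.map D3).Nodup := by
    apply List.Nodup.map_on _ hL
    intro x hx y hy hxy
    exact D3_injOn (hs x hx) (hs y hy) hxy
  rw [List.toFinset_card_of_nodup hD, List.length_map]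

end Cfsg.Agent.Lib.Helper12.Golay
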