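import Mathlib
import Cfsg.Prelude.Def_Sporadic_a
import Cfsg.Agent.Lib.Helper12.Golay.Trio

set_option autoImplicit false

namespace Cfsg.Agent.Lib.Helper12.Golay

open Cfsg
open scoped Pointwise

/-! ### Families of sets of points described by lists of bitmasks -/

/-- The family of sets of points described by a list of bitmasks. -/
def DL (l : List ℕ) : Finset (Finset GolayPt) := (l.map fs).toFinset

theorem mem_DL {l : List ℕ} {t : Finset GolayPt} : t ∈ DL l ↔ ∃ m ∈ l, fs m = t := by
  rw [DL, List.mem_toFinset, List.mem_map]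

/-- Strictly increasing lists of bitmasks below `2 ^ 24`. -/
def CanonL (l : List ℕ) : Prop := l.Pairwise (· < ·) ∧ ∀ m ∈ l, m < 2 ^ 24

theorem CanonL.nodup {l : List ℕ} (h : CanonL l) : l.Nodup :=
  h.1.imp (fun hab => ne_of_lt hab)

theorem DL_subset_of_eq {l l' : List ℕ} (h : CanonL l) (h' : CanonL l') (e : DL l = DL l') :
    ∀ m ∈ l, m ∈ l' := by
  intro m hm
  have h1 : fs m ∈ DL l' := by rw [← e]; exact mem_DL.mpr ⟨m, hm, rfl⟩
  obtain ⟨m', hm', e'⟩ := mem_DL.mp h1
  have h2 := fs_inj (h'.2 m' hm') (h.2 m hm) e'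
  rw [← h2]; exact hm'

theorem DL_injOn {l l' : List ℕ} (h : CanonL l) (h' : CanonL l') (e : DL l = DL l') : l = l' := by
  have hperm : l.Perm l' := by
    apply List.perm_of_nodup_nodup_toFinset_eq h.nodup h'.nodup
    ext m
    rw [List.mem_toFinset, List.mem_toFinset]
    exact ⟨DL_subset_of_eq h h' e m, DL_subset_of_eq h' h e.symm m⟩
  exact List.Perm.eq_of_pairwise (le := (· < ·))
    (fun a b _ _ hab hba => absurd hab (lt_asymm hba)) h.1 h'.1 hperm

theorem card_DL {l : List ℕ} (h : CanonL l) : (DL l).card = l.length := by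
  have hnd : (l.map fs).Nodup := by
    apply List.Nodup.map_on _ h.nodup
    intro a ha b hb hab
    exact fs_inj (h.2 a ha) (h.2 b hb) hab
  rw [DL, List.toFinset_card_of_nodup hnd, List.length_map]

theorem card_DL_le (l : List ℕ) : (DL l).card ≤ l.length := by
  rw [DL]
  exact (List.toFinset_card_le _).trans (by rw [List.length_map])

/-- The action of a table on lists of bitmasks. -/
def actLs (T : List ℕ) (l : List ℕ) : List ℕ := (l.map (actK T)).insertionSort (· ≤ ·)

theorem mem_actLs {T : List ℕ} {l : List ℕ} {m : ℕ} : m ∈ actLs T l ↔ ∃ m0 ∈ l, actK T m0 = m := by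
  rw [actLs, (List.perm_insertionSort _ _).mem_iff, List.mem_map]

theorem DL_actLs {T : List ℕ} (hv : ValidT T) {l : List ℕ} (hl : ∀ m ∈ l, m < 2 ^ 24) :
    DL (actLs T l) = permT T • DL l := by
  ext t
  rw [mem_DL, Finset.mem_smul_finset]
  constructor
  · rintro ⟨m, hm, rfl⟩
    obtain ⟨m0, hm0, rfl⟩ := mem_actLs.mp hm
    exact ⟨fs m0, mem_DL.mpr ⟨m0, hm0, rfl⟩, by rw [permT_smul_fs hv (hl m0 hm0), actK_eq]⟩
  · rintro ⟨y, hy, rfl⟩
    obtain ⟨m0, hm0, rfl⟩ := mem_DL.mp hy
    exact ⟨actK T m0, mem_actLs.mpr ⟨m0, hm0, rfl⟩, by rw [permT_smul_fs hv (hl m0 hm0), actK_eq]⟩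

theorem canon_actLs {T : List ℕ} (hv : ValidT T) {l : List ℕ} (hl : CanonL l) :
    CanonL (actLs T l) := by
  have hnd0 : (l.map (actK T)).Nodup := by
    apply List.Nodup.map_on _ hl.nodup
    intro a ha b hb hab
    exact actK_injOn hv (hl.2 a ha) (hl.2 b hb) hab
  have hnd : (actLs T l).Nodup := (List.perm_insertionSort _ _).nodup_iff.mpr hnd0
  have hs : (actLs T l).Pairwise (· ≤ ·) := List.pairwise_insertionSort _ _
  refine ⟨?_, ?_⟩
  · exact (hs.and hnd).imp (fun hab => lt_of_le_of_ne hab.1 hab.2)
  · intro m hm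
    obtain ⟨m0, _, rfl⟩ := mem_actLs.mp hm
    exact actK_lt hv m0

/-- The action of the `k`-th table of a list on lists of bitmasks. -/
def actGLs (gens : List (List ℕ)) (k : ℕ) (l : List ℕ) : Option (List ℕ) :=
  match gens[k]? with
  | some T => some (actLs T l)
  | none => none

/-- The list of lists reached from `l₀` by the instruction list `is`. -/
def orbLs (gens : List (List ℕ)) (is : List ℕ) (l₀ : List ℕ) : List (List ℕ) :=
  runOrb (actGLs gens) is [l₀] [l₀]

theorem orbLs_spec (H : Subgroup (Equiv.Perm GolayPt)) (gens : List (List ℕ))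
    (hg : ∀ T ∈ gens, ValidT T ∧ permT T ∈ H) (is : List ℕ) (l₀ : List ℕ) (h₀ : CanonL l₀) :
    ∀ l ∈ orbLs gens is l₀, CanonL l ∧ l.length = l₀.length ∧ ∃ g ∈ H, g • DL l₀ = DL l := by
  have h0 : CanonL l₀ ∧ l₀.length = l₀.length ∧ ∃ g ∈ H, g • DL l₀ = DL l₀ :=
    ⟨h₀, rfl, 1, H.one_mem, one_smul _ _⟩
  apply runOrb_inv (actGLs gens)
    (fun l => CanonL l ∧ l.length = l₀.length ∧ ∃ g ∈ H, g • DL l₀ = DL l)
  · intro k a b hk ha
    rw [actGLs] at hk
    cases hT : gens[k]? with
    | none => rw [hT] at hk; cases hk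
    | some T =>
      rw [hT] at hk
      have hb : actLs T a = b := by simpa using hk
      have hTmem : T ∈ gens := List.mem_of_getElem? hT
      obtain ⟨hv, hH⟩ := hg T hTmem
      obtain ⟨ha1, ha2, g, hgH, hga⟩ := ha
      have e1 := DL_actLs hv ha1.2
      have e2 := canon_actLs hv ha1
      rw [hb] at e1 e2
      refine ⟨e2, ?_, permT T * g, H.mul_mem hH hgH, ?_⟩
      · rw [← hb, actLs, List.length_insertionSort, List.length_map, ha2]
      · rw [mul_smul, hga, e1]
  · intro a ha
    rw [List.mem_singleton] at ha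
    rw [ha]; exact h0
  · intro a ha
    rw [List.mem_singleton] at ha
    rw [ha]; exact h0

/-! ### Kernel-friendly list functions -/

/-- All members of a list satisfy a Boolean predicate. -/
def allR (l : List ℕ) (p : ℕ → Bool) : Bool :=
  @List.rec ℕ (fun _ => Bool) true (fun b _ ih => cond (p b) ih false) l

theorem allR_cons (b : ℕ) (l : List ℕ) (p : ℕ → Bool) :
    allR (b :: l) p = cond (p b) (allR l p) false := rfl

theorem allR_spec {l : List ℕ} {p : ℕ → Bool} (h : allR l p = true) : ∀ x ∈ l, p x = true := by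
  induction l with
  | nil => intro x hx; exact absurd hx List.not_mem_nil
  | cons b l ih =>
    rw [allR_cons] at h
    cases hb : p b with
    | false => rw [hb] at h; exact Bool.noConfusion h
    | true =>
      rw [hb] at h
      intro x hx
      rcases List.mem_cons.mp hx with rfl | hx'
      · exact hb
      · exact ih h x hx'

/-- Membership in a list of natural numbers. -/
def memK (a : ℕ) (l : List ℕ) : Bool :=
  @List.rec ℕ (fun _ => Bool) false (fun b _ ih => cond (Nat.beq a b) true ih) l

theorem memK_cons (a b : ℕ) (l : List ℕ) :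
    memK a (b :: l) = cond (Nat.beq a b) true (memK a l) := rfl

theorem memK_iff {a : ℕ} {l : List ℕ} : memK a l = true ↔ a ∈ l := by
  induction l with
  | nil => exact ⟨fun h => Bool.noConfusion h, fun h => absurd h List.not_mem_nil⟩
  | cons b l ih =>
    rw [memK_cons, List.mem_cons]
    cases hb : Nat.beq a b with
    | true =>
      have : a = b := natBeq_iff.mp hb
      exact ⟨fun _ => Or.inl this, fun _ => rfl⟩
    | false =>
      have hne : a ≠ b := fun e => by rw [natBeq_iff.mpr e] at hb; exact Bool.noConfusion hb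
      show memK a l = true ↔ _
      rw [ih]
      exact ⟨fun h => Or.inr h, fun h => h.resolve_left hne⟩

/-- Equality of lists of natural numbers. -/
def eqLK (l : List ℕ) : List ℕ → Bool :=
  @List.rec ℕ (fun _ => List ℕ → Bool) (fun l' => match l' with | [] => true | _ :: _ => false)
    (fun a _ ih l' => match l' with | [] => false | b :: t => cond (Nat.beq a b) (ih t) false) l

theorem eqLK_iff {l l' : List ℕ} : eqLK l l' = true ↔ l = l' := by
  induction l generalizing l' with
  | nil =>
    cases l' with
    | nil => exact ⟨fun _ => rfl, fun _ => rfl⟩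
    | cons b t => exact ⟨fun h => Bool.noConfusion h, fun h => absurd h (List.cons_ne_nil _ _).symm⟩
  | cons a l ih =>
    cases l' with
    | nil => exact ⟨fun h => Bool.noConfusion h, fun h => absurd h (List.cons_ne_nil _ _)⟩
    | cons b t =>
      show cond (Nat.beq a b) (eqLK l t) false = true ↔ _
      cases hb : Nat.beq a b with
      | true =>
        have e : a = b := natBeq_iff.mp hb
        show eqLK l t = true ↔ _
        rw [ih, e]
        exact ⟨fun h => by rw [h], fun h => (List.cons.inj h).2⟩
      | false =>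
        have hne : a ≠ b := fun e => by rw [natBeq_iff.mpr e] at hb; exact Bool.noConfusion hb
        exact ⟨fun h => Bool.noConfusion h, fun h => absurd (List.cons.inj h).1 hne⟩

/-- Membership in a list of lists of natural numbers. -/
def memLL (a : List ℕ) (L : List (List ℕ)) : Bool :=
  @List.rec (List ℕ) (fun _ => Bool) false (fun b _ ih => cond (eqLK a b) true ih) L

theorem memLL_iff {a : List ℕ} {L : List (List ℕ)} : memLL a L = true ↔ a ∈ L := by
  induction L with
  | nil => exact ⟨fun h => Bool.noConfusion h, fun h => absurd h List.not_mem_nil⟩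
  | cons b L ih =>
    show cond (eqLK a b) true (memLL a L) = true ↔ _
    rw [List.mem_cons]
    cases hb : eqLK a b with
    | true => exact ⟨fun _ => Or.inl (eqLK_iff.mp hb), fun _ => rfl⟩
    | false =>
      have hne : a ≠ b := fun e => by rw [eqLK_iff.mpr e] at hb; exact Bool.noConfusion hb
      show memLL a L = true ↔ _
      rw [ih]
      exact ⟨fun h => Or.inr h, fun h => h.resolve_left hne⟩

/-- Intersection of two lists. -/
def interK (l l' : List ℕ) : List ℕ :=
  @List.rec ℕ (fun _ => List ℕ) [] (fun x _ ih => cond (memK x l') (x :: ih) ih) l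

theorem mem_interK {x : ℕ} {l l' : List ℕ} : x ∈ interK l l' ↔ x ∈ l ∧ x ∈ l' := by
  induction l with
  | nil => exact ⟨fun h => absurd h List.not_mem_nil, fun h => absurd h.1 List.not_mem_nil⟩
  | cons b l ih =>
    show x ∈ cond (memK b l') (b :: interK l l') (interK l l') ↔ _
    cases hb : memK b l' with
    | true =>
      show x ∈ b :: interK l l' ↔ _
      rw [List.mem_cons, List.mem_cons, ih]
      constructor
      · rintro (rfl | h)
        · exact ⟨Or.inl rfl, memK_iff.mp hb⟩
        · exact ⟨Or.inr h.1, h.2⟩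
      · rintro ⟨rfl | h1, h2⟩
        · exact Or.inl rfl
        · exact Or.inr ⟨h1, h2⟩
    | false =>
      show x ∈ interK l l' ↔ _
      rw [ih, List.mem_cons]
      constructor
      · rintro ⟨h1, h2⟩
        exact ⟨Or.inr h1, h2⟩
      · rintro ⟨rfl | h1, h2⟩
        · rw [memK_iff.mpr h2] at hb; exact Bool.noConfusion hb
        · exact ⟨h1, h2⟩

/-- Pairwise distinctness of a list of natural numbers. -/
def nodupR (l : List ℕ) : Bool :=
  @List.rec ℕ (fun _ => Bool) true (fun a t ih => cond (memK a t) false ih) l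

theorem nodupR_spec {l : List ℕ} (h : nodupR l = true) : l.Nodup := by
  induction l with
  | nil => exact List.nodup_nil
  | cons a t ih =>
    have h' : cond (memK a t) false (nodupR t) = true := h
    cases ha : memK a t with
    | true => rw [ha] at h'; exact Bool.noConfusion h'
    | false =>
      rw [ha] at h'
      rw [List.nodup_cons]
      refine ⟨fun hm => ?_, ih h'⟩
      rw [memK_iff.mpr hm] at ha
      exact Bool.noConfusion ha

end Cfsg.Agent.Lib.Helper12.Golay
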