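import Mathlib
import Cfsg.Prelude.Def_Sporadic_a
import Cfsg.Prelude.Def_SporadicCombinatorics
import Cfsg.Agent.Lib.Helper12.Golay.Parts
import Cfsg.Agent.Lib.Helper12.Golay.QuartetData

set_option autoImplicit false

namespace Cfsg.Agent.Lib.Helper12.Golay

open Cfsg
open scoped Pointwise

/-! ### Hexads and quartets under the group of the code -/

theorem smul_hexadsOn {g : Equiv.Perm GolayPt} (hg : g ∈ M24) {d h : Finset GolayPt}
    (hh : h ∈ hexadsOn d) : g • h ∈ hexadsOn (g • d) := by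
  obtain ⟨h1, o, ho, rfl⟩ := hh
  refine ⟨by rw [Finset.card_smul_finset]; exact h1, g • o, smul_mem_octads hg ho, ?_⟩
  rw [Finset.smul_finset_inter]

theorem smul_quartets {g : Equiv.Perm GolayPt} (hg : g ∈ M24) {d : Finset GolayPt}
    {Q : Finset (Finset GolayPt)} (hQ : Q ∈ quartets d) : g • Q ∈ quartets (g • d) := by
  obtain ⟨h1, h2, h3⟩ := hQ
  refine ⟨by rw [Finset.card_smul_finset]; exact h1, ?_, ?_⟩
  · intro t ht
    obtain ⟨t0, ht0, rfl⟩ := Finset.mem_smul_finset.mp ht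
    obtain ⟨e1, e2⟩ := h2 t0 ht0
    exact ⟨by rw [Finset.card_smul_finset]; exact e1, Finset.smul_finset_subset_smul_finset e2⟩
  · intro t ht u hu hne
    obtain ⟨t0, ht0, rfl⟩ := Finset.mem_smul_finset.mp ht
    obtain ⟨u0, hu0, rfl⟩ := Finset.mem_smul_finset.mp hu
    have hne0 : t0 ≠ u0 := fun e => hne (by rw [e])
    rw [← Finset.smul_finset_union]
    exact smul_hexadsOn hg (h3 t0 ht0 u0 hu0 hne0)

theorem smul_quartets_iff {g : Equiv.Perm GolayPt} (hg : g ∈ M24) {d : Finset GolayPt}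
    {Q : Finset (Finset GolayPt)} : g • Q ∈ quartets (g • d) ↔ Q ∈ quartets d := by
  constructor
  · intro h
    have := smul_quartets (M24.inv_mem hg) h
    rwa [inv_smul_smul, inv_smul_smul] at this
  · exact smul_quartets hg

/-! ### The hexads on the standard dodecad -/

theorem hexCheck1 : allK 4096 (fun u => cond (Nat.beq (popcF (encF u)) 8 &&
    Nat.beq (popcF (Nat.land (encF u) d₀)) 6) (memK (Nat.land (encF u) d₀) hexL) true) = true := by
  decide +kernel

theorem hexCheck2 : hexL = hexW.map (fun u => Nat.land (encF u) d₀) ∧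
    allR hexW (fun u => Nat.blt u 4096 && (Nat.beq (popcF (encF u)) 8 &&
      Nat.beq (popcF (Nat.land (encF u) d₀)) 6)) = true := by decide +kernel

theorem d₀_lt : d₀ < 2 ^ 24 := by decide

theorem land_d₀_lt (m : ℕ) : Nat.land m d₀ < 2 ^ 24 := lt_of_le_of_lt Nat.and_le_right d₀_lt

theorem mem_hexadsOn_iff (h : Finset GolayPt) : h ∈ hexadsOn (fs d₀) ↔ mask h ∈ hexL := by
  constructor
  · rintro ⟨h1, o, ho, rfl⟩
    rw [mem_octads_iff] at ho
    obtain ⟨ho1, ho2⟩ := ho
    obtain ⟨u, hu, hue⟩ := isCode_iff.mp ho1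
    have hm : mask (o ∩ fs d₀) = Nat.land (encF u) d₀ := by
      rw [mask_inter, mask_fs d₀_lt, ← hue, encF_eq hu]; rfl
    have c := allK_spec hexCheck1 u hu
    have c1 : Nat.beq (popcF (encF u)) 8 = true := by
      rw [natBeq_iff, encF_eq hu, popcF_eq (enc_lt u), hue]; exact ho2
    have c2 : Nat.beq (popcF (Nat.land (encF u) d₀)) 6 = true := by
      rw [natBeq_iff, popcF_eq (land_d₀_lt _), ← hm, ← card_eq_popc_mask]; exact h1
    simp only [c1, c2, Bool.and_self, cond_true] at c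
    rw [hm]
    exact memK_iff.mp c
  · intro hm
    obtain ⟨e1, e2⟩ := hexCheck2
    rw [e1, List.mem_map] at hm
    obtain ⟨u, hu, hue⟩ := hm
    have c := allR_spec e2 u hu
    rw [Bool.and_eq_true, Bool.and_eq_true] at c
    obtain ⟨c0, c1, c2⟩ := c
    have hu' : u < 4096 := by
      have : Nat.ble (u + 1) 4096 = true := c0
      exact Nat.le_of_ble_eq_true this
    rw [natBeq_iff, encF_eq hu', popcF_eq (enc_lt u)] at c1
    rw [natBeq_iff, popcF_eq (land_d₀_lt _), hue, ← card_eq_popc_mask] at c2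
    refine ⟨c2, fs (enc u), (fs_mem_octads_iff (enc_lt u)).mpr ⟨isCode_enc hu', c1⟩, ?_⟩
    rw [← fs_and, ← fs_mask h, ← hue, encF_eq hu']
    rfl

end Cfsg.Agent.Lib.Helper12.Golay
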