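import Mathlib
import Cfsg.Prelude.Def_Sporadic_a
import Cfsg.Agent.Lib.Helper12.Golay.Tuples
import Cfsg.Agent.Lib.Helper12.Maximal
import Cfsg.Agent.Lib.helper3.GolayCard

set_option autoImplicit false

namespace Cfsg.Agent.Lib.Helper12.Golay

open Cfsg
open scoped Pointwise

/-! ### The stabiliser of an octad and its action on the octad -/

/-- For each point `j` outside the standard octad, the (inverse) table of an element of the group
fixing the standard octad pointwise and mapping the point `5` to `j` (the identity table at the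
points of the octad). -/
def kTab : List (List ℕ) := [[0,1,2,3,4,5,6,7,8,9,10,11,12,13,14,15,16,17,18,19,20,21,22,23],
  [0,1,2,3,4,5,6,7,8,9,10,11,12,13,14,15,16,17,18,19,20,21,22,23],
  [0,1,2,3,4,5,6,7,8,9,10,11,12,13,14,15,16,17,18,19,20,21,22,23],
  [0,1,2,3,4,5,6,7,8,9,10,11,12,13,14,15,16,17,18,19,20,21,22,23],
  [0,1,2,3,4,5,6,7,8,9,10,11,12,13,14,15,16,17,18,19,20,21,22,23],
  [0,1,2,3,4,5,6,7,8,9,10,11,12,13,14,15,16,17,18,19,20,21,22,23],
  [0,1,2,3,4,6,5,7,18,14,10,23,12,15,9,13,21,22,8,20,19,16,17,11],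
  [0,1,2,3,4,5,6,7,8,9,10,11,12,13,14,15,16,17,18,19,20,21,22,23],
  [0,1,2,3,4,8,18,7,5,20,10,13,12,11,19,23,17,16,6,14,9,22,21,15],
  [0,1,2,3,4,9,14,7,20,5,10,17,12,16,6,21,13,11,19,18,8,15,23,22],
  [0,1,2,3,4,5,6,7,8,9,10,11,12,13,14,15,16,17,18,19,20,21,22,23],
  [0,1,2,3,4,11,23,7,13,17,10,5,12,8,22,18,20,9,15,21,16,19,14,6],
  [0,1,2,3,4,5,6,7,8,9,10,11,12,13,14,15,16,17,18,19,20,21,22,23],
  [0,1,2,3,4,13,15,7,11,16,10,8,12,5,21,6,9,20,23,22,17,14,19,18],
  [0,1,2,3,4,14,9,7,19,6,10,22,12,21,5,16,15,23,20,8,18,13,11,17],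
  [0,1,2,3,4,15,13,7,23,21,10,18,12,6,16,5,14,19,11,17,22,9,20,8],
  [0,1,2,3,4,16,21,7,17,13,10,20,12,9,15,14,5,8,22,23,11,6,18,19],
  [0,1,2,3,4,17,22,7,16,11,10,9,12,20,23,19,8,5,21,15,13,18,6,14],
  [0,1,2,3,4,18,8,7,6,19,10,15,12,23,20,11,22,21,5,9,14,17,16,13],
  [0,1,2,3,4,19,20,7,14,18,10,21,12,22,8,17,23,15,9,5,6,11,13,16],
  [0,1,2,3,4,20,19,7,9,8,10,16,12,17,18,22,11,13,14,6,5,23,15,21],
  [0,1,2,3,4,21,16,7,22,15,10,19,12,14,13,9,6,18,17,11,23,5,8,20],
  [0,1,2,3,4,22,17,7,21,23,10,14,12,19,11,20,18,6,16,13,15,8,5,9],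
  [0,1,2,3,4,23,11,7,15,22,10,6,12,18,17,8,19,14,13,16,21,20,9,5]]

theorem kTab_ok : ∀ j : Fin 24, okK (kTab.getD j []) = true ∧
    (∀ i : Fin 24, tb o₀ i = true → (kTab.getD j []).getD i 0 = i) ∧
    (tb o₀ j = false → (kTab.getD j []).getD j 0 = 5) := by decide +kernel

theorem perm_apply_inv {α : Type*} (g : Equiv.Perm α) (x : α) : g (g⁻¹ x) = x :=
  g.apply_symm_apply x

theorem perm_inv_apply {α : Type*} (g : Equiv.Perm α) (x : α) : g⁻¹ (g x) = x :=
  g.symm_apply_apply x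

theorem pt5_notMem_o₀ : pt 5 ∉ fs o₀ := by
  rw [mem_fs_pt (by decide)]
  decide

theorem fix_base (q : GolayPt) (hq : q ∉ fs o₀) :
    ∃ g ∈ M24, (∀ x ∈ fs o₀, g x = x) ∧ g (pt 5) = q := by
  obtain ⟨h1, h2, h3⟩ := kTab_ok ⟨idx q, idx_lt q⟩
  have hv := okK_valid h1
  refine ⟨permT _, permT_mem_M24' h1, ?_, ?_⟩
  · intro x hx
    rw [permT_apply_eq_iff hv]
    exact h2 ⟨idx x, idx_lt x⟩ (mem_fs_iff_tb.mp hx)
  · rw [permT_apply_eq_iff hv, idx_pt (by decide)]
    apply h3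
    rw [mem_fs_iff_tb] at hq
    exact Bool.eq_false_iff.mpr hq

/-- The pointwise stabiliser of an octad is transitive on the 16 remaining points. -/
theorem exists_fixing (o : Finset GolayPt) (ho : o ∈ octads) :
    ∃ p₀, p₀ ∉ o ∧ ∀ q, q ∉ o → ∃ g ∈ M24, (∀ x ∈ o, g x = x) ∧ g p₀ = q := by
  obtain ⟨k, hk, rfl⟩ := octads_transitive o ho
  refine ⟨k (pt 5), ?_, ?_⟩
  · intro h
    have h' : k • pt 5 ∈ k • fs o₀ := h
    rw [Finset.smul_mem_smul_finset_iff] at h'
    exact pt5_notMem_o₀ h'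
  · intro q hq
    have hq' : k⁻¹ q ∉ fs o₀ := by
      intro h
      apply hq
      have h' : k⁻¹ • q ∈ fs o₀ := h
      rwa [Finset.inv_smul_mem_iff] at h'
    obtain ⟨g, hg, hfix, hgq⟩ := fix_base _ hq'
    refine ⟨k * g * k⁻¹, M24.mul_mem (M24.mul_mem hk hg) (M24.inv_mem hk), ?_, ?_⟩
    · intro x hx
      have hx' : k⁻¹ x ∈ fs o₀ := by
        have h' : k⁻¹ • x ∈ fs o₀ := by rwa [Finset.inv_smul_mem_iff]
        exact h'
      rw [Equiv.Perm.mul_apply, Equiv.Perm.mul_apply, hfix _ hx', perm_apply_inv]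
    · rw [Equiv.Perm.mul_apply, Equiv.Perm.mul_apply, perm_inv_apply, hgq,
        perm_apply_inv]

theorem mem_stab_iff (g : Equiv.Perm GolayPt) (o : Finset GolayPt) :
    g ∈ MulAction.stabilizer (Equiv.Perm GolayPt) o ↔ ∀ x, g x ∈ o ↔ x ∈ o := by
  rw [MulAction.mem_stabilizer_iff]
  constructor
  · intro h x
    have h1 : g • x ∈ g • o ↔ x ∈ o := Finset.smul_mem_smul_finset_iff g
    rw [h] at h1
    exact h1
  · intro h
    ext y
    rw [← Finset.inv_smul_mem_iff]
    have h1 := h (g⁻¹ y)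
    rw [perm_apply_inv] at h1
    exact h1.symm

/-- The stabiliser of a set of points in the group of the code. -/
def octStab (o : Finset GolayPt) : Subgroup (Equiv.Perm GolayPt) :=
  M24 ⊓ MulAction.stabilizer (Equiv.Perm GolayPt) o

/-- The action of the stabiliser of `o` on `o`. -/
noncomputable def resHom (o : Finset GolayPt) : octStab o →* Equiv.Perm ↥o :=
  MonoidHom.mk' (fun g => g.1.subtypePerm ((mem_stab_iff g.1 o).mp g.2.2)) (by
    intro a b
    ext x
    rfl)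

theorem resHom_apply (o : Finset GolayPt) (g : octStab o) (x : ↥o) :
    ((resHom o g) x : GolayPt) = g.1 x.1 := rfl

theorem range_resHom (o : Finset GolayPt) :
    {e : Equiv.Perm ↥o | ∃ g : Equiv.Perm GolayPt, g ∈ M24 ∧
      ∃ h : (∀ x, g x ∈ o ↔ x ∈ o), g.subtypePerm h = e} =
      ((resHom o).range : Set (Equiv.Perm ↥o)) := by
  ext e
  constructor
  · rintro ⟨g, hg, h, rfl⟩
    exact ⟨⟨g, hg, (mem_stab_iff g o).mpr h⟩, rfl⟩
  · rintro ⟨g, rfl⟩
    exact ⟨g.1, g.2.1, (mem_stab_iff g.1 o).mp g.2.2, rfl⟩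

theorem mem_ker_resHom (o : Finset GolayPt) (g : octStab o) :
    g ∈ (resHom o).ker ↔ ∀ x ∈ o, g.1 x = x := by
  rw [MonoidHom.mem_ker]
  constructor
  · intro h x hx
    have h1 := resHom_apply o g ⟨x, hx⟩
    rw [h] at h1
    exact h1.symm
  · intro h
    apply Equiv.ext
    intro x
    apply Subtype.ext
    rw [resHom_apply]
    exact h x.1 x.2

theorem orbit_eq_octads (o : Finset GolayPt) (ho : o ∈ octads) :
    MulAction.orbit M24 o = octads := by
  ext s
  constructor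
  · rintro ⟨g, rfl⟩
    exact smul_mem_octads g.2 ho
  · intro hs
    obtain ⟨g, hg, rfl⟩ := octads_transitive s hs
    obtain ⟨k, hk, rfl⟩ := octads_transitive o ho
    refine ⟨⟨g, hg⟩ * ⟨k, hk⟩⁻¹, ?_⟩
    show (⟨g, hg⟩ * ⟨k, hk⟩⁻¹ : M24) • ((⟨k, hk⟩ : M24) • fs o₀) = (⟨g, hg⟩ : M24) • fs o₀
    rw [mul_smul, inv_smul_smul]

theorem card_octStab (o : Finset GolayPt) (ho : o ∈ octads) : Nat.card (octStab o) = 322560 := by
  have h1 : octStab o = (MulAction.stabilizer M24 o).map M24.subtype := by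
    ext g
    rw [Subgroup.mem_map]
    constructor
    · rintro ⟨hg, hs⟩
      exact ⟨⟨g, hg⟩, hs, rfl⟩
    · rintro ⟨x, hx, rfl⟩
      exact ⟨x.2, hx⟩
  rw [h1, Subgroup.card_map_of_injective M24.subtype_injective]
  have h2 := Subgroup.card_mul_index (MulAction.stabilizer M24 o)
  rw [← Cfsg.Agent.Lib.Helper12.ncard_orbit_top, orbit_eq_octads o ho,
    Cfsg.Agent.Lib.helper3.octads_ncard, Cfsg.Agent.Lib.helper3.card_M24] at h2
  omega

theorem card_compl_octad (o : Finset GolayPt) (ho : o ∈ octads) : (oᶜ).card = 16 := by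
  rw [Finset.card_compl, ho.2, Fintype.card_option, ZMod.card]

/-- The kernel of the action of an octad stabiliser on the octad has at least 16 elements. -/
theorem card_ker_ge (o : Finset GolayPt) (ho : o ∈ octads) : 16 ≤ Nat.card (resHom o).ker := by
  obtain ⟨p₀, hp₀, htr⟩ := exists_fixing o ho
  choose! f hf using htr
  have hstab : ∀ q, q ∉ o → f q ∈ octStab o := by
    intro q hq
    obtain ⟨h1, h2, _⟩ := hf q hq
    refine ⟨h1, (mem_stab_iff _ o).mpr fun x => ⟨fun hx => ?_, fun hx => ?_⟩⟩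
    · have := h2 _ hx
      rw [(f q).injective this] at hx
      exact hx
    · rw [h2 x hx]; exact hx
  let F : ↥(oᶜ) → (resHom o).ker := fun q =>
    ⟨⟨f q.1, hstab q.1 (Finset.mem_compl.mp q.2)⟩, by
      rw [mem_ker_resHom]
      exact (hf q.1 (Finset.mem_compl.mp q.2)).2.1⟩
  have hF : Function.Injective F := by
    intro q q' h
    have h1 : f q.1 = f q'.1 := congrArg (fun z : (resHom o).ker => (z.1.1 : Equiv.Perm GolayPt)) h
    have h2 := (hf q.1 (Finset.mem_compl.mp q.2)).2.2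
    have h3 := (hf q'.1 (Finset.mem_compl.mp q'.2)).2.2
    apply Subtype.ext
    rw [← h2, ← h3, h1]
  have hc := Nat.card_le_card_of_injective F hF
  rw [Nat.card_eq_fintype_card, Fintype.card_coe, card_compl_octad o ho] at hc
  exact hc

/-- In a two-element set stable under an injective map, the map squares to the identity. -/
theorem sq_fix_of_card_two {α : Type*} [DecidableEq α] (R : Finset α) (hR : R.card = 2)
    (τ : Equiv.Perm α) (hτ : ∀ x ∈ R, τ x ∈ R) (x : α) (hx : x ∈ R) : τ (τ x) = x := by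
  by_cases h : τ x = x
  · rw [h, h]
  · by_contra h2
    have h3 : τ (τ x) ≠ τ x := fun h' => h (τ.injective h')
    have hsub : ({x, τ x, τ (τ x)} : Finset α) ⊆ R := by
      intro y hy
      rw [Finset.mem_insert, Finset.mem_insert, Finset.mem_singleton] at hy
      rcases hy with rfl | rfl | rfl
      · exact hx
      · exact hτ _ hx
      · exact hτ _ (hτ _ hx)
    have hc : ({x, τ x, τ (τ x)} : Finset α).card = 3 := by
      rw [Finset.card_insert_of_notMem, Finset.card_insert_of_notMem, Finset.card_singleton]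
      · rw [Finset.mem_singleton]; exact fun h' => h3 h'.symm
      · rw [Finset.mem_insert, Finset.mem_singleton]
        rintro (h' | h')
        · exact h h'.symm
        · exact h2 h'.symm
    have := Finset.card_le_card hsub
    omega

/-- A permutation of 8 points acting as a 3-cycle on three points and fixing three more has
fourth power equal to that 3-cycle. -/
theorem pow_four_eq {α : Type*} [Fintype α] [DecidableEq α] (h8 : Fintype.card α = 8)
    (σ τ : Equiv.Perm α) (a b c d e f : α) (hnd : [a, b, c, d, e, f].Nodup)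
    (τa : τ a = b) (τb : τ b = c) (τc : τ c = a) (τd : τ d = d) (τe : τ e = e) (τf : τ f = f)
    (σa : σ a = b) (σb : σ b = c) (σc : σ c = a)
    (hfix : ∀ x, x ≠ a → x ≠ b → x ≠ c → σ x = x) : τ ^ 4 = σ := by
  have hA : ∀ x, x ∈ [a, b, c, d, e, f].toFinset ↔
      x = a ∨ x = b ∨ x = c ∨ x = d ∨ x = e ∨ x = f := by
    intro x
    simp only [List.mem_toFinset, List.mem_cons, List.not_mem_nil, or_false]
  have hAc : ([a, b, c, d, e, f].toFinset).card = 6 := List.toFinset_card_of_nodup hnd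
  have hRc : (([a, b, c, d, e, f].toFinset)ᶜ).card = 2 := by rw [Finset.card_compl, h8, hAc]
  have hτR : ∀ x ∈ ([a, b, c, d, e, f].toFinset)ᶜ, τ x ∈ ([a, b, c, d, e, f].toFinset)ᶜ := by
    intro x hx
    rw [Finset.mem_compl] at hx ⊢
    intro h
    apply hx
    rw [hA] at h ⊢
    rcases h with h | h | h | h | h | h
    · exact Or.inr (Or.inr (Or.inl (τ.injective (h.trans τc.symm))))
    · exact Or.inl (τ.injective (h.trans τa.symm))
    · exact Or.inr (Or.inl (τ.injective (h.trans τb.symm)))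
    · exact Or.inr (Or.inr (Or.inr (Or.inl (τ.injective (h.trans τd.symm)))))
    · exact Or.inr (Or.inr (Or.inr (Or.inr (Or.inl (τ.injective (h.trans τe.symm))))))
    · exact Or.inr (Or.inr (Or.inr (Or.inr (Or.inr (τ.injective (h.trans τf.symm))))))
  have hsq := sq_fix_of_card_two _ hRc τ hτR
  have hd : d ≠ a ∧ d ≠ b ∧ d ≠ c := by
    simp only [List.nodup_cons, List.mem_cons, List.not_mem_nil, or_false, not_or] at hnd
    exact ⟨Ne.symm hnd.1.2.2.1, Ne.symm hnd.2.1.2.1, Ne.symm hnd.2.2.1.1⟩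
  have he : e ≠ a ∧ e ≠ b ∧ e ≠ c := by
    simp only [List.nodup_cons, List.mem_cons, List.not_mem_nil, or_false, not_or] at hnd
    exact ⟨Ne.symm hnd.1.2.2.2.1, Ne.symm hnd.2.1.2.2.1, Ne.symm hnd.2.2.1.2.1⟩
  have hf : f ≠ a ∧ f ≠ b ∧ f ≠ c := by
    simp only [List.nodup_cons, List.mem_cons, List.not_mem_nil, or_false, not_or] at hnd
    exact ⟨Ne.symm hnd.1.2.2.2.2, Ne.symm hnd.2.1.2.2.2, Ne.symm hnd.2.2.1.2.2⟩
  apply Equiv.ext
  intro x
  have h4 : (τ ^ 4) x = τ (τ (τ (τ x))) := by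
    rw [pow_succ, pow_succ, pow_succ, pow_one, Equiv.Perm.mul_apply, Equiv.Perm.mul_apply,
      Equiv.Perm.mul_apply]
  rw [h4]
  by_cases hxA : x ∈ [a, b, c, d, e, f].toFinset
  · rw [hA] at hxA
    rcases hxA with rfl | rfl | rfl | rfl | rfl | rfl
    · rw [τa, τb, τc, τa, σa]
    · rw [τb, τc, τa, τb, σb]
    · rw [τc, τa, τb, τc, σc]
    · rw [τd, τd, τd, τd, hfix _ hd.1 hd.2.1 hd.2.2]
    · rw [τe, τe, τe, τe, hfix _ he.1 he.2.1 he.2.2]
    · rw [τf, τf, τf, τf, hfix _ hf.1 hf.2.1 hf.2.2]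
  · have hx' : x ∈ ([a, b, c, d, e, f].toFinset)ᶜ := Finset.mem_compl.mpr hxA
    rw [hsq x hx', hsq x hx']
    have hn : ¬ (x = a ∨ x = b ∨ x = c ∨ x = d ∨ x = e ∨ x = f) := fun h => hxA ((hA x).mpr h)
    symm
    exact hfix x (fun h => hn (Or.inl h)) (fun h => hn (Or.inr (Or.inl h)))
      (fun h => hn (Or.inr (Or.inr (Or.inl h))))

/-- The shape of a 3-cycle on a type with 8 elements, with three further points chosen. -/
theorem three_cycle_shape {α : Type*} [Fintype α] [DecidableEq α] (h8 : Fintype.card α = 8)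
    (σ : Equiv.Perm α) (hσ : σ.IsThreeCycle) :
    ∃ a d e f : α, [a, σ a, σ (σ a), d, e, f].Nodup ∧ σ (σ (σ a)) = a ∧
      ∀ x, x ≠ a → x ≠ σ a → x ≠ σ (σ a) → σ x = x := by
  obtain ⟨a, ha⟩ : ∃ a, σ a ≠ a := by
    by_contra hcon
    have h1 : σ = 1 := Equiv.ext fun x => by_contra fun hx => hcon ⟨x, hx⟩
    have h2 := hσ.card_support
    rw [h1, Equiv.Perm.support_one, Finset.card_empty] at h2
    omega
  have h3 : σ (σ (σ a)) = a := by
    have h := pow_orderOf_eq_one σ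
    rw [hσ.orderOf] at h
    have h' := DFunLike.congr_fun h a
    rw [pow_succ, pow_succ, pow_one, Equiv.Perm.mul_apply, Equiv.Perm.mul_apply] at h'
    exact h'
  have hab : a ≠ σ a := fun h => ha h.symm
  have hbc : σ a ≠ σ (σ a) := fun h => hab (σ.injective h)
  have hac : a ≠ σ (σ a) := by
    intro h
    rw [← h] at h3
    exact ha h3
  have hsupp : σ.support = {a, σ a, σ (σ a)} := by
    symm
    apply Finset.eq_of_subset_of_card_le
    · intro y hy
      rw [Finset.mem_insert, Finset.mem_insert, Finset.mem_singleton] at hy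
      rw [Equiv.Perm.mem_support]
      rcases hy with rfl | rfl | rfl
      · exact ha
      · exact fun h => hbc h.symm
      · rw [h3]; exact hac
    · rw [hσ.card_support, Finset.card_insert_of_notMem, Finset.card_insert_of_notMem,
        Finset.card_singleton]
      · rw [Finset.mem_singleton]; exact hbc
      · rw [Finset.mem_insert, Finset.mem_singleton]
        rintro (h | h)
        · exact hab h
        · exact hac h
  have hfixσ : ∀ x, x ≠ a → x ≠ σ a → x ≠ σ (σ a) → σ x = x := by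
    intro x h1 h2 h3'
    rw [← Equiv.Perm.notMem_support, hsupp, Finset.mem_insert, Finset.mem_insert,
      Finset.mem_singleton]
    rintro (h | h | h)
    · exact h1 h
    · exact h2 h
    · exact h3' h
  have hc5 : ((Finset.univ : Finset α) \ {a, σ a, σ (σ a)}).card = 5 := by
    rw [Finset.card_sdiff_of_subset (Finset.subset_univ _), Finset.card_univ, h8, ← hsupp,
      hσ.card_support]
  obtain ⟨t, ht, htc⟩ := Finset.exists_subset_card_eq
    (s := (Finset.univ : Finset α) \ {a, σ a, σ (σ a)}) (n := 3) (by rw [hc5]; norm_num)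
  obtain ⟨d, e, f, hde, hdf, hef, rfl⟩ := Finset.card_eq_three.mp htc
  have hmem : ∀ x ∈ ({d, e, f} : Finset α), a ≠ x ∧ σ a ≠ x ∧ σ (σ a) ≠ x := by
    intro x hx
    have := ht hx
    rw [Finset.mem_sdiff, Finset.mem_insert, Finset.mem_insert, Finset.mem_singleton] at this
    exact ⟨fun h => this.2 (Or.inl h.symm), fun h => this.2 (Or.inr (Or.inl h.symm)),
      fun h => this.2 (Or.inr (Or.inr h.symm))⟩
  obtain ⟨hda, hdb, hdc⟩ := hmem d (by simp)
  obtain ⟨hea, heb, hec⟩ := hmem e (by simp)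
  obtain ⟨hfa, hfb, hfc⟩ := hmem f (by simp)
  refine ⟨a, d, e, f, ?_, h3, hfixσ⟩
  simp only [List.nodup_cons, List.mem_cons, List.not_mem_nil, or_false, not_or, List.nodup_nil,
    not_false_eq_true, and_true]
  exact ⟨⟨hab, hac, hda, hea, hfa⟩, ⟨hbc, hdb, heb, hfb⟩, ⟨hdc, hec, hfc⟩, ⟨hde, hdf⟩, hef⟩

/-- Every 3-cycle on an octad is induced by an element of the group. -/
theorem three_cycle_mem (o : Finset GolayPt) (ho : o ∈ octads) (σ : Equiv.Perm ↥o)
    (hσ : σ.IsThreeCycle) : σ ∈ (resHom o).range := by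
  classical
  have hcard8 : Fintype.card ↥o = 8 := by rw [Fintype.card_coe]; exact ho.2
  obtain ⟨a, d, e, f, hnd, h3, hfix⟩ := three_cycle_shape hcard8 σ hσ
  have hnd' := hnd
  simp only [List.nodup_cons, List.mem_cons, List.not_mem_nil, or_false, not_or, List.nodup_nil,
    not_false_eq_true, and_true] at hnd'
  obtain ⟨⟨hab, hac, hda, hea, hfa⟩, ⟨hbc, hdb, heb, hfb⟩, ⟨hdc, hec, hfc⟩, ⟨hde, hdf⟩, hef⟩ := hnd'
  have ne : ∀ {x y : ↥o}, x ≠ y → (x : GolayPt) ≠ y := fun h h' => h (Subtype.ext h')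
  obtain ⟨k1, hk1⟩ := flag6_in o ho a (σ a) (σ (σ a)) d e f a.2 (σ a).2 (σ (σ a)).2 d.2 e.2 f.2
    (ne hab) (ne hac) (ne hbc) (ne hda) (ne hdb) (ne hdc) (ne hea) (ne heb) (ne hec) (ne hde)
    (ne hfa) (ne hfb) (ne hfc) (ne hdf) (ne hef)
  obtain ⟨k2, hk2⟩ := flag6_in o ho (σ a) (σ (σ a)) a d e f (σ a).2 (σ (σ a)).2 a.2 d.2 e.2 f.2
    (ne hbc) (ne (Ne.symm hab)) (ne (Ne.symm hac)) (ne hdb) (ne hdc) (ne hda) (ne heb) (ne hec)
    (ne hea) (ne hde) (ne hfb) (ne hfc) (ne hfa) (ne hdf) (ne hef)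
  have hk : (k2 * k1⁻¹) • (((((((o, (a : GolayPt)), ((σ a : ↥o) : GolayPt)),
      ((σ (σ a) : ↥o) : GolayPt)), (d : GolayPt)), (e : GolayPt)), (f : GolayPt)) : Flag6) =
      (((((((o, ((σ a : ↥o) : GolayPt)), ((σ (σ a) : ↥o) : GolayPt)), (a : GolayPt)),
        (d : GolayPt)), (e : GolayPt)), (f : GolayPt)) : Flag6) := by
    rw [mul_smul, ← hk1, inv_smul_smul, hk2]
  generalize k2 * k1⁻¹ = κ at hk
  simp only [Prod.smul_mk, Prod.mk.injEq] at hk
  obtain ⟨⟨⟨⟨⟨⟨ho', ha'⟩, hb'⟩, hc'⟩, hd'⟩, he'⟩, hf'⟩ := hk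
  refine ⟨(⟨κ.1, κ.2, ho'⟩ : octStab o) ^ 4, ?_⟩
  rw [map_pow]
  exact pow_four_eq hcard8 σ (resHom o ⟨κ.1, κ.2, ho'⟩) a (σ a) (σ (σ a)) d e f hnd
    (Subtype.ext ha') (Subtype.ext hb') (Subtype.ext hc') (Subtype.ext hd') (Subtype.ext he')
    (Subtype.ext hf') rfl rfl h3 hfix

/-- The stabiliser of an octad induces on it exactly the alternating group. -/
theorem range_resHom_eq (o : Finset GolayPt) (ho : o ∈ octads) :
    (resHom o).range = alternatingGroup ↥o := by
  classical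
  have hcard8 : Fintype.card ↥o = 8 := by rw [Fintype.card_coe]; exact ho.2
  have hle : alternatingGroup ↥o ≤ (resHom o).range := by
    rw [← Equiv.Perm.closure_three_cycles_eq_alternating, Subgroup.closure_le]
    intro σ hσ
    exact three_cycle_mem o ho σ hσ
  symm
  apply Subgroup.eq_of_le_of_card_ge hle
  have h1 := Subgroup.card_mul_index (resHom o).ker
  rw [Subgroup.index_ker, card_octStab o ho] at h1
  have h2 := card_ker_ge o ho
  have hnt : Nontrivial ↥o := by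
    rw [← Fintype.one_lt_card_iff_nontrivial, hcard8]; norm_num
  have h3 := two_mul_nat_card_alternatingGroup (α := ↥o)
  rw [Nat.card_perm, Nat.card_eq_fintype_card (α := ↥o), hcard8] at h3
  have h4 : (8 : ℕ).factorial = 40320 := by decide
  rw [h4] at h3
  nlinarith

theorem card_ker_resHom (o : Finset GolayPt) (ho : o ∈ octads) :
    Nat.card (resHom o).ker = 16 := by
  classical
  have hcard8 : Fintype.card ↥o = 8 := by rw [Fintype.card_coe]; exact ho.2
  have h1 := Subgroup.card_mul_index (resHom o).ker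
  rw [Subgroup.index_ker, card_octStab o ho, range_resHom_eq o ho] at h1
  have hnt : Nontrivial ↥o := by
    rw [← Fintype.one_lt_card_iff_nontrivial, hcard8]; norm_num
  have h3 := two_mul_nat_card_alternatingGroup (α := ↥o)
  rw [Nat.card_perm, Nat.card_eq_fintype_card (α := ↥o), hcard8] at h3
  have h4 : (8 : ℕ).factorial = 40320 := by decide
  rw [h4] at h3
  have hN : Nat.card (alternatingGroup ↥o) = 20160 := by omega
  rw [hN] at h1
  omega

end Cfsg.Agent.Lib.Helper12.Golay
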