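import Mathlib
import Cfsg.Prelude.Def_Sporadic_a
import Cfsg.Prelude.Def_SporadicCombinatorics
import Cfsg.Agent.Lib.Helper12.Golay.Hexads
import Cfsg.Agent.Lib.Helper12.Golay.DFlags

set_option autoImplicit false

namespace Cfsg.Agent.Lib.Helper12.Golay

open Cfsg
open scoped Pointwise

/-! ### The search for the quartets of the standard dodecad -/

/-- The points of the standard dodecad. -/
def P12 : List ℕ := [0, 1, 2, 3, 4, 6, 8, 9, 12, 13, 16, 18]

/-- The bitmask of a single point. -/
def bitK (i : ℕ) : ℕ := Nat.shiftLeft 1 i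

/-- The triples uniting with `a` to a member of the list `L` of bitmasks. -/
def nbOf (a : ℕ) (L : List ℕ) : List ℕ :=
  @List.rec ℕ (fun _ => List ℕ) []
    (fun h _ ih => cond (Nat.beq (Nat.land a h) a) (Nat.xor h a :: ih) ih) L

/-- The triples uniting with `a` to a hexad of the standard dodecad. -/
def nbK (a : ℕ) : List ℕ := nbOf a hexL

theorem mem_nbOf {a h : ℕ} {L : List ℕ} (hh : h ∈ L) (ha : Nat.land a h = a) :
    Nat.xor h a ∈ nbOf a L := by
  induction L with
  | nil => exact absurd hh List.not_mem_nil
  | cons b L ih =>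
    show Nat.xor h a ∈ cond (Nat.beq (Nat.land a b) a) (Nat.xor b a :: nbOf a L) (nbOf a L)
    rcases List.mem_cons.mp hh with rfl | hh'
    · rw [natBeq_iff.mpr ha]
      exact List.mem_cons_self ..
    · cases Nat.beq (Nat.land a b) a with
      | true => exact List.mem_cons_of_mem _ (ih hh')
      | false => exact ih hh'

theorem land_lor_self (a w : ℕ) : Nat.land a (Nat.lor a w) = a := by
  apply Nat.eq_of_testBit_eq
  intro i
  show (a &&& (a ||| w)).testBit i = a.testBit i
  rw [Nat.testBit_and, Nat.testBit_or]
  cases a.testBit i <;> cases w.testBit i <;> rfl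

theorem xor_lor_of_land_eq_zero {a w : ℕ} (h : Nat.land a w = 0) :
    Nat.xor (Nat.lor a w) a = w := by
  apply Nat.eq_of_testBit_eq
  intro i
  have h0 : (a &&& w).testBit i = false := by
    have : a &&& w = 0 := h
    rw [this, Nat.zero_testBit]
  rw [Nat.testBit_and] at h0
  show ((a ||| w) ^^^ a).testBit i = w.testBit i
  rw [Nat.testBit_xor, Nat.testBit_or]
  revert h0
  cases a.testBit i <;> cases w.testBit i <;> intro h0 <;> first | rfl | exact Bool.noConfusion h0

/-- The test applied to a pair of triples whose union is a hexad. -/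
def pairOK (a b : ℕ) : Bool :=
  match interK (nbK a) (nbK b) with
  | [c, e] => memLL (List.insertionSort (· ≤ ·) [a, b, c, e]) lqLit
  | _ => false

theorem pairOK_spec {a b : ℕ} (h : pairOK a b = true) : ∃ c e, interK (nbK a) (nbK b) = [c, e] ∧
    List.insertionSort (· ≤ ·) [a, b, c, e] ∈ lqLit := by
  unfold pairOK at h
  split at h
  · rename_i c e hce
    exact ⟨c, e, hce, memLL_iff.mp h⟩
  · exact Bool.noConfusion h

/-- The test applied to a triple. -/
def tripOK (a : ℕ) : Bool := allR (nbK a) (fun b => cond (Nat.blt a b) (pairOK a b) true)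

theorem searchOK : allR P12 (fun i => allR P12 (fun j => cond (Nat.blt i j) (allR P12 (fun k =>
    cond (Nat.blt j k) (tripOK (Nat.lor (bitK i) (Nat.lor (bitK j) (bitK k)))) true)) true)) = true := by
  decide +kernel

end Cfsg.Agent.Lib.Helper12.Golay
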