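import Mathlib
import Cfsg.Prelude.Def_Sporadic_a
import Cfsg.Agent.Lib.Helper12.Golay.Classes

set_option autoImplicit false

namespace Cfsg.Agent.Lib.Helper12.Golay

open Cfsg
open scoped Pointwise

/-! ### Counting subsets of given size of the 24 points by a computation on bitmasks -/

/-- The points with index below `n`. -/
def firstPts (n : ℕ) : Finset GolayPt := (Finset.range n).image pt

theorem mem_firstPts {n : ℕ} {p : GolayPt} (hn : n ≤ 24) : p ∈ firstPts n ↔ idx p < n := by
  rw [firstPts, Finset.mem_image]
  constructor
  · rintro ⟨i, hi, rfl⟩
    rw [Finset.mem_range] at hi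
    rw [idx_pt (lt_of_lt_of_le hi hn)]
    exact hi
  · intro h
    exact ⟨idx p, Finset.mem_range.mpr h, pt_idx p⟩

theorem firstPts_succ {n : ℕ} (hn : n < 24) : firstPts (n + 1) = insert (pt n) (firstPts n) := by
  ext p
  rw [Finset.mem_insert, mem_firstPts (Nat.succ_le_of_lt hn), mem_firstPts (le_of_lt hn)]
  constructor
  · intro h
    rcases Nat.lt_succ_iff_lt_or_eq.mp h with h1 | h1
    · exact Or.inr h1
    · left; rw [← h1, pt_idx]
  · rintro (rfl | h)
    · rw [idx_pt hn]; exact Nat.lt_succ_self n
    · exact Nat.lt_succ_of_lt h

theorem pt_notMem_firstPts {n : ℕ} (hn : n < 24) : pt n ∉ firstPts n := by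
  rw [mem_firstPts (le_of_lt hn), idx_pt hn]
  exact lt_irrefl n

theorem firstPts_univ : firstPts 24 = Finset.univ := by
  ext p
  rw [mem_firstPts le_rfl]
  simp only [Finset.mem_univ, iff_true]
  exact idx_lt p

theorem mask_singleton {n : ℕ} (hn : n < 24) : mask ({pt n} : Finset GolayPt) = Nat.shiftLeft 1 n := by
  have hlt : Nat.shiftLeft 1 n < 2 ^ 24 := by
    have h2 : Nat.shiftLeft 1 n = 2 ^ n := Nat.one_shiftLeft n
    rw [h2]; exact Nat.pow_lt_pow_right (by norm_num) hn
  rw [← fs_two_pow hn, mask_fs hlt]

theorem mask_insert {n : ℕ} (hn : n < 24) (A : Finset GolayPt) :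
    mask (insert (pt n) A) = Nat.lor (mask A) (Nat.shiftLeft 1 n) := by
  rw [Finset.insert_eq, mask_union, mask_singleton hn]
  exact Nat.lor_comm _ _

/-- The number of `k`-subsets `y` of the first `n` points such that `acc ∪ y` satisfies the
condition `C'` (on bitmasks). -/
def cntSub (C' : ℕ → Bool) : ℕ → ℕ → ℕ → ℕ
  | _, 0, acc => cond (C' acc) 1 0
  | 0, _ + 1, _ => 0
  | n + 1, k + 1, acc =>
    Nat.add (cntSub C' n (k + 1) acc) (cntSub C' n k (Nat.lor acc (Nat.shiftLeft 1 n)))

theorem cntSub_spec (C' : ℕ → Bool) (n : ℕ) (hn : n ≤ 24) (k : ℕ) (A : Finset GolayPt)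
    (hA : Disjoint A (firstPts n)) :
    cntSub C' n k (mask A) =
      ((Finset.powersetCard k (firstPts n)).filter fun y => C' (mask (A ∪ y)) = true).card := by
  induction n generalizing k A with
  | zero =>
    cases k with
    | zero =>
      rw [cntSub, Finset.powersetCard_zero, Finset.filter_singleton, Finset.union_empty]
      cases C' (mask A) <;> simp
    | succ k =>
      rw [cntSub]
      have : Finset.powersetCard (k + 1) (firstPts 0) = ∅ := by
        apply Finset.powersetCard_eq_empty.mpr
        simp [firstPts]
      rw [this, Finset.filter_empty, Finset.card_empty]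
  | succ n ih =>
    have hn' : n < 24 := hn
    cases k with
    | zero =>
      rw [cntSub, Finset.powersetCard_zero, Finset.filter_singleton, Finset.union_empty]
      cases C' (mask A) <;> simp
    | succ k =>
      have hnot := pt_notMem_firstPts hn'
      rw [cntSub, firstPts_succ hn', Finset.powersetCard_succ_insert hnot, Finset.filter_union,
        Finset.card_union_of_disjoint]
      · have hA1 : Disjoint A (firstPts n) := by
          rw [firstPts_succ hn'] at hA
          exact Finset.disjoint_of_subset_right (Finset.subset_insert _ _) hA
        have hptA : pt n ∉ A := by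
          rw [firstPts_succ hn'] at hA
          exact fun h => Finset.disjoint_left.mp hA h (Finset.mem_insert_self _ _)
        have hA2 : Disjoint (insert (pt n) A) (firstPts n) := by
          rw [Finset.disjoint_insert_left]
          exact ⟨hnot, hA1⟩
        have e1 := ih (le_of_lt hn') (k + 1) A hA1
        have e2 := ih (le_of_lt hn') k (insert (pt n) A) hA2
        rw [mask_insert hn'] at e2
        have e3 : ((Finset.image (insert (pt n)) (Finset.powersetCard k (firstPts n))).filter
            fun y => C' (mask (A ∪ y)) = true).card =
            ((Finset.powersetCard k (firstPts n)).filter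
              fun y => C' (mask (insert (pt n) A ∪ y)) = true).card := by
          rw [Finset.filter_image, Finset.card_image_of_injOn]
          · apply congrArg
            apply Finset.filter_congr
            intro y _
            rw [Finset.insert_union, Finset.union_insert]
          · intro y hy y' hy' hyy'
            have hy1 : pt n ∉ y := by
              intro h
              have := (Finset.mem_powersetCard.mp (Finset.mem_of_mem_filter _ hy)).1 h
              exact hnot this
            have hy1' : pt n ∉ y' := by
              intro h
              have := (Finset.mem_powersetCard.mp (Finset.mem_of_mem_filter _ hy')).1 h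
              exact hnot this
            have := congrArg (fun s => s.erase (pt n)) hyy'
            simp only [Finset.erase_insert hy1, Finset.erase_insert hy1'] at this
            exact this
        rw [Nat.add_eq, e1, e2, e3]
      · rw [Finset.disjoint_left]
        intro y hy hy'
        have h1 := (Finset.mem_powersetCard.mp (Finset.mem_of_mem_filter _ hy)).1
        obtain ⟨z, _, rfl⟩ := Finset.mem_image.mp (Finset.mem_of_mem_filter _ hy')
        exact hnot (h1 (Finset.mem_insert_self _ _))

/-- Counting the `k`-subsets of the 24 points satisfying a condition testable on bitmasks. -/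
theorem ncard_card_eq (k : ℕ) (C : Finset GolayPt → Prop) (C' : ℕ → Bool)
    (h : ∀ y : Finset GolayPt, C y ↔ C' (mask y) = true) :
    {y : Finset GolayPt | y.card = k ∧ C y}.ncard = cntSub C' 24 k 0 := by
  classical
  have h0 : mask (∅ : Finset GolayPt) = 0 := by
    rw [← fs_zero, mask_fs (by norm_num)]
  have := cntSub_spec C' 24 le_rfl k ∅ (Finset.disjoint_empty_left _)
  rw [h0] at this
  rw [this, ← Set.ncard_coe_finset]
  congr 1
  ext y
  simp only [Set.mem_ofPred_eq, Finset.coe_filter, Finset.mem_powersetCard, firstPts_univ,
    Finset.subset_univ, true_and, Finset.empty_union]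
  rw [h y]

end Cfsg.Agent.Lib.Helper12.Golay
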