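import Mathlib
import Cfsg.Prelude.Def_Sporadic_a
import Cfsg.Prelude.Def_SporadicCombinatorics
import Cfsg.Agent.Lib.Helper12.Golay.QuartetSearch
import Cfsg.Agent.Lib.Helper12.Golay.Subsets

set_option autoImplicit false

namespace Cfsg.Agent.Lib.Helper12.Golay

open Cfsg
open scoped Pointwise

/-! ### Completeness of the list of quartets of the standard dodecad -/

theorem sorted3_exists (p q r : ℕ) (hpq : p ≠ q) (hpr : p ≠ r) (hqr : q ≠ r) :
    ∃ i j k : ℕ, i < j ∧ j < k ∧ ({i, j, k} : Finset ℕ) = {p, q, r} := by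
  rcases lt_or_gt_of_ne hpq with h1 | h1 <;> rcases lt_or_gt_of_ne hpr with h2 | h2 <;>
    rcases lt_or_gt_of_ne hqr with h3 | h3
  · exact ⟨p, q, r, h1, h3, rfl⟩
  · exact ⟨p, r, q, h2, h3, by ext x; simp only [Finset.mem_insert, Finset.mem_singleton]; tauto⟩
  · omega
  · exact ⟨r, p, q, h2, h1, by ext x; simp only [Finset.mem_insert, Finset.mem_singleton]; tauto⟩
  · exact ⟨q, p, r, h1, h2, by ext x; simp only [Finset.mem_insert, Finset.mem_singleton]; tauto⟩
  · omega
  · exact ⟨q, r, p, h3, h2, by ext x; simp only [Finset.mem_insert, Finset.mem_singleton]; tauto⟩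
  · exact ⟨r, q, p, h3, h1, by ext x; simp only [Finset.mem_insert, Finset.mem_singleton]; tauto⟩

theorem idx_mem_P12 : ∀ i : Fin 24, tb d₀ i = true → (i : ℕ) ∈ P12 := by decide

theorem P12_lt : ∀ i ∈ P12, i < 24 := by decide

/-- The bitmask of a triple of points of the standard dodecad. -/
theorem triple_mask (t : Finset GolayPt) (h3 : t.card = 3) (hs : t ⊆ fs d₀) :
    ∃ i ∈ P12, ∃ j ∈ P12, ∃ k ∈ P12, i < j ∧ j < k ∧
      mask t = Nat.lor (bitK i) (Nat.lor (bitK j) (bitK k)) := by
  obtain ⟨x, y, z, hxy, hxz, hyz, rfl⟩ := Finset.card_eq_three.mp h3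
  have mem : ∀ w ∈ ({x, y, z} : Finset GolayPt), idx w ∈ P12 := by
    intro w hw
    have := mem_fs_iff_tb.mp (hs hw)
    exact idx_mem_P12 ⟨idx w, idx_lt w⟩ this
  have ne1 : idx x ≠ idx y := fun h => hxy (idx_injective h)
  have ne2 : idx x ≠ idx z := fun h => hxz (idx_injective h)
  have ne3 : idx y ≠ idx z := fun h => hyz (idx_injective h)
  obtain ⟨i, j, k, hij, hjk, hset⟩ := sorted3_exists _ _ _ ne1 ne2 ne3
  have himg : ({x, y, z} : Finset GolayPt) = {pt i, pt j, pt k} := by
    have e1 : ({x, y, z} : Finset GolayPt) = ({idx x, idx y, idx z} : Finset ℕ).image pt := by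
      rw [Finset.image_insert, Finset.image_insert, Finset.image_singleton, pt_idx, pt_idx, pt_idx]
    rw [e1, ← hset, Finset.image_insert, Finset.image_insert, Finset.image_singleton]
  have hmemP : ∀ n ∈ ({i, j, k} : Finset ℕ), n ∈ P12 := by
    intro n hn
    rw [hset, Finset.mem_insert, Finset.mem_insert, Finset.mem_singleton] at hn
    rcases hn with rfl | rfl | rfl
    · exact mem x (by simp)
    · exact mem y (by simp)
    · exact mem z (by simp)
  have hi : i ∈ P12 := hmemP i (by simp)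
  have hj : j ∈ P12 := hmemP j (by simp)
  have hk : k ∈ P12 := hmemP k (by simp)
  refine ⟨i, hi, j, hj, k, hk, hij, hjk, ?_⟩
  rw [himg, mask_insert (P12_lt i hi), mask_insert (P12_lt j hj), mask_singleton (P12_lt k hk)]
  show (bitK k ||| bitK j) ||| bitK i = bitK i ||| (bitK j ||| bitK k)
  rw [Nat.lor_comm (bitK k ||| bitK j) (bitK i), Nat.lor_comm (bitK k) (bitK j)]

theorem tripOK_mask (t : Finset GolayPt) (h3 : t.card = 3) (hs : t ⊆ fs d₀) :
    tripOK (mask t) = true := by
  obtain ⟨i, hi, j, hj, k, hk, hij, hjk, e⟩ := triple_mask t h3 hs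
  have c1 := allR_spec searchOK i hi
  have c2 := allR_spec c1 j hj
  have b1 : Nat.blt i j = true := Nat.ble_eq_true_of_le hij
  rw [b1, cond_true] at c2
  have c3 := allR_spec c2 k hk
  have b2 : Nat.blt j k = true := Nat.ble_eq_true_of_le hjk
  rw [b2, cond_true] at c3
  rw [e]
  exact c3

/-- The data of the unique quartet through two triples. -/
theorem pair_data (t : Finset GolayPt) (h3 : t.card = 3) (hs : t ⊆ fs d₀) (b : ℕ)
    (hb : b ∈ nbK (mask t)) (hlt : mask t < b) :
    ∃ c e, interK (nbK (mask t)) (nbK b) = [c, e] ∧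
      List.insertionSort (· ≤ ·) [mask t, b, c, e] ∈ lqLit := by
  have c1 := allR_spec (tripOK_mask t h3 hs) b hb
  have b1 : Nat.blt (mask t) b = true := Nat.ble_eq_true_of_le hlt
  rw [b1, cond_true] at c1
  exact pairOK_spec c1

theorem quartet_members {Q : Finset (Finset GolayPt)} (hQ : Q ∈ quartets (fs d₀))
    {t : Finset GolayPt} (ht : t ∈ Q) : t.card = 3 ∧ t ⊆ fs d₀ := hQ.2.1 t ht

/-- Two disjoint triples uniting to a hexad are neighbours. -/
theorem nb_of_hexad {t v : Finset GolayPt} (hh : t ∪ v ∈ hexadsOn (fs d₀))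
    (hdis : t ∩ v = ∅) : mask v ∈ nbK (mask t) := by
  have hm := (mem_hexadsOn_iff _).mp hh
  rw [mask_union] at hm
  have hz : Nat.land (mask t) (mask v) = 0 := by
    have := mask_inter t v
    rw [hdis] at this
    have h0 : mask (∅ : Finset GolayPt) = 0 := by
      rw [← fs_zero]; exact mask_fs (by norm_num)
    rw [h0] at this
    exact this.symm
  have key := mem_nbOf (a := mask t) hm (land_lor_self _ _)
  have e : Nat.xor (Nat.lor (mask t) (mask v)) (mask t) = mask v := xor_lor_of_land_eq_zero hz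
  have key' : Nat.xor (mask t ||| mask v) (mask t) ∈ nbOf (mask t) hexL := key
  rw [show Nat.xor (mask t ||| mask v) (mask t) = mask v from e] at key'
  exact key'

/-- Two distinct members of a quartet are neighbours. -/
theorem nb_of_quartet {Q : Finset (Finset GolayPt)} (hQ : Q ∈ quartets (fs d₀))
    {t v : Finset GolayPt} (ht : t ∈ Q) (hv : v ∈ Q) (hne : t ≠ v) : mask v ∈ nbK (mask t) := by
  have hh := hQ.2.2 t ht v hv hne
  have h6 : (t ∪ v).card = 6 := hh.1
  have ct := (quartet_members hQ ht).1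
  have cv := (quartet_members hQ hv).1
  have hdis : t ∩ v = ∅ := by
    have := Finset.card_union_add_card_inter t v
    rw [h6, ct, cv] at this
    exact Finset.card_eq_zero.mp (by omega)
  exact nb_of_hexad hh hdis

theorem mem_sort4 {a b c e m : ℕ} :
    m ∈ List.insertionSort (· ≤ ·) [a, b, c, e] ↔ m = a ∨ m = b ∨ m = c ∨ m = e := by
  rw [(List.perm_insertionSort _ _).mem_iff]
  simp only [List.mem_cons, List.not_mem_nil, or_false]

/-- A quartet is determined by two of its members. -/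
theorem quartet_eq {Q : Finset (Finset GolayPt)} (hQ : Q ∈ quartets (fs d₀))
    {t u : Finset GolayPt} (ht : t ∈ Q) (hu : u ∈ Q) {c e : ℕ}
    (hint : interK (nbK (mask t)) (nbK (mask u)) = [c, e]) :
    Q = DL (List.insertionSort (· ≤ ·) [mask t, mask u, c, e]) := by
  apply Finset.eq_of_subset_of_card_le
  · intro v hv
    rw [mem_DL]
    by_cases h1 : v = t
    · exact ⟨mask t, mem_sort4.mpr (Or.inl rfl), by rw [fs_mask, h1]⟩
    by_cases h2 : v = u
    · exact ⟨mask u, mem_sort4.mpr (Or.inr (Or.inl rfl)), by rw [fs_mask, h2]⟩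
    have m1 := nb_of_quartet hQ ht hv (Ne.symm h1)
    have m2 := nb_of_quartet hQ hu hv (Ne.symm h2)
    have m3 : mask v ∈ interK (nbK (mask t)) (nbK (mask u)) := mem_interK.mpr ⟨m1, m2⟩
    rw [hint, List.mem_cons, List.mem_singleton] at m3
    rcases m3 with m3 | m3
    · exact ⟨c, mem_sort4.mpr (Or.inr (Or.inr (Or.inl rfl))), by rw [← m3, fs_mask]⟩
    · exact ⟨e, mem_sort4.mpr (Or.inr (Or.inr (Or.inr rfl))), by rw [← m3, fs_mask]⟩
  · have h4 : Q.card = 4 := hQ.1
    rw [h4]
    refine (card_DL_le _).trans ?_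
    rw [List.length_insertionSort]
    rfl

/-- Every quartet of the standard dodecad occurs in the list. -/
theorem quartets_complete (Q : Finset (Finset GolayPt)) (hQ : Q ∈ quartets (fs d₀)) :
    ∃ l ∈ lqLit, DL l = Q := by
  have h4 : Q.card = 4 := hQ.1
  obtain ⟨t, ht, u, hu, hne⟩ := Finset.one_lt_card.mp (by rw [h4]; norm_num)
  have hmne : mask t ≠ mask u := fun h => hne (mask_injective h)
  have main : ∀ t u : Finset GolayPt, t ∈ Q → u ∈ Q → t ≠ u → mask t < mask u →
      ∃ l ∈ lqLit, DL l = Q := by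
    intro t u ht hu hne hlt
    obtain ⟨h3, hs⟩ := quartet_members hQ ht
    obtain ⟨c, e, hint, hmem⟩ := pair_data t h3 hs (mask u) (nb_of_quartet hQ ht hu hne) hlt
    exact ⟨_, hmem, (quartet_eq hQ ht hu hint).symm⟩
  rcases lt_or_gt_of_ne hmne with hlt | hlt
  · exact main t u ht hu hne hlt
  · exact main u t hu ht (Ne.symm hne) hlt

end Cfsg.Agent.Lib.Helper12.Golay
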