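import Mathlib
import Cfsg.Prelude.Def_Sporadic_a
import Cfsg.Prelude.Def_SporadicCombinatorics
import Cfsg.Agent.Lib.Helper12.Golay.QuartetBase

set_option autoImplicit false

namespace Cfsg.Agent.Lib.Helper12.Golay

open Cfsg
open scoped Pointwise

/-! ### The orbits of a quartet stabiliser on the quartets of the standard dodecad -/

/-- Boolean test that a (strictly increasing) list of bitmasks describes a quartet of the
standard dodecad. -/
def quartK (l : List ℕ) : Bool :=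
  Nat.beq l.length 4 && (allR l (fun x => Nat.beq (popcF x) 3 && Nat.beq (Nat.land x d₀) x) &&
    allR l (fun x => allR l (fun y => cond (Nat.beq x y) true (memK (Nat.lor x y) hexL))))

theorem quartK_spec {l : List ℕ} (hc : CanonL l) (h : quartK l = true) :
    DL l ∈ quartets (fs d₀) := by
  rw [quartK, Bool.and_eq_true, Bool.and_eq_true, natBeq_iff] at h
  obtain ⟨h1, h2, h3⟩ := h
  refine ⟨by rw [card_DL hc, h1], ?_, ?_⟩
  · intro t ht
    obtain ⟨m, hm, rfl⟩ := mem_DL.mp ht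
    have c := allR_spec h2 m hm
    rw [Bool.and_eq_true, natBeq_iff, natBeq_iff] at c
    obtain ⟨c1, c2⟩ := c
    refine ⟨by rw [card_fs, ← popcF_eq (hc.2 m hm), c1], ?_⟩
    have e : fs m = fs m ∩ fs d₀ := by
      rw [← fs_and]
      exact congrArg fs c2.symm
    rw [e]
    exact Finset.inter_subset_right
  · intro t ht u hu hne
    obtain ⟨x, hx, rfl⟩ := mem_DL.mp ht
    obtain ⟨y, hy, rfl⟩ := mem_DL.mp hu
    have hxy : x ≠ y := fun e => hne (by rw [e])
    have c := allR_spec (allR_spec h3 x hx) y hy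
    have hb : Nat.beq x y = false := by
      cases hb : Nat.beq x y with
      | true => exact absurd (natBeq_iff.mp hb) hxy
      | false => rfl
    rw [hb, cond_false] at c
    rw [mem_hexadsOn_iff, ← fs_or, mask_fs (Nat.or_lt_two_pow (hc.2 x hx) (hc.2 y hy))]
    exact memK_iff.mp c

/-- The standard quartet. -/
def Q₀ : Finset (Finset GolayPt) := DL q₀

/-- The stabiliser of the standard quartet in the stabiliser of the standard dodecad. -/
def stabQ : Subgroup (Equiv.Perm GolayPt) :=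
  stabD ⊓ MulAction.stabilizer (Equiv.Perm GolayPt) Q₀

theorem canon_reps : CanonL q₀ ∧ CanonL xQ1 ∧ CanonL xQ2 ∧ CanonL xQ3 ∧ CanonL xQ4 := by
  refine ⟨⟨?_, ?_⟩, ⟨?_, ?_⟩, ⟨?_, ?_⟩, ⟨?_, ?_⟩, ⟨?_, ?_⟩⟩ <;> decide

theorem quart_reps : quartK q₀ = true ∧ quartK xQ1 = true ∧ quartK xQ2 = true ∧
    quartK xQ3 = true ∧ quartK xQ4 = true := by decide +kernel

theorem Q₀_mem : Q₀ ∈ quartets (fs d₀) := quartK_spec canon_reps.1 quart_reps.1

theorem stabQGens_ok : ∀ T ∈ stabQGens, ValidT T ∧ permT T ∈ stabQ := by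
  have h : ∀ T ∈ stabQGens, okK T = true ∧ actK T d₀ = d₀ ∧ actLs T q₀ = q₀ := by decide +kernel
  intro T hT
  obtain ⟨h1, h2, h3⟩ := h T hT
  have hv := okK_valid h1
  refine ⟨hv, ⟨permT_mem_M24' h1, permT_mem_stabilizer_fs hv (by decide) h2⟩, ?_⟩
  show permT T • Q₀ = Q₀
  rw [Q₀, ← DL_actLs hv canon_reps.1.2, h3]

theorem repTabsQ_ok : ∀ i : Fin 4, okK (repTabsQ.getD i []) = true ∧
    actK (repTabsQ.getD i []) d₀ = d₀ ∧
    actLs (repTabsQ.getD i []) q₀ = [xQ1, xQ2, xQ3, xQ4].getD i [] := by decide +kernel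

/-- The four orbit lists. -/
def LQ1 : List (List ℕ) := orbLs stabQGens insQ1 xQ1
/-- See `LQ1`. -/
def LQ2 : List (List ℕ) := orbLs stabQGens insQ2 xQ2
/-- See `LQ1`. -/
def LQ3 : List (List ℕ) := orbLs stabQGens insQ3 xQ3
/-- See `LQ1`. -/
def LQ4 : List (List ℕ) := orbLs stabQGens insQ4 xQ4

/-- All the lists found. -/
def LQall : List (List ℕ) := q₀ :: (LQ1 ++ (LQ2 ++ (LQ3 ++ LQ4)))

/-- A key of a list: its first two members. -/
def keyQ (l : List ℕ) : ℕ :=
  match l with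
  | a :: b :: _ => Nat.add (Nat.mul a 16777216) b
  | _ => 0

theorem listsQ_ok : LQall = lqLit ∧ nodupR (lqLit.map keyQ) = true ∧ LQ1.length = 12 ∧
    LQ2.length = 27 ∧ LQ3.length = 72 ∧ LQ4.length = 108 := by decide +kernel

end Cfsg.Agent.Lib.Helper12.Golay
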