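import Mathlib
import Cfsg.Prelude.Def_Sporadic_a
import Cfsg.Prelude.Def_SporadicCombinatorics
import Cfsg.Agent.Lib.Helper12.Golay.QuartetOrbits

set_option autoImplicit false

namespace Cfsg.Agent.Lib.Helper12.Golay

open Cfsg
open scoped Pointwise

/-! ### The invariant separating the orbits of a quartet stabiliser -/

/-- The sum of the fourth powers of the intersection sizes of the members of two families. -/
def I4 (Q X : Finset (Finset GolayPt)) : ℕ := ∑ a ∈ Q, ∑ x ∈ X, (a ∩ x).card ^ 4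

theorem I4_smul (g : M24) (Q X : Finset (Finset GolayPt)) : I4 (g • Q) (g • X) = I4 Q X := by
  rw [I4, I4, Finset.smul_finset_def, Finset.sum_image (fun a _ b _ h => MulAction.injective g h)]
  apply Finset.sum_congr rfl
  intro o _
  rw [Finset.smul_finset_def, Finset.sum_image (fun a _ b _ h => MulAction.injective g h)]
  apply Finset.sum_congr rfl
  intro x _
  rw [← Finset.smul_finset_inter, Finset.card_smul_finset]

/-- Sum over a list (kernel-friendly). -/
def sumR (l : List ℕ) (f : ℕ → ℕ) : ℕ :=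
  @List.rec ℕ (fun _ => ℕ) 0 (fun a _ ih => Nat.add (f a) ih) l

theorem sumR_cons (a : ℕ) (l : List ℕ) (f : ℕ → ℕ) : sumR (a :: l) f = f a + sumR l f := rfl

theorem sumR_congr {l : List ℕ} {f g : ℕ → ℕ} (h : ∀ a ∈ l, f a = g a) : sumR l f = sumR l g := by
  induction l with
  | nil => rfl
  | cons a l ih =>
    rw [sumR_cons, sumR_cons, h a (List.mem_cons_self ..),
      ih (fun b hb => h b (List.mem_cons_of_mem _ hb))]

theorem sum_DL {l : List ℕ} (hc : CanonL l) (F : Finset GolayPt → ℕ) :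
    ∑ x ∈ DL l, F x = sumR l (fun m => F (fs m)) := by
  induction l with
  | nil => rfl
  | cons a l ih =>
    have hc' : CanonL l := ⟨(List.pairwise_cons.mp hc.1).2, fun m hm => hc.2 m (List.mem_cons_of_mem _ hm)⟩
    have hnot : fs a ∉ DL l := by
      intro hmem
      obtain ⟨m, hm, e⟩ := mem_DL.mp hmem
      have h1 := fs_inj (hc.2 m (List.mem_cons_of_mem _ hm)) (hc.2 a (List.mem_cons_self ..)) e
      have h2 := (List.pairwise_cons.mp hc.1).1 m hm
      omega
    have e : DL (a :: l) = insert (fs a) (DL l) := by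
      rw [DL, DL, List.map_cons, List.toFinset_cons]
    rw [e, Finset.sum_insert hnot, ih hc', sumR_cons]

/-- Fourth power. -/
def pow4 (k : ℕ) : ℕ := Nat.mul (Nat.mul k k) (Nat.mul k k)

/-- The invariant computed on lists of bitmasks. -/
def invL (s t : List ℕ) : ℕ := sumR s (fun a => sumR t (fun x => pow4 (popcF (Nat.land a x))))

theorem I4_DL {s t : List ℕ} (hs : CanonL s) (ht : CanonL t) : I4 (DL s) (DL t) = invL s t := by
  rw [I4, sum_DL hs, invL]
  apply sumR_congr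
  intro a ha
  rw [sum_DL ht]
  apply sumR_congr
  intro x hx
  rw [card_fs_inter (hs.2 a ha), mask_fs (ht.2 x hx)]
  show _ = (popcF (Nat.land a x) * popcF (Nat.land a x)) * (popcF (Nat.land a x) * popcF (Nat.land a x))
  ring

theorem invL_reps : invL q₀ q₀ = 324 ∧ invL q₀ xQ1 = 90 ∧ invL q₀ xQ2 = 68 ∧ invL q₀ xQ3 = 54 ∧
    invL q₀ xQ4 = 26 := by decide +kernel

theorem stabQ_mem {g : Equiv.Perm GolayPt} (hg : g ∈ stabQ) :
    g ∈ M24 ∧ g • fs d₀ = fs d₀ ∧ g • Q₀ = Q₀ := ⟨hg.1.1, hg.1.2, hg.2⟩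

/-- Every member of an orbit list is the image of the representative under the stabiliser. -/
theorem LQ_spec (ins : List ℕ) (x : List ℕ) (hx : CanonL x) (hq : quartK x = true) :
    ∀ l ∈ orbLs stabQGens ins x, CanonL l ∧ DL l ∈ quartets (fs d₀) ∧
      (∃ g ∈ stabQ, g • DL x = DL l) ∧ I4 Q₀ (DL l) = invL q₀ x := by
  intro l hl
  obtain ⟨h1, _, g, hg, hgl⟩ := orbLs_spec stabQ stabQGens stabQGens_ok ins x hx l hl
  obtain ⟨hgM, hgd, hgQ⟩ := stabQ_mem hg
  have hmem : DL l ∈ quartets (fs d₀) := by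
    have := smul_quartets hgM (quartK_spec hx hq)
    rw [hgd, hgl] at this
    exact this
  refine ⟨h1, hmem, ⟨g, hg, hgl⟩, ?_⟩
  have e := I4_smul ⟨g, hgM⟩ Q₀ (DL x)
  have e1 : (⟨g, hgM⟩ : M24) • Q₀ = Q₀ := hgQ
  have e2 : (⟨g, hgM⟩ : M24) • DL x = DL l := hgl
  rw [e1, e2] at e
  rw [e, Q₀, I4_DL canon_reps.1 hx]

/-- The representatives of the five classes. -/
def repQ : Fin 5 → List ℕ
  | ⟨0, _⟩ => q₀
  | ⟨1, _⟩ => xQ1
  | ⟨2, _⟩ => xQ2
  | ⟨3, _⟩ => xQ3
  | ⟨4, _⟩ => xQ4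

/-- The five lists. -/
def LQof : Fin 5 → List (List ℕ)
  | ⟨0, _⟩ => [q₀]
  | ⟨1, _⟩ => LQ1
  | ⟨2, _⟩ => LQ2
  | ⟨3, _⟩ => LQ3
  | ⟨4, _⟩ => LQ4

/-- The values of the invariant on the five classes. -/
def vQ : Fin 5 → ℕ
  | ⟨0, _⟩ => 324
  | ⟨1, _⟩ => 90
  | ⟨2, _⟩ => 68
  | ⟨3, _⟩ => 54
  | ⟨4, _⟩ => 26

/-- The sizes of the five classes. -/
def nQ : Fin 5 → ℕ
  | ⟨0, _⟩ => 1
  | ⟨1, _⟩ => 12
  | ⟨2, _⟩ => 27
  | ⟨3, _⟩ => 72
  | ⟨4, _⟩ => 108

theorem vQ_injective : Function.Injective vQ := by decide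

theorem mem_LQall (l : List ℕ) :
    l ∈ LQall ↔ l = q₀ ∨ l ∈ LQ1 ∨ l ∈ LQ2 ∨ l ∈ LQ3 ∨ l ∈ LQ4 := by
  rw [LQall, List.mem_cons, List.mem_append, List.mem_append, List.mem_append]

theorem canon_repQ (i : Fin 5) : CanonL (repQ i) := by
  fin_cases i
  · exact canon_reps.1
  · exact canon_reps.2.1
  · exact canon_reps.2.2.1
  · exact canon_reps.2.2.2.1
  · exact canon_reps.2.2.2.2

theorem quart_repQ (i : Fin 5) : quartK (repQ i) = true := by
  fin_cases i
  · exact quart_reps.1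
  · exact quart_reps.2.1
  · exact quart_reps.2.2.1
  · exact quart_reps.2.2.2.1
  · exact quart_reps.2.2.2.2

theorem invL_repQ (i : Fin 5) : invL q₀ (repQ i) = vQ i := by
  fin_cases i
  · exact invL_reps.1
  · exact invL_reps.2.1
  · exact invL_reps.2.2.1
  · exact invL_reps.2.2.2.1
  · exact invL_reps.2.2.2.2

theorem LQof_spec (i : Fin 5) (l : List ℕ) (hl : l ∈ LQof i) :
    CanonL l ∧ DL l ∈ quartets (fs d₀) ∧ (∃ g ∈ stabQ, g • DL (repQ i) = DL l) ∧
      I4 Q₀ (DL l) = vQ i := by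
  have key : ∀ (ins : List ℕ), l ∈ orbLs stabQGens ins (repQ i) → CanonL l ∧
      DL l ∈ quartets (fs d₀) ∧ (∃ g ∈ stabQ, g • DL (repQ i) = DL l) ∧ I4 Q₀ (DL l) = vQ i := by
    intro ins h
    have := LQ_spec ins (repQ i) (canon_repQ i) (quart_repQ i) l h
    rw [invL_repQ] at this
    exact this
  fin_cases i
  · have e : l = q₀ := List.mem_singleton.mp hl
    rw [e]
    refine ⟨canon_reps.1, Q₀_mem, ⟨1, stabQ.one_mem, one_smul _ _⟩, ?_⟩
    show I4 Q₀ (DL q₀) = 324
    rw [Q₀, I4_DL canon_reps.1 canon_reps.1, invL_reps.1]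
  · exact key insQ1 hl
  · exact key insQ2 hl
  · exact key insQ3 hl
  · exact key insQ4 hl

theorem LQof_sublist (i : Fin 5) : (LQof i).Sublist LQall := by
  have h1 : (LQ1 ++ (LQ2 ++ (LQ3 ++ LQ4))).Sublist LQall := List.Sublist.cons _ (List.Sublist.refl _)
  fin_cases i
  · exact List.Sublist.cons_cons _ (List.nil_sublist _)
  · exact (List.sublist_append_left _ _).trans h1
  · exact ((List.sublist_append_left _ _).trans (List.sublist_append_right _ _)).trans h1
  · exact (((List.sublist_append_left _ _).trans (List.sublist_append_right _ _)).trans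
      (List.sublist_append_right _ _)).trans h1
  · exact (((List.sublist_append_right _ _).trans (List.sublist_append_right _ _)).trans
      (List.sublist_append_right _ _)).trans h1

theorem LQof_length (i : Fin 5) : (LQof i).length = nQ i := by
  fin_cases i
  · rfl
  · exact listsQ_ok.2.2.1
  · exact listsQ_ok.2.2.2.1
  · exact listsQ_ok.2.2.2.2.1
  · exact listsQ_ok.2.2.2.2.2

theorem LQall_nodup : LQall.Nodup := by
  rw [listsQ_ok.1]
  exact List.Nodup.of_map _ (nodupR_spec listsQ_ok.2.1)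

/-- Every quartet of the standard dodecad belongs to one of the five classes. -/
theorem quartets_cases (X : Finset (Finset GolayPt)) (hX : X ∈ quartets (fs d₀)) :
    ∃ i : Fin 5, ∃ l ∈ LQof i, DL l = X := by
  obtain ⟨l, hl, rfl⟩ := quartets_complete X hX
  rw [← listsQ_ok.1, mem_LQall] at hl
  rcases hl with rfl | hl | hl | hl | hl
  · exact ⟨0, q₀, List.mem_singleton.mpr rfl, rfl⟩
  · exact ⟨1, l, hl, rfl⟩
  · exact ⟨2, l, hl, rfl⟩
  · exact ⟨3, l, hl, rfl⟩
  · exact ⟨4, l, hl, rfl⟩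

theorem LQall_props (l : List ℕ) (hl : l ∈ LQall) : CanonL l ∧ DL l ∈ quartets (fs d₀) := by
  rw [mem_LQall] at hl
  rcases hl with rfl | hl | hl | hl | hl
  · exact ⟨canon_reps.1, Q₀_mem⟩
  · have := LQof_spec 1 l hl; exact ⟨this.1, this.2.1⟩
  · have := LQof_spec 2 l hl; exact ⟨this.1, this.2.1⟩
  · have := LQof_spec 3 l hl; exact ⟨this.1, this.2.1⟩
  · have := LQof_spec 4 l hl; exact ⟨this.1, this.2.1⟩

/-- The size of each class of quartets. -/
theorem ncard_classQ (i : Fin 5) :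
    {X : Finset (Finset GolayPt) | X ∈ quartets (fs d₀) ∧ I4 Q₀ X = vQ i}.ncard = nQ i := by
  have hnd : ((LQof i).map DL).Nodup := by
    apply List.Nodup.map_on _ (LQall_nodup.sublist (LQof_sublist i))
    intro a ha b hb hab
    exact DL_injOn (LQall_props a ((LQof_sublist i).subset ha)).1
      (LQall_props b ((LQof_sublist i).subset hb)).1 hab
  have hset : {X : Finset (Finset GolayPt) | X ∈ quartets (fs d₀) ∧ I4 Q₀ X = vQ i} =
      ↑(((LQof i).map DL).toFinset) := by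
    ext X
    rw [Finset.mem_coe, List.mem_toFinset, List.mem_map]
    constructor
    · rintro ⟨h1, h2⟩
      obtain ⟨j, l, hl, rfl⟩ := quartets_cases X h1
      have := (LQof_spec j l hl).2.2.2
      rw [h2] at this
      rw [vQ_injective this]
      exact ⟨l, hl, rfl⟩
    · rintro ⟨l, hl, rfl⟩
      obtain ⟨_, h2, _, h4⟩ := LQof_spec i l hl
      exact ⟨h2, h4⟩
  rw [hset, Set.ncard_coe_finset, List.toFinset_card_of_nodup hnd, List.length_map, LQof_length]

/-- The number of quartets of the standard dodecad. -/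
theorem ncard_quartets_base : (quartets (fs d₀)).ncard = 220 := by
  have hnd : (LQall.map DL).Nodup := by
    apply List.Nodup.map_on _ LQall_nodup
    intro a ha b hb hab
    exact DL_injOn (LQall_props a ha).1 (LQall_props b hb).1 hab
  have hset : quartets (fs d₀) = ↑((LQall.map DL).toFinset) := by
    ext X
    rw [Finset.mem_coe, List.mem_toFinset, List.mem_map]
    constructor
    · intro hX
      obtain ⟨l, hl, rfl⟩ := quartets_complete X hX
      rw [← listsQ_ok.1] at hl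
      exact ⟨l, hl, rfl⟩
    · rintro ⟨l, hl, rfl⟩
      exact (LQall_props l hl).2
  rw [hset, Set.ncard_coe_finset, List.toFinset_card_of_nodup hnd, List.length_map, listsQ_ok.1]
  rfl

/-- Quartets with the same invariant are conjugate under the stabiliser of the standard quartet. -/
theorem base_homogQ (X X' : Finset (Finset GolayPt)) (hX : X ∈ quartets (fs d₀))
    (hX' : X' ∈ quartets (fs d₀)) (h : I4 Q₀ X = I4 Q₀ X') :
    ∃ g : M24, g • fs d₀ = fs d₀ ∧ g • Q₀ = Q₀ ∧ g • X = X' := by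
  obtain ⟨i, l, hl, rfl⟩ := quartets_cases X hX
  obtain ⟨j, l', hl', rfl⟩ := quartets_cases X' hX'
  obtain ⟨_, _, ⟨g, hg, e⟩, hv⟩ := LQof_spec i l hl
  obtain ⟨_, _, ⟨g', hg', e'⟩, hv'⟩ := LQof_spec j l' hl'
  rw [hv, hv'] at h
  have hij := vQ_injective h
  rw [← hij] at e'
  obtain ⟨m1, d1, s1⟩ := stabQ_mem hg
  obtain ⟨m2, d2, s2⟩ := stabQ_mem hg'
  refine ⟨⟨g', m2⟩ * ⟨g, m1⟩⁻¹, ?_, ?_, ?_⟩
  · rw [mul_smul]
    have h1 : (⟨g, m1⟩ : M24)⁻¹ • fs d₀ = fs d₀ := by
      rw [inv_smul_eq_iff]; exact d1.symm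
    rw [h1]; exact d2
  · rw [mul_smul]
    have h1 : (⟨g, m1⟩ : M24)⁻¹ • Q₀ = Q₀ := by
      rw [inv_smul_eq_iff]; exact s1.symm
    rw [h1]; exact s2
  · rw [mul_smul]
    have h1 : (⟨g, m1⟩ : M24)⁻¹ • DL l = DL (repQ i) := by
      rw [inv_smul_eq_iff]; exact e.symm
    rw [h1]; exact e'

theorem repQ_mem (i : Fin 5) : DL (repQ i) ∈ quartets (fs d₀) :=
  quartK_spec (canon_repQ i) (quart_repQ i)

theorem I4_repQ (i : Fin 5) : I4 Q₀ (DL (repQ i)) = vQ i := by
  rw [Q₀, I4_DL canon_reps.1 (canon_repQ i), invL_repQ]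

/-- The representatives are images of the standard quartet under the dodecad stabiliser. -/
theorem reps_conjQ (i : Fin 5) : ∃ g ∈ stabD, g • Q₀ = DL (repQ i) := by
  have key : ∀ j : Fin 4, ∃ g ∈ stabD, g • Q₀ = DL ([xQ1, xQ2, xQ3, xQ4].getD j []) := by
    intro j
    obtain ⟨h1, h2, h3⟩ := repTabsQ_ok j
    have hv := okK_valid h1
    refine ⟨permT _, ⟨permT_mem_M24' h1, permT_mem_stabilizer_fs hv (by decide) h2⟩, ?_⟩
    rw [Q₀, ← DL_actLs hv canon_reps.1.2, h3]
  fin_cases i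
  · exact ⟨1, stabD.one_mem, one_smul _ _⟩
  · exact key 0
  · exact key 1
  · exact key 2
  · exact key 3

/-- The stabiliser of the standard dodecad is transitive on its quartets. -/
theorem quartets_transitive (X : Finset (Finset GolayPt)) (hX : X ∈ quartets (fs d₀)) :
    ∃ g ∈ stabD, g • Q₀ = X := by
  obtain ⟨i, l, hl, rfl⟩ := quartets_cases X hX
  obtain ⟨_, _, ⟨g, hg, e⟩, _⟩ := LQof_spec i l hl
  obtain ⟨k, hk, ek⟩ := reps_conjQ i
  exact ⟨g * k, stabD.mul_mem hg.1 hk, by rw [mul_smul, ek, e]⟩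

end Cfsg.Agent.Lib.Helper12.Golay
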