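import Mathlib
import Cfsg.Prelude.Def_Sporadic_a
import Cfsg.Agent.Lib.Helper12.Golay.Tuples
import Cfsg.Agent.Lib.Helper12.Golay.Subsets
import Cfsg.Agent.Lib.helper3.GolaySteiner

set_option autoImplicit false

namespace Cfsg.Agent.Lib.Helper12.Golay

open Cfsg
open scoped Pointwise

/-! ### Multiple transitivity of the group of the code on points -/

theorem exists_octad5 (a b c d e : GolayPt) (hab : a ≠ b) (hac : a ≠ c) (had : a ≠ d) (hae : a ≠ e)
    (hbc : b ≠ c) (hbd : b ≠ d) (hbe : b ≠ e) (hcd : c ≠ d) (hce : c ≠ e) (hde : d ≠ e) :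
    ∃ o ∈ octads, a ∈ o ∧ b ∈ o ∧ c ∈ o ∧ d ∈ o ∧ e ∈ o := by
  have hcard : ({a, b, c, d, e} : Finset GolayPt).card = 5 := by
    rw [Finset.card_insert_of_notMem, Finset.card_insert_of_notMem, Finset.card_insert_of_notMem,
      Finset.card_insert_of_notMem, Finset.card_singleton]
    · simpa using hde
    · simp [hcd, hce]
    · simp [hbc, hbd, hbe]
    · simp [hab, hac, had, hae]
  obtain ⟨o, ⟨ho, hsub⟩, _⟩ := Cfsg.Agent.Lib.helper3.octads_steiner.2 _ hcard
  refine ⟨o, ho, hsub (by simp), hsub (by simp), hsub (by simp), hsub (by simp), hsub (by simp)⟩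

/-- Five-fold transitivity of the group of the code. -/
theorem five_trans (a b c d e a' b' c' d' e' : GolayPt) (hab : a ≠ b) (hac : a ≠ c) (had : a ≠ d)
    (hae : a ≠ e) (hbc : b ≠ c) (hbd : b ≠ d) (hbe : b ≠ e) (hcd : c ≠ d) (hce : c ≠ e) (hde : d ≠ e)
    (hab' : a' ≠ b') (hac' : a' ≠ c') (had' : a' ≠ d') (hae' : a' ≠ e') (hbc' : b' ≠ c')
    (hbd' : b' ≠ d') (hbe' : b' ≠ e') (hcd' : c' ≠ d') (hce' : c' ≠ e') (hde' : d' ≠ e') :
    ∃ g : M24, g • a = a' ∧ g • b = b' ∧ g • c = c' ∧ g • d = d' ∧ g • e = e' := by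
  obtain ⟨o, ho, a1, a2, a3, a4, a5⟩ := exists_octad5 a b c d e hab hac had hae hbc hbd hbe hcd hce hde
  obtain ⟨o', ho', b1, b2, b3, b4, b5⟩ :=
    exists_octad5 a' b' c' d' e' hab' hac' had' hae' hbc' hbd' hbe' hcd' hce' hde'
  obtain ⟨k, hk⟩ := flag5 o ho a b c d e a1 a2 a3 a4 a5 hab hac hbc had hbd hcd hae hbe hce hde
  obtain ⟨k', hk'⟩ := flag5 o' ho' a' b' c' d' e' b1 b2 b3 b4 b5 hab' hac' hbc' had' hbd' hcd' hae'
    hbe' hce' hde'
  have h : (k' * k⁻¹) • ((((((o, a), b), c), d), e) : Flag5) = (((((o', a'), b'), c'), d'), e') := by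
    rw [mul_smul, ← hk, inv_smul_smul, hk']
  simp only [Prod.smul_mk, Prod.mk.injEq] at h
  obtain ⟨⟨⟨⟨⟨_, h1⟩, h2⟩, h3⟩, h4⟩, h5⟩ := h
  exact ⟨k' * k⁻¹, h1, h2, h3, h4, h5⟩

theorem exists_new_point (F : Finset GolayPt) (hF : F.card < 24) : ∃ e : GolayPt, e ∉ F := by
  have h : F.card < (Finset.univ : Finset GolayPt).card := by
    rw [Finset.card_univ, Fintype.card_option, ZMod.card]; exact hF
  obtain ⟨e, _, he⟩ := Finset.exists_mem_notMem_of_card_lt_card h
  exact ⟨e, he⟩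

/-- Four-fold transitivity of the group of the code. -/
theorem four_trans (a b c d a' b' c' d' : GolayPt) (hab : a ≠ b) (hac : a ≠ c) (had : a ≠ d)
    (hbc : b ≠ c) (hbd : b ≠ d) (hcd : c ≠ d) (hab' : a' ≠ b') (hac' : a' ≠ c') (had' : a' ≠ d')
    (hbc' : b' ≠ c') (hbd' : b' ≠ d') (hcd' : c' ≠ d') :
    ∃ g : M24, g • a = a' ∧ g • b = b' ∧ g • c = c' ∧ g • d = d' := by
  obtain ⟨e, he⟩ := exists_new_point {a, b, c, d}
    (lt_of_le_of_lt Finset.card_le_four (by norm_num))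
  obtain ⟨e', he'⟩ := exists_new_point {a', b', c', d'}
    (lt_of_le_of_lt Finset.card_le_four (by norm_num))
  simp only [Finset.mem_insert, Finset.mem_singleton, not_or] at he he'
  obtain ⟨g, h1, h2, h3, h4, _⟩ := five_trans a b c d e a' b' c' d' e' hab hac had (Ne.symm he.1) hbc
    hbd (Ne.symm he.2.1) hcd (Ne.symm he.2.2.1) (Ne.symm he.2.2.2) hab' hac' had' (Ne.symm he'.1)
    hbc' hbd' (Ne.symm he'.2.1) hcd' (Ne.symm he'.2.2.1) (Ne.symm he'.2.2.2)
  exact ⟨g, h1, h2, h3, h4⟩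

/-- Three-fold transitivity of the group of the code. -/
theorem three_trans (a b c a' b' c' : GolayPt) (hab : a ≠ b) (hac : a ≠ c) (hbc : b ≠ c)
    (hab' : a' ≠ b') (hac' : a' ≠ c') (hbc' : b' ≠ c') :
    ∃ g : M24, g • a = a' ∧ g • b = b' ∧ g • c = c' := by
  obtain ⟨d, hd⟩ := exists_new_point {a, b, c} (lt_of_le_of_lt Finset.card_le_three (by norm_num))
  obtain ⟨d', hd'⟩ := exists_new_point {a', b', c'}
    (lt_of_le_of_lt Finset.card_le_three (by norm_num))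
  simp only [Finset.mem_insert, Finset.mem_singleton, not_or] at hd hd'
  obtain ⟨g, h1, h2, h3, _⟩ := four_trans a b c d a' b' c' d' hab hac (Ne.symm hd.1) hbc
    (Ne.symm hd.2.1) (Ne.symm hd.2.2) hab' hac' (Ne.symm hd'.1) hbc' (Ne.symm hd'.2.1)
    (Ne.symm hd'.2.2)
  exact ⟨g, h1, h2, h3⟩

/-- Two-fold transitivity of the group of the code. -/
theorem two_trans (a b a' b' : GolayPt) (hab : a ≠ b) (hab' : a' ≠ b') :
    ∃ g : M24, g • a = a' ∧ g • b = b' := by
  obtain ⟨c, hc⟩ := exists_new_point {a, b} (lt_of_le_of_lt Finset.card_le_two (by norm_num))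
  obtain ⟨c', hc'⟩ := exists_new_point {a', b'} (lt_of_le_of_lt Finset.card_le_two (by norm_num))
  simp only [Finset.mem_insert, Finset.mem_singleton, not_or] at hc hc'
  obtain ⟨g, h1, h2, _⟩ := three_trans a b c a' b' c' hab (Ne.symm hc.1) (Ne.symm hc.2) hab'
    (Ne.symm hc'.1) (Ne.symm hc'.2)
  exact ⟨g, h1, h2⟩

theorem pair_smul (g : M24) (a b a' b' : GolayPt) (ha : g • a = a') (hb : g • b = b') :
    g • ({a, b} : Finset GolayPt) = {a', b'} := by
  rw [Finset.smul_finset_insert, Finset.smul_finset_singleton]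
  exact congrArg₂ _ ha (congrArg _ hb)

theorem triple_smul (g : M24) (a b c a' b' c' : GolayPt) (ha : g • a = a') (hb : g • b = b')
    (hc : g • c = c') : g • ({a, b, c} : Finset GolayPt) = {a', b', c'} := by
  rw [Finset.smul_finset_insert, Finset.smul_finset_insert, Finset.smul_finset_singleton]
  exact congrArg₂ _ ha (congrArg₂ _ hb (congrArg _ hc))

end Cfsg.Agent.Lib.Helper12.Golay
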