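import Mathlib
import Cfsg.Prelude.Def_Sporadic_a
import Cfsg.Prelude.Def_SporadicCombinatorics
import Cfsg.Agent.Lib.Helper12.Golay.Trio
import Cfsg.Agent.S1557

set_option autoImplicit false

namespace Cfsg.Agent.Lib.Helper12.Golay

open Cfsg
open scoped Pointwise

/-! ### The orbits of a trio stabiliser on the trios -/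

/-- The standard trio. -/
def t₀ : Code3 := (5279, 1256224, 15515712)

/-- Representatives of the four further orbits of the stabiliser of the standard trio. -/
def xT1 : Code3 := (5279, 1009728, 15762208)
/-- See `xT1`. -/
def xT2 : Code3 := (10558, 6837377, 9929280)
/-- See `xT1`. -/
def xT3 : Code3 := (10558, 902657, 15864000)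
/-- See `xT1`. -/
def xT4 : Code3 := (18147, 702724, 16056344)

/-- Inverse tables of generators of the stabiliser of the standard trio. -/
def stabTGens : List (List ℕ) := [[11,5,13,16,9,7,23,8,1,2,17,12,20,4,21,22,10,3,19,6,0,15,14,18],
  [12,2,10,3,0,14,13,1,21,18,4,6,7,15,17,9,22,19,5,20,23,8,11,16]]

/-- Inverse tables of elements mapping the standard trio to the four representatives. -/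
def repTabs : List (List ℕ) := [[23,21,22,6,14,0,5,18,1,2,15,13,19,17,16,4,8,9,20,11,7,12,3,10],
  [18,3,2,12,7,10,5,14,0,16,23,1,21,4,6,17,9,11,20,15,8,19,22,13],
  [11,4,7,10,1,12,23,19,2,8,5,3,21,0,9,16,13,22,20,17,14,15,18,6],
  [14,23,12,13,8,6,22,18,7,21,19,4,10,2,15,1,20,3,5,0,11,16,9,17]]

/-- Orbit instructions. -/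
def insT1 : List ℕ := [1,1,1,2,1,1,1,0,0,2,2,0,0,0,2,1,0,2,0,0,0,0,2,2,1,0,0,0,0,2,1,2,1,1,0,2,0,0,0,0,2,2,2,1,0,2,0,0,0,0,0,0,2,1,2,1,0,2,1,2,
  2,0,0,0,0,0,0,2,1,2,0,0,2,1,2,2]
/-- Orbit instructions. -/
def insT2 : List ℕ := [1,1,1,2,1,2,1,2,0,0,0,0,2,0,0,0,2,1,1,0,2,2,1,2,0,0,2,2,0,0,0,0,0,0,0,2,1,1,1,0,0,2,1,0,0,0,2,1,1,1,2,0,0,2,1,2,0,0,2,2,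
  0,0,0,0,2,1,2,0,0,0,0,2,2,0,0,0,0,0,2,1,2,1,1,1,0,0,0,2,2,2,0,0,0,0,0,2,1,1,0,2,1,0,2,2]
/-- Orbit instructions. -/
def insT3 : List ℕ := [1,1,1,2,1,1,1,2,1,1,1,0,0,2,2,0,0,0,2,2,1,0,2,1,0,0,0,0,0,0,2,1,1,1,2,0,0,2,1,0,2,0,0,0,0,2,1,2,0,0,2,1,2,0,0,0,0,0,0,2,
  1,1,1,2,1,0,2,0,0,0,2,1,0,2,0,0,0,0,2,1,2,2,0,0,0,2,1,1,1,0,0,2,0,0,2,1,2,0,0,2,2,2,0,0,0,0,0,0,0,0,2,1,1,1,2,0,0,2,1,1,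
  1,0,2,1,0,0,0,2,1,0,2,2,0,0,0,0,2,1,0,0,0,0,2,1,1,1,2,2,0,0,0,0,2,1,1,2,0,0,0,2,0,0,0,2,2,1,1,0,2,2,0,0,0,0,0,0,0,2,1,1,
  1,0,2,1,2,2,0,0,0,2,1,0,2,0,0,0,0,2,1,0,2,1,2,0,0,0,0,0,2,1,1,1,0,0,2,1,1,0,0,2,1,0,2,1,0,0,0,0,0,2,1,2,1,1,0,0,2,0,0,0,
  2,1,0,2,1,2,1,0,0,0,2,2,0,0,0,0,0,0,0,0,0,0,2,1,1,1,2,1,0,2,2,1,1,0,0,0,0,0,0,2,1,1,1,2,0,0,0,2,1,1,1,0,2,1,0,2,0,0,0,0,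
  2,1,1,0,0,2,2,1,0,2,0,0,0,0,0,0,2,1,0,2,1,0,2,2,2,0,0,0,0,0,0,0,2,1,1,1,2,1,1,2,0,0,2,1,1,0,0,0,0,0,0,2,2,1,0,0,0,0,2,1,
  1,1,2,0,0,0,2,1,1,0,0,0,0,2,1,0,2,1,2,2,1,0,0,0,0,2,0,0,0,0,0,2,1,1,1,2,1,0,2,0,0,0,2,1,1,0,2,0,0,0,0,2,1,0,2,1,1,0,2,1,
  0,0,0,2,1,0,2,0,0,0,0,0,2,1,1,1,0,0,2,1,1,2,0,0,2,1,0,0,0,0,0,0,0,0,0,2,1,1,1,0,2,1,1,2,2,2,0,0,0,0,2,1,1,0,2,0,0,2,0,0,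
  0,0,0,2,1,1,1,2,2,0,0,0,0,0,0,0,2,1,1,1,0,2,1,1,0,0,2,1,1,1,0,0,0,0,0,0,2,1,2,1,1,2,0,0,2,1,0,0,0,0,0,2,1,2,1,0,2,0,0,0,
  2,2,1,0,2,1,0,0,0,0,0,0,0,2,1,0,2,1,2,1,0,2,0,0,0,2,1,1,1,0,2,0,0,0,2,1,2,0,0,2,2,1,0,2,0,0,0,0,0,0,0,0,0,0,0,2,1,1,1,2,
  1,1,2,1,0,2,0,0,0,2,1,1,1,0,0,2,0,0,2,2,0,0,0,0,2,1,1,0,0,2,1,1,1,0,0,2,2,0,0,0,2,1,0,2,0,0,0,0,0,0,2,1,1,1,0,2,1,2,1,2,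
  0,0,2,0,0,0,2,1,2,2,0,0,0,2,0,0,0,0,2,1,1,1,0,0,2,1,1,1,0,0,0,0,0,2,1,2,0,0,2,2,0,0,0,0,0,2,1,1,1,2,1,2,0,0,2,0,0,0,2,1,
  0,2,0,0,0,2,2,2,2,2,0,0,0,0,0,0,2,1,2,0,0,2,1,1,2,0,0,2,1,0,0,0,2,1,2,2,0,0,0,0,0,0,0,0,0,2,1,1,1,2,1,1,0,2,1,2,0,0,0,0,
  0,0,2,1,2,1,1,2,0,0,0,2,0,0,0,2,1,0,0,0,0,2,2,1,1,2,1,0,0,0,2,0,0,2,1,0,0,0,0,0,2,1,1,1,2,1,2,1,0,0,0,0,0,2,2,1,1,0,0,0,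
  0,0,2,1,0,2,1,1,2,0,0,2,1,0,0,0,2,0,0,0,0,2,1,2,1,1,2,1,0,0,0,2,0,0,2,1,0,0,0,0,2,1,2,1,1,0,2,2,0,0,0,2,2,0,0,0,0,2,1,1,
  2,0,0,2,0,0,2,0,0,0,0,0,0,0,2,1,1,1,2,1,1,2,0,0,0,2,1,1,0,2,0,0,2,2,2,1,0,0,0,0,0,0,0,2,2,2,2,1,2,0,0,0,0,0,0,0,2,1,1,2,
  1,2,1,0,0,0,2,1,0,2,1,0,0,0,0,0,2,1,0,0,0,2,1,1,1,2,1,0,0,0,0,2,1,1,0,0,2,0,0,0,2,1,1,0,2,0,0,0,0,0,0,2,1,2,1,2,1,1,0,0,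
  0,0,2,0,0,0,2,1,1,1,0,2,1,1,1,0,0,0,2,1,1,1,0,0,0,2,1,1,0,2,0,0,0,0,0,0,2,1,2,2,0,0,0,2,1,0,2,0,0,0,0,2,1,1,1,2,1,1,0,2,
  0,0,0,0,2,1,0,0,0,0,2,1,2,1,2,0,0,0,0,2,1,2,1,0,0,0,0,0,0,0,0,0,0,0,2,1,1,1,2,1,1,2,1,2,2,0,0,0,2,1,2,0,0,0,0,0,2,1,1,0,
  2,1,0,2,1,0,0,0,0,2,0,0,0,2,1,1,1,0,2,2,0,0,0,2,2,1,1,0,0,2,1,0,0,0,0,0,2,2,2,1,2,0,0,2,1,0,0,0,0,0,0,0,0,2,1,1,1,2,1,2,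
  1,0,2,0,0,0,0,0,2,1,1,1,2,0,0,2,0,0,2,1,0,0,0,2,1,1,2,0,0,2,0,0,2,1,0,2,0,0,0,0,0,2,1,1,1,0,2,1,0,2,0,0,0,2,1,1,1,0,0,0,
  2,0,0,0,2,1,2,2,2,1,0,0,0,0,0,2,2,2,1,1,0,0,0,0,0,0,0,0,2,1,1,1,2,1,0,0,0,2,1,2,0,0,0,0,2,1,0,2,1,0,2,1,1,0,0,2,0,0,0,0,
  0,2,1,1,1,2,2,0,0,0,0,2,2,0,0,0,2,1,1,1,0,2,0,0,2,1,2,0,0,0,0,0,0,0,0,0,2,1,1,1,2,1,2,0,0,2,0,0,0,2,1,2,2,0,0,0,2,1,1,0,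
  2,1,1,2,0,0,0,0,0,2,2,1,1,0,2,0,0,2,2,0,0,0,0,0,0,0,2,1,1,1,2,1,0,2,1,0,0,0,0,2,1,1,0,2,0,0,0,0,2,1,1,1,2,0,0,2,2,0,0,0,
  2,1,0,0,0,2,1,0,2,0,0,0,0,2,1,2,2,1,0,0,0,0,2,1,1,1,0,2,1,0,2,0,0,0,2,1,0,2,0,0,0,2,1,0,2,1,1,0,2,0,0,0,0,0,0,0,0,2,2,1,
  1,1,0,0,2,1,0,2,2,0,0,0,0,2,1,1,1,2,2,0,0,0,2,1,0,2,2,0,0,0,0,2,1,1,1,0,0,0,0,0,2,1,1,2,1,2,0,0,2,2,0,0,0,0,2,1,2,0,0,2,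
  0,0,0,2,2,2,2,0,0,0,0,0,0,0,0,0,0,2,1,1,1,2,1,2,1,1,0,2,0,0,2,1,0,2,0,0,0,0,0,0,2,1,1,1,2,1,1,0,0,2,2,0,0,0,0,2,2,0,0,0,
  2,1,0,2,1,2,0,0,2,1,0,2,0,0,0,0,0,2,1,1,2,0,0,2,1,1,2,0,0,2,2,0,0,0,2,1,0,2,0,0,0,0,2,1,1,1,2,0,0,2,2,0,0,0,2,1,0,0,0,2,
  2,1,0,0,0,0,0,0,0,2,1,1,1,0,2,1,1,1,0,2,0,0,2,1,1,0,0,2,0,0,0,2,1,2,0,0,2,1,1,0,0,0,0,0,0,2,1,1,1,0,2,1,0,2,2,2,0,0,0,0,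
  0,2,1,1,1,2,0,0,2,0,0,2,2,0,0,0,0,0,0,0,2,1,2,2,1,0,0,0,0,2,1,1,1,2,2,0,0,0,2,2,2,1,0,0,0,0,0,0,2,1,2,0,0,2,2,1,1,0,0,2,
  1,2,0,0,2,0,0,0,0,0,0,0,0,0,2,1,1,1,2,1,2,1,1,0,0,0,0,2,1,1,0,0,2,2,0,0,0,0,0,2,1,2,1,1,1,0,2,0,0,2,0,0,0,0,2,1,2,0,0,2,
  1,1,0,0,2,0,0,0,0,0,2,1,1,1,2,2,0,0,0,0,0,2,1,1,0,0,2,1,1,2,2,0,0,0,2,2,2,0,0,0,0,0,0,0,0,2,1,1,1,2,1,0,2,1,2,0,0,0,0,0,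
  0,2,1,1,2,1,2,0,0,2,1,0,0,0,0,2,1,1,0,0,0,0,0,0,2,1,1,1,2,1,1,0,0,0,0,2,1,1,0,2,0,0,2,1,0,2,0,0,0,0,2,1,2,1,2,0,0,2,1,0,
  2,0,0,0,0,0,0,2,1,1,1,2,0,0,0,2,2,0,0,0,2,1,0,2,1]
/-- Orbit instructions. -/
def insT4 : List ℕ := [1,1,1,2,1,1,1,2,1,1,1,0,0,0,2,1,1,1,0,2,0,0,0,2,1,1,0,2,0,0,2,2,0,0,0,0,0,0,2,1,0,2,1,1,2,2,0,0,0,2,1,1,2,0,0,0,0,0,2,1,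
  1,1,0,2,0,0,2,0,0,2,1,1,0,0,0,0,0,0,0,2,1,1,2,1,1,0,2,2,0,0,0,0,0,2,1,1,1,0,2,1,1,0,0,2,0,0,0,2,1,1,0,2,1,0,2,0,0,0,2,1,
  0,2,0,0,0,0,2,1,1,2,0,0,2,1,1,0,0,0,0,0,0,0,2,2,1,1,1,0,0,0,2,1,1,0,2,2,0,0,0,2,1,2,0,0,2,2,2,0,0,0,0,0,0,0,0,0,2,1,1,1,
  2,1,1,1,0,0,2,1,1,0,0,2,1,0,2,0,0,0,0,2,2,2,0,0,0,0,0,2,1,2,1,1,1,0,0,2,1,0,0,0,2,2,1,2,0,0,0,0,0,0,2,1,1,0,2,2,2,0,0,0,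
  0,0,0,0,2,1,1,1,2,1,0,0,0,2,1,0,2,1,1,0,0,2,2,0,0,0,0,0,2,1,1,1,2,0,0,0,2,2,1,0,0,0,0,2,1,1,1,0,0,2,0,0,2,1,0,2,0,0,0,0,
  0,2,1,1,2,2,0,0,0,2,1,0,2,1,1,0,0,0,0,0,2,1,1,2,1,0,0,0,2,1,2,0,0,2,1,0,0,0,0,0,0,0,0,2,1,1,1,2,1,1,2,0,0,0,2,1,0,0,0,0,
  2,1,1,1,0,0,2,1,2,2,0,0,0,2,1,0,2,0,0,0,0,2,1,1,1,0,2,0,0,2,2,0,0,0,2,1,2,2,0,0,0,2,0,0,0,0,0,2,1,1,0,2,1,0,0,0,2,1,1,0,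
  2,1,1,0,0,0,0,2,1,0,2,0,0,0,0,0,2,1,2,1,1,1,2,0,0,0,2,1,1,0,0,2,1,0,0,0,0,2,1,1,1,2,0,0,0,2,2,0,0,0,0,0,0,2,1,2,2,1,1,0,
  2,1,0,0,0,2,0,0,0,0,2,1,1,2,2,0,0,0,2,1,2,0,0,2,2,0,0,0,0,2,1,2,2,0,0,0,2,2,2,0,0,0,0,0,0,0,0,0,0,0,2,1,1,1,2,1,1,2,1,2,
  2,0,0,0,2,2,1,0,0,0,0,0,2,1,1,1,0,0,2,0,0,2,2,1,1,1,0,0,0,2,2,0,0,0,0,0,0,2,1,2,1,1,0,0,0,0,2,2,1,1,1,0,0,0,0,0,0,0,0,2,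
  1,1,1,2,1,1,1,0,2,2,0,0,0,2,2,0,0,0,2,2,1,0,0,0,0,0,2,1,1,1,0,2,2,0,0,0,2,1,2,0,0,2,0,0,0,2,1,0,2,0,0,0,0,2,1,1,0,2,1,1,
  1,0,2,1,0,0,0,0,2,2,1,0,0,0,0,0,2,1,1,1,0,0,0,2,1,1,0,2,0,0,2,1,1,0,2,0,0,0,0,0,0,0,2,1,2,1,2,1,2,0,0,0,0,0,0,2,1,1,0,2,
  1,1,0,0,0,0,2,1,0,0,0,0,0,0,2,1,1,1,2,1,1,1,0,0,2,1,2,0,0,2,1,0,0,0,0,2,0,0,0,2,1,1,1,0,2,0,0,0,2,2,1,1,1,0,0,2,0,0,2,2,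
  2,0,0,0,0,0,0,0,2,1,1,1,2,0,0,2,1,1,0,0,0,0,2,2,1,2,1,0,0,0,2,1,1,0,0,2,2,0,0,0,0,0,0,2,1,0,2,1,1,0,2,0,0,2,1,2,0,0,2,1,
  0,0,0,0,0,0,0,2,1,1,1,2,1,1,2,0,0,2,2,0,0,0,0,0,2,1,2,0,0,2,1,0,2,2,0,0,0,0,0,2,1,0,2,2,1,0,0,0,0,0,2,1,1,1,2,0,0,2,1,2,
  0,0,2,1,1,0,2,2,0,0,0,0,0,0,2,1,1,0,2,2,0,0,0,2,1,1,2,0,0,0,2,1,2,0,0,2,2,0,0,0,0,0,0,2,1,1,1,2,0,0,2,2,1,0,0,0,0,2,1,0,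
  2,2,1,0,0,0,0,0,2,1,1,1,0,0,2,1,0,2,0,0,0,2,1,2,0,0,2,2,0,0,0,0,0,0,0,0,0,2,1,1,1,2,1,2,2,1,0,2,0,0,0,0,2,1,1,2,1,0,0,0,
  0,2,2,0,0,0,0,0,2,1,1,1,0,2,1,0,2,1,2,1,0,0,0,2,1,0,0,0,0,0,2,1,1,0,2,2,1,0,2,0,0,0,0,2,1,0,2,0,0,0,0,2,1,1,1,0,2,2,1,0,
  0,0,0,2,1,2,0,0,0,0,2,1,0,2,1,1,2,0,0,2,0,0,0,0,0,0,0,2,1,1,1,2,1,1,0,2,2,0,0,0,2,2,0,0,0,0,2,1,1,0,2,0,0,2,1,1,1,0,2,0,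
  0,2,0,0,0,0,0,0,2,1,2,1,1,1,0,0,0,0,0,2,1,1,1,2,0,0,2,1,2,2,0,0,0,0,0,2,1,1,2,0,0,0,0,0,2,1,1,2,2,1,0,0,0,0,0,2,1,1,2,0,
  0,2,2,0,0,0,0,0,0,0,0,0,2,1,1,1,2,2,2,1,2,0,0,0,0,0,0,2,1,1,0,2,1,2,0,0,2,1,0,2,2,2,0,0,0,0,0,0,2,1,2,1,0,2,1,0,0,0,0,2,
  0,0,0,0,2,1,1,1,0,2,2,0,0,0,2,1,1,2,0,0,2,0,0,2,1,0,2,1,0,0,0,0,0,2,1,1,1,0,2,2,2,0,0,0,0,2,1,0,2,2,1,0,0,0,0,0,2,1,1,1,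
  0,2,1,0,0,0,2,0,0,2,1,2,1,0,2,0,0,0,2,1,1,0,0,2,0,0,0,0,0,0,0,2,1,1,1,2,1,2,0,0,2,1,2,0,0,2,2,0,0,0,0,0,0,2,1,2,2,1,0,2,
  1,0,0,0,0,0,2,1,1,0,2,1,1,0,0,0,0,2,1,1,0,2,0,0,2,1,0,0,0,0,0,0,2,1,1,1,2,2,2,0,0,0,0,2,1,1,1,0,0,0,0,0,2,1,1,1,0,2,1,0,
  0,0,0,0,0,2,1,1,1,0,2,2,0,0,0,2,1,2,1,0,0,0,0,0,2,1,0,2,1,2,1,0,0,0,2,1,0,0,0,0,0,0,0,0,0,0,0,2,1,1,1,2,1,1,1,0,2,1,0,2,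
  1,0,0,0,0,2,1,1,1,2,1,0,0,0,0,2,1,1,2,0,0,2,1,0,0,0,2,2,0,0,0,0,2,1,1,1,2,0,0,2,1,0,0,0,2,1,0,2,1,2,0,0,0,0,0,2,2,2,1,0,
  0,0,0,0,0,0,2,1,1,1,0,0,2,0,0,2,1,1,1,0,2,0,0,2,1,1,1,0,0,0,2,0,0,0,2,2,0,0,0,0,0,0,2,1,1,1,2,1,2,1,0,0,0,2,2,1,0,2,2,0,
  0,0,0,0,0,0,2,1,1,0,2,2,2,2,1,0,2,0,0,0,0,0,0,2,1,1,2,1,1,0,0,0,0,0,2,1,0,2,1,1,0,2,1,0,0,0,2,1,0,0,0,0,0,0,0,2,1,1,1,0,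
  2,1,0,2,1,1,1,0,0,2,0,0,2,2,2,0,0,0,0,0,0,2,1,1,1,2,1,0,0,0,0,2,1,1,0,2,0,0,2,1,2,0,0,2,1,0,0,0,0,0,2,1,1,2,0,0,2,0,0,2,
  2,2,0,0,0,0,0,0,2,1,1,1,2,1,0,2,2,0,0,0,0,0,2,1,2,2,0,0,0,2,2,1,0,2,0,0,0,0,0,2,1,1,1,0,0,2,1,2,0,0,0,0,2,1,1,1,2,0,0,0,
  2,1,0,0,0,2,1,0,2,0,0,0,0,0,0,0,0,2,1,1,1,2,1,2,1,1,0,2,0,0,2,1,1,1,0,0,0,2,1,2,0,0,0,0,0,0,2,1,1,1,0,2,0,0,2,1,0,0,0,2,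
  0,0,0,0,2,1,1,1,2,1,2,0,0,0,0,2,0,0,2,1,1,1,2,0,0,2,1,0,2,0,0,0,2,1,0,2,0,0,0,2,1,0,2,0,0,0,0,2,1,1,0,2,1,1,2,0,0,0,2,1,
  2,0,0,0,0,0,2,1,1,1,0,2,0,0,2,1,1,0,0,2,0,0,0,2,1,1,0,2,0,0,2,1,1,0,0,2,1,0,0,0,0,0,0,0,0,2,2,1,1,1,2,2,2,0,0,0,0,2,1,1,
  0,0,0,0,2,2,1,1,1,0,0,0,2,0,0,0,0,2,1,1,2,0,0,2,1,0,2,2,1,1,0,0,2,2,0,0,0,0,0,0,2,1,1,1,0,2,0,0,2,1,2,2,0,0,0,0,0,2,0,0,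
  0,0,0,0,2,1,1,1,2,1,2,1,0,2,0,0,0,2,0,0,0,0,2,1,1,1,2,1,1,0,2,0,0,2,2,0,0,0,0,0,0,2,0,0,0,2,1,1,1,2,2,1,0,2,0,0,0,0,2,1,
  1,0,0,2,1,1,0,2,0,0,2,1,0,0,0,0,0,2,1,1,1,0,2,1,0,0,0,2,2,1,0,2,0,0,0,0,2,1,1,0,0,2,2,1,2,0,0,0,0,0,0,0,2,1,1,1,2,2,0,0,
  0,2,1,1,0,0,0,0,2,1,1,0,2,1,0,0,0,2,2,2,0,0,0,0,0,2,1,1,1,0,2,1,0,0,0,0,2,1,2,2,1,0,0,0,0,2,1,2,1,0,0,0,2,2,2,0,0,0,0,0,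
  0,0,0,0,0,0,2,1,1,1,2,2,1,1,1,0,2,0,0,2,1,2,0,0,2,0,0,0,0,0,0,2,1,1,1,0,2,1,1,2,0,0,0,2,2,1,0,0,0,0,0,2,1,1,1,2,2,0,0,0,
  2,1,0,0,0,2,2,0,0,0,2,0,0,0,2,1,1,1,0,2,1,0,2,1,0,2,0,0,0,0,2,2,1,2,0,0,2,0,0,0,0,2,2,1,1,2,1,1,0,2,0,0,0,0,2,2,0,0,0,2,
  1,0,2,0,0,0,0,0,0,0,2,1,1,1,2,0,0,2,1,1,1,2,0,0,2,0,0,2,2,0,0,0,2,1,1,1,0,2,2,2,0,0,0,0,2,1,0,2,1,0,2,0,0,0,0,2,1,1,0,2,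
  0,0,2,0,0,0,0,0,2,1,1,0,2,2,1,1,0,2,1,0,0,0,2,2,1,0,0,0,0,0,0,2,1,1,2,1,2,0,0,0,0,0,2,1,2,0,0,2,0,0,0,0,0,2,1,1,1,2,1,1,
  0,0,2,2,1,0,2,0,0,0,0,0,0,2,1,1,1,2,0,0,2,1,0,0,0,0,2,1,1,0,2,0,0,2,1,0,0,0,0,0,2,1,1,1,0,2,1,1,0,2,2,0,0,0,2,0,0,0,2,1,
  1,1,2,1,0,0,0,0,2,2,0,0,0,2,1,0,2,1,2,2,0,0,0,0,0,0,0,2,1,1,1,2,1,0,0,0,2,1,0,0,0,0,2,1,2,2,0,0,0,2,1,2,0,0,2,0,0,0,0,0,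
  0,0,0,2,1,1,1,2,1,1,1,2,0,0,2,1,0,2,1,0,0,0,0,2,1,0,2,1,0,2,0,0,0,0,2,1,1,0,2,1,2,2,0,0,0,2,2,2,0,0,0,0,0,2,2,0,0,0,0,0,
  2,1,1,1,2,1,0,0,0,2,1,0,2,0,0,0,2,1,1,0,2,2,0,0,0,2,1,0,2,1,2,0,0,0,0,0,0,2,1,1,0,2,1,2,1,0,0,0,2,2,1,0,0,0,0,0,2,1,1,2,
  0,0,0,2,2,0,0,0,0,0,0,2,1,1,1,2,1,1,0,2,1,1,0,0,2,0,0,0,2,1,2,0,0,0,0,0,2,1,1,1,0,2,0,0,2,1,2,0,0,2,2,0,0,0,0,2,2,1,0,0,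
  0,0,0,2,1,1,1,0,2,1,2,0,0,2,2,0,0,0,0,2,1,0,2,1,1,0,0,0,0,0,2,2,1,1,0,0,2,2,0,0,0,0,0,0,2,1,1,2,2,0,0,0,2,1,0,2,1,1,0,2,
  0,0,2,0,0,0,0,2,1,1,0,0,2,1,0,2,1,0,2,1,2,0,0,2,0,0,0,0,0,0,0,0,2,1,1,2,1,1,1,2,0,0,2,2,0,0,0,2,1,1,0,2,2,0,0,0,0,0,2,1,
  1,1,0,2,0,0,0,2,1,1,1,0,0,2,0,0,2,1,2,0,0,2,2,0,0,0,0,0,0,0,2,1,1,1,0,2,1,0,0,0,2,2,1,0,2,1,1,0,0,2,2,0,0,0,0,0,0,2,1,1,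
  1,0,2,0,0,2,1,1,0,0,2,2,0,0,0,0,2,1,0,2,1,0,2,0,0,0,0,0,0,2,1,1,2,1,2,1,0,2,0,0,0,2,1,0,2,1,0,0,0,0,0,2,1,1,0,0,2,1,1,2,
  0,0,0,0,0,0,2,1,1,2,1,2,0,0,2,1,0,2,0,0,0,0,2,1,1,2,0,0,0,0,0,2,1,0,2,1,0,0,0,0,0,0,0,0,0,0,2,1,1,1,2,1,1,1,2,2,2,2,0,0,
  0,0,0,2,1,2,2,2,1,0,0,0,0,0,0,0,2,2,1,1,1,2,0,0,2,1,0,0,0,2,1,0,2,0,0,0,2,0,0,0,0,2,1,1,1,0,2,1,1,1,0,2,0,0,0,2,1,0,2,0,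
  0,0,0,2,1,1,1,2,0,0,2,1,0,0,0,2,1,1,0,2,2,0,0,0,2,0,0,0,2,1,1,0,2,1,0,2,2,0,0,0,0,0,0,0,2,1,2,0,0,2,1,2,1,1,0,0,2,1,0,0,
  0,0,2,1,2,2,0,0,0,2,1,1,0,2,0,0,2,0,0,0,0,0,0,0,0,2,1,1,1,2,1,1,0,2,1,2,1,0,0,0,2,0,0,0,0,0,2,1,1,1,2,0,0,2,2,1,2,0,0,0,
  0,0,2,1,0,2,1,0,2,2,0,0,0,0,0,2,1,2,1,0,2,1,0,0,0,0,2,1,1,1,2,0,0,2,0,0,0,2,0,0,0,0,0,2,1,1,1,2,1,1,1,0,0,0,2,1,1,0,0,0,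
  0,0,2,1,0,2,0,0,0,2,1,1,1,0,2,0,0,2,0,0,0,0,2,1,1,1,2,1,0,0,0,2,1,1,0,2,0,0,2,1,0,2,0,0,0,0,2,2,1,0,2,1,2,0,0,0,0,0,0,2,
  1,1,1,2,0,0,0,2,1,1,0,2,0,0,2,0,0,0,2,1,1,1,0,2,1,0,0,0,2,2,1,0,0,0,0,2,0,0,0,0,0,0,2,1,1,1,0,2,1,1,2,0,0,2,1,1,0,0,2,1,
  0,0,0,0,0,0,2,1,1,1,2,2,0,0,0,2,1,0,2,1,0,0,0,0,2,1,1,0,2,1,0,0,0,2,1,1,0,0,0,0,0,2,2,1,1,0,0,2,0,0,0,0,0,2,1,1,1,2,1,0,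
  2,2,0,0,0,0,2,1,2,2,2,0,0,0,0,2,2,1,2,0,0,2,1,0,0,0,0,0,0,2,1,1,2,0,0,0,2,1,0,2,1,1,0,0,2,2,2,0,0,0,0,0,0,0,2,1,1,1,0,2,
  1,1,2,0,0,0,0,0,2,1,1,0,2,1,0,0,0,2,1,2,0,0,2,1,2,0,0,2,0,0,0,0,0,2,1,2,1,1,0,0,0,0,0,0,0,0,0,0,2,1,1,1,2,1,1,1,0,2,1,2,
  0,0,0,0,2,1,1,1,0,0,2,1,2,0,0,0,0,2,2,1,0,0,0,0,0,2,1,2,2,1,2,0,0,0,0,0,2,1,1,1,0,2,1,0,2,0,0,0,2,1,1,0,0,0,0,2,2,1,2,0,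
  0,2,2,0,0,0,0,0,0,0,0,2,1,1,1,2,1,2,1,0,2,0,0,0,0,0,2,1,2,2,1,0,0,0,0,2,0,0,0,2,1,1,1,2,1,0,0,0,2,2,0,0,0,2,1,2,0,0,2,2,
  2,0,0,0,0,0,2,1,1,1,0,0,2,1,0,0,0,2,0,0,0,0,2,1,1,2,1,0,2,2,0,0,0,0,2,2,2,0,0,0,0,2,1,2,0,0,2,1,1,1,0,2,0,0,0,0,0,0,0,0,
  2,1,1,1,2,1,2,0,0,2,1,1,0,2,0,0,0,0,0,0,2,1,1,1,2,0,0,0,2,1,1,0,2,0,0,2,2,1,0,2,0,0,0,0,0,0,0,2,1,2,1,1,1,0,0,0,2,0,0,0,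
  2,1,2,1,2,1,0,0,0,2,2,1,0,2,0,0,0,0,0,2,1,1,0,0,2,1,1,0,2,1,0,2,0,0,0,2,2,1,0,0,0,0,0,0,0,0,0,2,1,1,1,2,1,1,2,0,0,2,2,1,
  0,2,1,0,0,0,0,0,2,1,1,2,2,0,0,0,0,2,1,0,2,1,0,0,0,0,0,0,2,1,1,1,2,2,0,0,0,2,1,1,0,0,0,0,2,1,0,2,1,0,2,1,0,0,0,0,0,2,1,1,
  2,1,0,0,0,0,2,1,1,1,0,2,0,0,0,2,2,1,0,2,1,0,2,0,0,0,0,0,0,0,0,2,1,1,0,0,2,1,1,1,2,1,1,0,0,0,0,2,2,2,2,0,0,0,0,0,2,2,2,1,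
  1,0,2,0,0,2,0,0,0,0,0,2,1,2,2,1,0,0,0,0,2,2,2,0,0,0,0,0,0,0,2,1,1,1,2,0,0,2,1,2,1,0,0,0,2,1,1,2,0,0,2,0,0,2,2,1,0,0,0,0,
  0,0,2,1,1,1,2,1,0,0,0,2,1,2,0,0,2,2,0,0,0,0,2,1,2,2,2,0,0,0,0,2,1,0,0,0,0,2,1,1,1,0,0,2,1,0,2,1,0,0,0,0,2,1,1,2,1,0,0,0,
  2,2,0,0,0,0,0,0,0,2,1,1,1,2,2,0,0,0,2,1,2,1,0,0,0,2,2,1,0,2,0,0,0,0,0,2,1,1,0,2,1,0,0,0,2,1,0,2,2,1,0,0,0,0,0,0,2,1,1,1,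
  2,0,0,2,1,0,2,1,0,0,0,0,2,1,1,0,2,2,1,0,2,0,0,0,0,2,1,1,0,0,0,0,0,2,1,1,1,2,0,0,2,2,0,0,0,0,2,1,2,2,0,0,0,2,1,2,0,0,2,1,
  0,0,0,0,0,0,0,0,0,0,0,2,1,1,1,2,1,1,1,2,2,1,0,0,0,0,2,1,2,1,0,0,0,2,1,0,2,1,1,0,0,2,0,0,0,0,0,2,1,1,2,1,0,0,0,2,0,0,2,2,
  1,1,1,0,0,0,2,1,0,0,0,0,0,0,2,1,1,1,0,2,1,0,2,0,0,0,2,2,2,0,0,0,0,2,1,1,2,1,0,0,0,0,2,1,1,0,2,0,0,2,2,1,0,0,0,0,0,0,0,0,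
  2,1,1,2,1,1,1,0,2,1,0,0,0,2,1,0,2,0,0,0,2,1,2,1,1,0,2,0,0,2,0,0,0,2,1,1,0,0,2,0,0,0,0,0,2,1,1,1,2,1,1,0,0,2,0,0,0,0,2,1,
  1,1,0,2,0,0,0,2,1,1,1,0,0,0,2,2,0,0,0,0,0,2,1,2,2,0,0,0,2,0,0,0,0,2,1,1,1,2,1,0,2,1,0,0,0,0,2,1,1,2,0,0,0,2,1,0,0,0,0,2,
  1,1,0,0,2,1,2,0,0,2,1,0,2,0,0,0,0,0,2,1,1,1,0,2,1,2,1,0,0,0,2,0,0,0,0,2,1,1,1,0,2,0,0,2,2,0,0,0,0,0,0,0,0,2,1,1,1,2,1,1,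
  2,1,2,0,0,0,0,2,1,1,0,2,0,0,2,0,0,0,2,1,2,1,0,0,0,2,1,0,2,1,0,2,0,0,0,0,0,0,2,1,2,1,1,1,0,2,0,0,0,0,0,2,1,1,2,1,0,2,0,0,
  0,2,2,2,0,0,0,0,2,1,2,1,0,0,0,2,1,0,0,0,0,0,0,2,1,1,1,2,1,1,0,2,0,0,0,0,2,1,2,2,0,0,0,0,0,0,2,1,1,1,0,2,2,0,0,0,2,1,1,2,
  1,0,0,0,0,2,0,0,0,2,1,1,1,0,2,2,0,0,0,0,2,1,1,1,2,0,0,2,0,0,0,2,1,1,2,0,0,0,2,1,0,0,0,0,0,0,0,0,2,1,1,1,2,0,0,2,0,0,2,1,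
  1,1,2,2,0,0,0,2,1,1,1,0,2,0,0,2,0,0,2,0,0,0,0,2,1,1,2,2,0,0,0,0,2,1,1,2,0,0,0,2,2,1,0,0,0,0,0,0,0,2,1,1,1,2,2,0,0,0,2,1,
  1,0,0,2,1,1,2,0,0,0,0,0,0,2,1,2,1,1,0,0,2,1,0,0,0,0,0,0,2,1,1,1,0,2,1,0,0,0,2,1,0,2,1,2,0,0,0,0,0,0,0,0,0,0,2,1,1,1,2,1,
  1,1,2,0,0,2,1,0,2,0,0,0,2,1,2,0,0,2,1,1,0,0,0,0,0,2,0,0,0,2,1,2,1,1,1,0,2,1,0,0,0,2,2,1,2,0,0,0,0,0,2,0,0,0,2,1,1,1,2,1,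
  0,0,0,2,2,1,0,0,0,0,2,1,0,2,1,2,2,0,0,0,2,0,0,0,0,2,1,0,2,1,1,1,0,2,0,0,0,0,0,0,0,0,2,1,1,1,2,1,1,0,0,2,0,0,0,2,1,1,1,2,
  0,0,2,0,0,2,1,0,0,0,2,1,0,2,1,1,0,0,0,0,0,0,2,1,1,1,2,1,0,0,0,0,2,1,1,2,2,0,0,0,2,2,1,0,0,0,0,2,1,1,0,0,2,1,0,0,0,0,0,2,
  1,0,2,0,0,0,0,2,1,1,1,2,1,2,0,0,2,0,0,0,2,2,1,0,0,0,0,2,1,0,2,1,2,1,0,0,0,2,0,0,0,0,2,1,1,1,2,0,0,0,2,2,1,2,0,0,0,0,0,2,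
  1,1,2,1,0,0,0,2,1,2,0,0,2,0,0,0,2,1,0,2,1,2,0,0,2,1,0,2,0,0,0,0,0,0,0,0,0,2,1,1,1,2,1,0,2,1,2,0,0,2,1,0,2,2,0,0,0,0,0,0,
  2,1,1,1,2,0,0,2,2,2,0,0,0,0,2,1,1,2,0,0,0,2,1,0,0,0,0,2,2,2,1,0,2,0,0,0,0,0,0,2,2,1,1,1,2,2,0,0,0,2,0,0,2,1,1,1,0,0,0,2,
  2,0,0,0,0,2,1,0,2,2,1,0,2,1,0,0,0,0,0,0,0,0,2,1,1,1,2,1,0,0,0,2,1,1,1,0,0,2,1,1,2,0,0,0,0,0,2,1,0,0,0,0,2,1,1,1,2,2,0,0,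
  0,2,1,2,0,0,2,2,0,0,0,0,2,1,1,2,0,0,2,0,0,0,0,2,1,0,2,1,0,2,2,0,0,0,0,0,0,2,1,1,1,2,1,1,0,2,0,0,2,0,0,0,0,2,1,1,1,0,2,2,
  0,0,0,2,0,0,0,0,2,1,2,1,0,2,0,0,0,2,1,2,0,0,2,2]

end Cfsg.Agent.Lib.Helper12.Golay
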