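import Mathlib
import Cfsg.Prelude.Def_Sporadic_a
import Cfsg.Prelude.Def_SporadicCombinatorics
import Cfsg.Agent.Lib.Helper12.Golay.TrioData

set_option autoImplicit false

namespace Cfsg.Agent.Lib.Helper12.Golay

open Cfsg
open scoped Pointwise

/-- Boolean test that a triple of bitmasks describes a trio. -/
def isTrioK (t : Code3) : Bool :=
  Nat.ble (Nat.succ t.1) t.2.1 && Nat.ble (Nat.succ t.2.1) t.2.2 && Nat.ble (Nat.succ t.2.2) 16777215 &&
  isCodeF t.1 && isCodeF t.2.1 && isCodeF t.2.2 &&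
  Nat.beq (popcF t.1) 8 && Nat.beq (popcF t.2.1) 8 && Nat.beq (popcF t.2.2) 8 &&
  Nat.beq (Nat.land t.1 t.2.1) 0 && Nat.beq (Nat.land t.1 t.2.2) 0 && Nat.beq (Nat.land t.2.1 t.2.2) 0

theorem fs_disjoint {a b : ℕ} (h : Nat.land a b = 0) : Disjoint (fs a) (fs b) := by
  rw [Finset.disjoint_iff_inter_eq_empty, ← fs_and, ← fs_zero]
  exact congrArg fs h

theorem isTrioK_spec {t : Code3} (h : isTrioK t = true) : Sorted3 t ∧ D3 t ∈ trios := by
  obtain ⟨a, b, c⟩ := t
  simp only [isTrioK, Bool.and_eq_true, natBeq_iff] at h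
  obtain ⟨⟨⟨⟨⟨⟨⟨⟨⟨⟨⟨h1, h2⟩, h3⟩, ca⟩, cb⟩, cc⟩, pa⟩, pb⟩, pc⟩, dab⟩, dac⟩, dbc⟩ := h
  have s1 : a < b := Nat.lt_of_succ_le (ble_true h1)
  have s2 : b < c := Nat.lt_of_succ_le (ble_true h2)
  have s3 : c < 2 ^ 24 := by have := ble_true h3; omega
  have la : a < 2 ^ 24 := by omega
  have lb : b < 2 ^ 24 := by omega
  have oa : fs a ∈ octads := by
    rw [fs_mem_octads_iff la, ← isCodeF_eq, ← popcF_eq la]; exact ⟨ca, pa⟩
  have ob : fs b ∈ octads := by
    rw [fs_mem_octads_iff lb, ← isCodeF_eq, ← popcF_eq lb]; exact ⟨cb, pb⟩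
  have oc : fs c ∈ octads := by
    rw [fs_mem_octads_iff s3, ← isCodeF_eq, ← popcF_eq s3]; exact ⟨cc, pc⟩
  have nab : fs a ≠ fs b := fun h => by have := fs_inj la lb h; omega
  have nac : fs a ≠ fs c := fun h => by have := fs_inj la s3 h; omega
  have nbc : fs b ≠ fs c := fun h => by have := fs_inj lb s3 h; omega
  have d1 := fs_disjoint dab
  have d2 := fs_disjoint dac
  have d3 := fs_disjoint dbc
  refine ⟨⟨s1, s2, s3⟩, ?_, ?_, ?_⟩
  · rw [D3, Finset.card_insert_of_notMem, Finset.card_insert_of_notMem, Finset.card_singleton]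
    · rw [Finset.mem_singleton]; exact nbc
    · rw [Finset.mem_insert, Finset.mem_singleton]
      rintro (h | h)
      · exact nab h
      · exact nac h
  · intro o ho
    rw [D3, Finset.mem_insert, Finset.mem_insert, Finset.mem_singleton] at ho
    rcases ho with rfl | rfl | rfl
    · exact oa
    · exact ob
    · exact oc
  · intro o ho o' ho' hne
    rw [D3, Finset.mem_insert, Finset.mem_insert, Finset.mem_singleton] at ho ho'
    rcases ho with rfl | rfl | rfl <;> rcases ho' with rfl | rfl | rfl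
    · exact absurd rfl hne
    · exact d1
    · exact d2
    · exact d1.symm
    · exact absurd rfl hne
    · exact d3
    · exact d2.symm
    · exact d3.symm
    · exact absurd rfl hne

/-- The standard trio as a set of octads. -/
def T₀ : Finset (Finset GolayPt) := D3 t₀

/-- The stabiliser of the standard trio in the group of the code. -/
def stabT : Subgroup (Equiv.Perm GolayPt) :=
  M24 ⊓ MulAction.stabilizer (Equiv.Perm GolayPt) T₀

theorem reps_ok : isTrioK t₀ = true ∧ isTrioK xT1 = true ∧ isTrioK xT2 = true ∧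
    isTrioK xT3 = true ∧ isTrioK xT4 = true := by decide +kernel

theorem sorted_t₀ : Sorted3 t₀ := (isTrioK_spec reps_ok.1).1

theorem T₀_mem : T₀ ∈ trios := (isTrioK_spec reps_ok.1).2

theorem stabTGens_ok : ∀ T ∈ stabTGens, ValidT T ∧ permT T ∈ stabT := by
  have h : ∀ T ∈ stabTGens, okK T = true ∧ actT3 T t₀ = t₀ := by decide +kernel
  intro T hT
  obtain ⟨h1, h2⟩ := h T hT
  have hv := okK_valid h1
  refine ⟨hv, permT_mem_M24' h1, ?_⟩
  show permT T • T₀ = T₀
  rw [T₀, ← (D3_actT3 hv sorted_t₀).1, h2]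

theorem repTabs_ok : ∀ i : Fin 4, okK (repTabs.getD i []) = true ∧
    actT3 (repTabs.getD i []) t₀ = [xT1, xT2, xT3, xT4].getD i t₀ := by decide +kernel

/-- The four orbit lists. -/
def LT1 : List Code3 := orb3 stabTGens insT1 xT1
/-- See `LT1`. -/
def LT2 : List Code3 := orb3 stabTGens insT2 xT2
/-- See `LT1`. -/
def LT3 : List Code3 := orb3 stabTGens insT3 xT3
/-- See `LT1`. -/
def LT4 : List Code3 := orb3 stabTGens insT4 xT4

/-- All the triples found. -/
def LTall : List Code3 := t₀ :: (LT1 ++ (LT2 ++ (LT3 ++ LT4)))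

theorem lists_ok : nodupK3 LTall 0 = true ∧ LT1.length = 42 ∧ LT2.length = 56 ∧
    LT3.length = 1008 ∧ LT4.length = 2688 := by decide +kernel

end Cfsg.Agent.Lib.Helper12.Golay
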