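import Mathlib
import Cfsg.Prelude.Def_Sporadic_a
import Cfsg.Prelude.Def_SporadicCombinatorics
import Cfsg.Agent.Lib.Helper12.Golay.TrioOrbits

set_option autoImplicit false

namespace Cfsg.Agent.Lib.Helper12.Golay

open Cfsg
open scoped Pointwise

/-! ### The invariant separating the orbits of a trio stabiliser -/

/-- The sum of the squares of the intersection sizes of the members of two families of sets. -/
def I3 (T X : Finset (Finset GolayPt)) : ℕ := ∑ o ∈ T, ∑ x ∈ X, (o ∩ x).card ^ 2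

theorem I3_smul (g : M24) (T X : Finset (Finset GolayPt)) : I3 (g • T) (g • X) = I3 T X := by
  rw [I3, I3, Finset.smul_finset_def, Finset.sum_image (fun a _ b _ h => MulAction.injective g h)]
  apply Finset.sum_congr rfl
  intro o _
  rw [Finset.smul_finset_def, Finset.sum_image (fun a _ b _ h => MulAction.injective g h)]
  apply Finset.sum_congr rfl
  intro x _
  rw [← Finset.smul_finset_inter, Finset.card_smul_finset]

/-- The invariant computed on triples of bitmasks. -/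
def invK (s t : Code3) : ℕ :=
  let f := fun a b : ℕ => Nat.mul (popcF (Nat.land a b)) (popcF (Nat.land a b))
  Nat.add (Nat.add (f s.1 t.1) (Nat.add (f s.1 t.2.1) (f s.1 t.2.2)))
    (Nat.add (Nat.add (f s.2.1 t.1) (Nat.add (f s.2.1 t.2.1) (f s.2.1 t.2.2)))
      (Nat.add (f s.2.2 t.1) (Nat.add (f s.2.2 t.2.1) (f s.2.2 t.2.2))))

theorem sum_D3 {t : Code3} (ht : Sorted3 t) (F : Finset GolayPt → ℕ) :
    ∑ x ∈ D3 t, F x = F (fs t.1) + (F (fs t.2.1) + F (fs t.2.2)) := by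
  obtain ⟨a, b, c⟩ := t
  obtain ⟨h1, h2, h3⟩ := ht
  simp only at h1 h2 h3
  have la : a < 2 ^ 24 := by omega
  have lb : b < 2 ^ 24 := by omega
  have nab : fs a ≠ fs b := fun h => by have := fs_inj la lb h; omega
  have nac : fs a ≠ fs c := fun h => by have := fs_inj la h3 h; omega
  have nbc : fs b ≠ fs c := fun h => by have := fs_inj lb h3 h; omega
  rw [D3, Finset.sum_insert, Finset.sum_insert, Finset.sum_singleton]
  · rw [Finset.mem_singleton]; exact nbc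
  · rw [Finset.mem_insert, Finset.mem_singleton]
    rintro (h | h)
    · exact nab h
    · exact nac h

theorem card_inter_fs {a b : ℕ} (ha : a < 2 ^ 24) (hb : b < 2 ^ 24) :
    (fs a ∩ fs b).card ^ 2 = Nat.mul (popcF (Nat.land a b)) (popcF (Nat.land a b)) := by
  rw [card_fs_inter ha, mask_fs hb, pow_two]
  rfl

theorem I3_D3 {s t : Code3} (hs : Sorted3 s) (ht : Sorted3 t) : I3 (D3 s) (D3 t) = invK s t := by
  rw [I3, sum_D3 hs, sum_D3 ht, sum_D3 ht, sum_D3 ht]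
  obtain ⟨a, b, c⟩ := s
  obtain ⟨a', b', c'⟩ := t
  obtain ⟨h1, h2, h3⟩ := hs
  obtain ⟨h1', h2', h3'⟩ := ht
  simp only at h1 h2 h3 h1' h2' h3'
  have la : a < 2 ^ 24 := by omega
  have lb : b < 2 ^ 24 := by omega
  have la' : a' < 2 ^ 24 := by omega
  have lb' : b' < 2 ^ 24 := by omega
  simp only [card_inter_fs la la', card_inter_fs la lb', card_inter_fs la h3',
    card_inter_fs lb la', card_inter_fs lb lb', card_inter_fs lb h3',
    card_inter_fs h3 la', card_inter_fs h3 lb', card_inter_fs h3 h3']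
  rfl

theorem invK_reps : invK t₀ t₀ = 192 ∧ invK t₀ xT1 = 128 ∧ invK t₀ xT2 = 96 ∧ invK t₀ xT3 = 80 ∧
    invK t₀ xT4 = 72 := by decide +kernel

/-- Every member of an orbit list is the image of the representative under the stabiliser. -/
theorem LT_spec (ins : List ℕ) (x : Code3) (hx : isTrioK x = true) :
    ∀ t ∈ orb3 stabTGens ins x, Sorted3 t ∧ D3 t ∈ trios ∧ (∃ g ∈ stabT, g • D3 x = D3 t) ∧
      I3 T₀ (D3 t) = invK t₀ x := by
  intro t ht
  obtain ⟨hxs, hxt⟩ := isTrioK_spec hx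
  obtain ⟨h1, g, hg, hgt⟩ := orb3_spec stabT stabTGens stabTGens_ok ins x hxs t ht
  have hmem : D3 t ∈ trios := by
    rw [← hgt]
    exact Cfsg.Agent.S1557.smul_trios ⟨g, hg.1⟩ _ hxt
  refine ⟨h1, hmem, ⟨g, hg, hgt⟩, ?_⟩
  have hgT : (⟨g, hg.1⟩ : M24) • T₀ = T₀ := hg.2
  have e := I3_smul ⟨g, hg.1⟩ T₀ (D3 x)
  rw [hgT] at e
  have e' : (⟨g, hg.1⟩ : M24) • D3 x = D3 t := hgt
  rw [e'] at e
  rw [e, T₀, I3_D3 sorted_t₀ hxs]

theorem mem_LTall (t : Code3) :
    t ∈ LTall ↔ t = t₀ ∨ t ∈ LT1 ∨ t ∈ LT2 ∨ t ∈ LT3 ∨ t ∈ LT4 := by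
  rw [LTall, List.mem_cons, List.mem_append, List.mem_append, List.mem_append]

theorem LTall_props : ∀ t ∈ LTall, Sorted3 t ∧ D3 t ∈ trios := by
  intro t ht
  rw [mem_LTall] at ht
  rcases ht with rfl | ht | ht | ht | ht
  · exact ⟨sorted_t₀, T₀_mem⟩
  · have := LT_spec insT1 xT1 reps_ok.2.1 t ht; exact ⟨this.1, this.2.1⟩
  · have := LT_spec insT2 xT2 reps_ok.2.2.1 t ht; exact ⟨this.1, this.2.1⟩
  · have := LT_spec insT3 xT3 reps_ok.2.2.2.1 t ht; exact ⟨this.1, this.2.1⟩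
  · have := LT_spec insT4 xT4 reps_ok.2.2.2.2 t ht; exact ⟨this.1, this.2.1⟩

theorem LTall_length : LTall.length = 3795 := by
  rw [LTall, List.length_cons, List.length_append, List.length_append, List.length_append,
    lists_ok.2.1, lists_ok.2.2.1, lists_ok.2.2.2.1, lists_ok.2.2.2.2]

/-- Every trio occurs in the list. -/
theorem trios_complete (X : Finset (Finset GolayPt)) (hX : X ∈ trios) : ∃ t ∈ LTall, D3 t = X := by
  have hcard := card_D3_of_nodupK3 (fun t ht => (LTall_props t ht).1) lists_ok.1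
  rw [LTall_length] at hcard
  have hsub : (↑((LTall.map D3).toFinset) : Set (Finset (Finset GolayPt))) ⊆ trios := by
    intro Y hY
    rw [Finset.mem_coe, List.mem_toFinset, List.mem_map] at hY
    obtain ⟨t, ht, rfl⟩ := hY
    exact (LTall_props t ht).2
  have heq := Set.eq_of_subset_of_ncard_le hsub (by
    rw [Set.ncard_coe_finset, hcard, Cfsg.Agent.S1557.result.2]) (Set.toFinite _)
  rw [← heq, Finset.mem_coe, List.mem_toFinset, List.mem_map] at hX
  exact hX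

/-- The values of the invariant, and the representatives. -/
theorem trios_classes (X : Finset (Finset GolayPt)) (hX : X ∈ trios) :
    (I3 T₀ X = 192 ∧ X = T₀) ∨ (I3 T₀ X = 128 ∧ ∃ g ∈ stabT, g • D3 xT1 = X) ∨
    (I3 T₀ X = 96 ∧ ∃ g ∈ stabT, g • D3 xT2 = X) ∨ (I3 T₀ X = 80 ∧ ∃ g ∈ stabT, g • D3 xT3 = X) ∨
    (I3 T₀ X = 72 ∧ ∃ g ∈ stabT, g • D3 xT4 = X) := by
  obtain ⟨t, ht, rfl⟩ := trios_complete X hX
  rw [mem_LTall] at ht
  rcases ht with rfl | ht | ht | ht | ht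
  · left
    refine ⟨?_, rfl⟩
    rw [T₀, I3_D3 sorted_t₀ sorted_t₀, invK_reps.1]
  · right; left
    obtain ⟨_, _, h3, h4⟩ := LT_spec insT1 xT1 reps_ok.2.1 t ht
    exact ⟨by rw [h4, invK_reps.2.1], h3⟩
  · right; right; left
    obtain ⟨_, _, h3, h4⟩ := LT_spec insT2 xT2 reps_ok.2.2.1 t ht
    exact ⟨by rw [h4, invK_reps.2.2.1], h3⟩
  · right; right; right; left
    obtain ⟨_, _, h3, h4⟩ := LT_spec insT3 xT3 reps_ok.2.2.2.1 t ht
    exact ⟨by rw [h4, invK_reps.2.2.2.1], h3⟩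
  · right; right; right; right
    obtain ⟨_, _, h3, h4⟩ := LT_spec insT4 xT4 reps_ok.2.2.2.2 t ht
    exact ⟨by rw [h4, invK_reps.2.2.2.2], h3⟩

/-- The representatives are images of the standard trio under the group of the code. -/
theorem reps_conj : ∀ i : Fin 4, ∃ g ∈ M24, g • T₀ = D3 ([xT1, xT2, xT3, xT4].getD i t₀) := by
  intro i
  obtain ⟨h1, h2⟩ := repTabs_ok i
  have hv := okK_valid h1
  refine ⟨permT _, permT_mem_M24' h1, ?_⟩
  rw [T₀, ← (D3_actT3 hv sorted_t₀).1, h2]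

/-- The group of the code is transitive on trios. -/
theorem trios_transitive (X : Finset (Finset GolayPt)) (hX : X ∈ trios) :
    ∃ g ∈ M24, g • T₀ = X := by
  rcases trios_classes X hX with ⟨_, rfl⟩ | ⟨_, g, hg, rfl⟩ | ⟨_, g, hg, rfl⟩ | ⟨_, g, hg, rfl⟩ |
    ⟨_, g, hg, rfl⟩
  · exact ⟨1, M24.one_mem, one_smul _ _⟩
  · obtain ⟨k, hk, e⟩ := reps_conj 0
    exact ⟨g * k, M24.mul_mem hg.1 hk, by rw [mul_smul, e]; rfl⟩
  · obtain ⟨k, hk, e⟩ := reps_conj 1
    exact ⟨g * k, M24.mul_mem hg.1 hk, by rw [mul_smul, e]; rfl⟩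
  · obtain ⟨k, hk, e⟩ := reps_conj 2
    exact ⟨g * k, M24.mul_mem hg.1 hk, by rw [mul_smul, e]; rfl⟩
  · obtain ⟨k, hk, e⟩ := reps_conj 3
    exact ⟨g * k, M24.mul_mem hg.1 hk, by rw [mul_smul, e]; rfl⟩

/-- The sizes of the classes. -/
theorem ncard_class (x : Code3) (ins : List ℕ) (hx : isTrioK x = true) (v n : ℕ)
    (hv : invK t₀ x = v) (hsub : (orb3 stabTGens ins x).Sublist LTall)
    (hlen : (orb3 stabTGens ins x).length = n)
    (hall : ∀ X ∈ trios, I3 T₀ X = v → ∃ t ∈ orb3 stabTGens ins x, D3 t = X) :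
    {X : Finset (Finset GolayPt) | X ∈ trios ∧ I3 T₀ X = v}.ncard = n := by
  have hnd : ((orb3 stabTGens ins x).map D3).Nodup := by
    obtain ⟨_, h2⟩ := nodupK3_spec lists_ok.1
    have hL : LTall.Nodup := List.Nodup.of_map _ h2
    apply List.Nodup.map_on _ (hL.sublist hsub)
    intro a ha b hb hab
    exact D3_injOn (LTall_props a (hsub.subset ha)).1 (LTall_props b (hsub.subset hb)).1 hab
  have hset : {X : Finset (Finset GolayPt) | X ∈ trios ∧ I3 T₀ X = v} =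
      ↑(((orb3 stabTGens ins x).map D3).toFinset) := by
    ext X
    rw [Finset.mem_coe, List.mem_toFinset, List.mem_map]
    constructor
    · rintro ⟨h1, h2⟩
      exact hall X h1 h2
    · rintro ⟨t, ht, rfl⟩
      obtain ⟨_, h2, _, h4⟩ := LT_spec ins x hx t ht
      exact ⟨h2, by rw [h4, hv]⟩
  rw [hset, Set.ncard_coe_finset, List.toFinset_card_of_nodup hnd, List.length_map, hlen]

/-- The representatives of the five classes. -/
def repT : Fin 5 → Code3
  | ⟨0, _⟩ => t₀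
  | ⟨1, _⟩ => xT1
  | ⟨2, _⟩ => xT2
  | ⟨3, _⟩ => xT3
  | ⟨4, _⟩ => xT4

/-- The five lists. -/
def LTof : Fin 5 → List Code3
  | ⟨0, _⟩ => [t₀]
  | ⟨1, _⟩ => LT1
  | ⟨2, _⟩ => LT2
  | ⟨3, _⟩ => LT3
  | ⟨4, _⟩ => LT4

/-- The values of the invariant on the five classes. -/
def vT : Fin 5 → ℕ
  | ⟨0, _⟩ => 192
  | ⟨1, _⟩ => 128
  | ⟨2, _⟩ => 96
  | ⟨3, _⟩ => 80
  | ⟨4, _⟩ => 72

/-- The sizes of the five classes. -/
def nT : Fin 5 → ℕ
  | ⟨0, _⟩ => 1
  | ⟨1, _⟩ => 42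
  | ⟨2, _⟩ => 56
  | ⟨3, _⟩ => 1008
  | ⟨4, _⟩ => 2688

theorem vT_injective : Function.Injective vT := by decide

theorem trios_cases (X : Finset (Finset GolayPt)) (hX : X ∈ trios) :
    ∃ i : Fin 5, ∃ t ∈ LTof i, D3 t = X := by
  obtain ⟨t, ht, rfl⟩ := trios_complete X hX
  rw [mem_LTall] at ht
  rcases ht with rfl | ht | ht | ht | ht
  · exact ⟨0, t₀, List.mem_singleton.mpr rfl, rfl⟩
  · exact ⟨1, t, ht, rfl⟩
  · exact ⟨2, t, ht, rfl⟩
  · exact ⟨3, t, ht, rfl⟩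
  · exact ⟨4, t, ht, rfl⟩

theorem LTof_spec (i : Fin 5) (t : Code3) (ht : t ∈ LTof i) :
    Sorted3 t ∧ D3 t ∈ trios ∧ (∃ g ∈ stabT, g • D3 (repT i) = D3 t) ∧ I3 T₀ (D3 t) = vT i := by
  fin_cases i
  · have e : t = t₀ := List.mem_singleton.mp ht
    rw [e]
    refine ⟨sorted_t₀, T₀_mem, ⟨1, stabT.one_mem, one_smul _ _⟩, ?_⟩
    rw [T₀, I3_D3 sorted_t₀ sorted_t₀, invK_reps.1]; rfl
  · obtain ⟨h1, h2, h3, h4⟩ := LT_spec insT1 xT1 reps_ok.2.1 t ht
    exact ⟨h1, h2, h3, by rw [h4, invK_reps.2.1]; rfl⟩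
  · obtain ⟨h1, h2, h3, h4⟩ := LT_spec insT2 xT2 reps_ok.2.2.1 t ht
    exact ⟨h1, h2, h3, by rw [h4, invK_reps.2.2.1]; rfl⟩
  · obtain ⟨h1, h2, h3, h4⟩ := LT_spec insT3 xT3 reps_ok.2.2.2.1 t ht
    exact ⟨h1, h2, h3, by rw [h4, invK_reps.2.2.2.1]; rfl⟩
  · obtain ⟨h1, h2, h3, h4⟩ := LT_spec insT4 xT4 reps_ok.2.2.2.2 t ht
    exact ⟨h1, h2, h3, by rw [h4, invK_reps.2.2.2.2]; rfl⟩

theorem LTof_sublist (i : Fin 5) : (LTof i).Sublist LTall := by
  have h1 : (LT1 ++ (LT2 ++ (LT3 ++ LT4))).Sublist LTall := List.Sublist.cons _ (List.Sublist.refl _)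
  fin_cases i
  · exact List.Sublist.cons_cons _ (List.nil_sublist _)
  · exact (List.sublist_append_left _ _).trans h1
  · exact ((List.sublist_append_left _ _).trans (List.sublist_append_right _ _)).trans h1
  · exact (((List.sublist_append_left _ _).trans (List.sublist_append_right _ _)).trans
      (List.sublist_append_right _ _)).trans h1
  · exact (((List.sublist_append_right _ _).trans (List.sublist_append_right _ _)).trans
      (List.sublist_append_right _ _)).trans h1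

theorem LTof_length (i : Fin 5) : (LTof i).length = nT i := by
  fin_cases i
  · rfl
  · exact lists_ok.2.1
  · exact lists_ok.2.2.1
  · exact lists_ok.2.2.2.1
  · exact lists_ok.2.2.2.2

/-- The size of each class of trios. -/
theorem ncard_classT (i : Fin 5) :
    {X : Finset (Finset GolayPt) | X ∈ trios ∧ I3 T₀ X = vT i}.ncard = nT i := by
  have hnd : ((LTof i).map D3).Nodup := by
    obtain ⟨_, h2⟩ := nodupK3_spec lists_ok.1
    have hL : LTall.Nodup := List.Nodup.of_map _ h2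
    apply List.Nodup.map_on _ (hL.sublist (LTof_sublist i))
    intro a ha b hb hab
    exact D3_injOn (LTall_props a ((LTof_sublist i).subset ha)).1
      (LTall_props b ((LTof_sublist i).subset hb)).1 hab
  have hset : {X : Finset (Finset GolayPt) | X ∈ trios ∧ I3 T₀ X = vT i} =
      ↑(((LTof i).map D3).toFinset) := by
    ext X
    rw [Finset.mem_coe, List.mem_toFinset, List.mem_map]
    constructor
    · rintro ⟨h1, h2⟩
      obtain ⟨j, t, ht, rfl⟩ := trios_cases X h1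
      have := (LTof_spec j t ht).2.2.2
      rw [h2] at this
      rw [vT_injective this]
      exact ⟨t, ht, rfl⟩
    · rintro ⟨t, ht, rfl⟩
      obtain ⟨_, h2, _, h4⟩ := LTof_spec i t ht
      exact ⟨h2, h4⟩
  rw [hset, Set.ncard_coe_finset, List.toFinset_card_of_nodup hnd, List.length_map, LTof_length]

/-- Trios with the same invariant are conjugate under the stabiliser of the standard trio. -/
theorem base_homogT (X X' : Finset (Finset GolayPt)) (hX : X ∈ trios) (hX' : X' ∈ trios)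
    (h : I3 T₀ X = I3 T₀ X') : ∃ g : M24, g • T₀ = T₀ ∧ g • X = X' := by
  obtain ⟨i, t, ht, rfl⟩ := trios_cases X hX
  obtain ⟨j, t', ht', rfl⟩ := trios_cases X' hX'
  obtain ⟨_, _, ⟨g, hg, e⟩, hv⟩ := LTof_spec i t ht
  obtain ⟨_, _, ⟨g', hg', e'⟩, hv'⟩ := LTof_spec j t' ht'
  rw [hv, hv'] at h
  have hij := vT_injective h
  rw [← hij] at e'
  refine ⟨⟨g', hg'.1⟩ * ⟨g, hg.1⟩⁻¹, ?_, ?_⟩
  · rw [mul_smul]
    have h1 : (⟨g, hg.1⟩ : M24)⁻¹ • T₀ = T₀ := by
      rw [inv_smul_eq_iff]; exact hg.2.symm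
    rw [h1]; exact hg'.2
  · rw [mul_smul]
    have h1 : (⟨g, hg.1⟩ : M24)⁻¹ • D3 t = D3 (repT i) := by
      rw [inv_smul_eq_iff]; exact e.symm
    rw [h1]; exact e'

theorem repT_mem (i : Fin 5) : D3 (repT i) ∈ trios := by
  fin_cases i
  · exact T₀_mem
  · exact (isTrioK_spec reps_ok.2.1).2
  · exact (isTrioK_spec reps_ok.2.2.1).2
  · exact (isTrioK_spec reps_ok.2.2.2.1).2
  · exact (isTrioK_spec reps_ok.2.2.2.2).2

theorem I3_repT (i : Fin 5) : I3 T₀ (D3 (repT i)) = vT i := by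
  fin_cases i
  · show I3 T₀ (D3 t₀) = 192
    rw [T₀, I3_D3 sorted_t₀ sorted_t₀, invK_reps.1]
  · show I3 T₀ (D3 xT1) = 128
    rw [T₀, I3_D3 sorted_t₀ (isTrioK_spec reps_ok.2.1).1, invK_reps.2.1]
  · show I3 T₀ (D3 xT2) = 96
    rw [T₀, I3_D3 sorted_t₀ (isTrioK_spec reps_ok.2.2.1).1, invK_reps.2.2.1]
  · show I3 T₀ (D3 xT3) = 80
    rw [T₀, I3_D3 sorted_t₀ (isTrioK_spec reps_ok.2.2.2.1).1, invK_reps.2.2.2.1]
  · show I3 T₀ (D3 xT4) = 72
    rw [T₀, I3_D3 sorted_t₀ (isTrioK_spec reps_ok.2.2.2.2).1, invK_reps.2.2.2.2]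

end Cfsg.Agent.Lib.Helper12.Golay
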